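import Mathlib
import Cfsg.Prelude.Def_MonsterType
import Cfsg.Agent.Lib.Helper90.Extraspecial

set_option autoImplicit false

namespace Cfsg.Agent.Lib.Helper90

open scoped commutatorElement

/-- Recognition of extraspecial `2`-groups from elementwise data. -/
theorem isExtraspecial_of {P : Type*} [Group P] [Finite P] (z : P) (h2 : IsPGroup 2 P)
    (hz1 : z ≠ 1) (hzz : z * z = 1) (hzc : ∀ q, q * z = z * q)
    (hcen : ∀ y, (∀ q, q * y = y * q) → y = 1 ∨ y = z)
    (hcomm : ∀ x y : P, x * y = y * x ∨ x * y = z * (y * x))
    (hnonab : ∃ x y : P, x * y ≠ y * x) : Cfsg.IsExtraspecial 2 P := by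
  have : Fact (Nat.Prime 2) := ⟨Nat.prime_two⟩
  have hzcen : z ∈ Subgroup.center P := Subgroup.mem_center_iff.mpr hzc
  have hmemc : ∀ y, y ∈ Subgroup.center P ↔ y = 1 ∨ y = z := by
    intro y
    constructor
    · intro hy
      exact hcen y (Subgroup.mem_center_iff.mp hy)
    · rintro (rfl | rfl)
      · exact Subgroup.one_mem _
      · exact hzcen
  have hcm : commutator P = Subgroup.center P := by
    apply le_antisymm
    · rw [commutator_eq_closure, Subgroup.closure_le]
      rintro _ ⟨a, b, rfl⟩
      rw [SetLike.mem_coe, hmemc, commutatorElement_def]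
      rcases hcomm a b with h | h
      · left; rw [h]; group
      · right; rw [h]; group
    · intro y hy
      rcases (hmemc y).mp hy with rfl | rfl
      · exact Subgroup.one_mem _
      · obtain ⟨a, b, hab⟩ := hnonab
        have h1 : a * b = y * (b * a) := (hcomm a b).resolve_left hab
        have h2 : ⁅a, b⁆ = y := by
          rw [commutatorElement_def, h1]; group
        rw [← h2]
        exact Subgroup.commutator_mem_commutator (Subgroup.mem_top _) (Subgroup.mem_top _)
  refine ⟨⟨h2, ?_, hcm⟩, ?_⟩
  · apply le_antisymm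
    · intro x hx
      rw [Subgroup.mem_center_iff]
      by_contra hcon
      push Not at hcon
      obtain ⟨y, hy⟩ := hcon
      have hco : IsCoatom (Subgroup.centralizer ({y} : Set P)) := by
        constructor
        · intro htop
          have : x ∈ Subgroup.centralizer ({y} : Set P) := by rw [htop]; exact Subgroup.mem_top _
          rw [Subgroup.mem_centralizer_singleton_iff] at this
          exact hy this.symm
        · intro K hK
          obtain ⟨k, hkK, hkM⟩ := SetLike.exists_of_lt hK
          rw [Subgroup.mem_centralizer_singleton_iff] at hkM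
          have hk : k * y = z * (y * k) := (hcomm k y).resolve_left hkM
          rw [eq_top_iff]
          intro q _
          by_cases hq : q * y = y * q
          · exact hK.le (Subgroup.mem_centralizer_singleton_iff.mpr hq)
          · have hq' : q * y = z * (y * q) := (hcomm q y).resolve_left hq
            have h3 : k⁻¹ * y = z * (y * k⁻¹) := by
              have e : y = z * (k⁻¹ * y * k) := by
                calc y = k⁻¹ * (k * y) := by group
                  _ = (k⁻¹ * z) * y * k := by rw [hk]; group
                  _ = z * (k⁻¹ * y * k) := by rw [hzc k⁻¹]; group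
              calc k⁻¹ * y = (z * z) * (k⁻¹ * y * k) * k⁻¹ := by rw [hzz]; group
                _ = z * (z * (k⁻¹ * y * k)) * k⁻¹ := by group
                _ = z * (y * k⁻¹) := by rw [← e]; group
            have h4 : (k⁻¹ * q) * y = y * (k⁻¹ * q) := by
              calc k⁻¹ * q * y = k⁻¹ * (q * y) := by group
                _ = (k⁻¹ * z) * y * q := by rw [hq']; group
                _ = z * (k⁻¹ * y) * q := by rw [hzc k⁻¹]; group
                _ = (z * z) * y * k⁻¹ * q := by rw [h3]; group
                _ = y * (k⁻¹ * q) := by rw [hzz]; group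
            have h5 : k⁻¹ * q ∈ K := hK.le (Subgroup.mem_centralizer_singleton_iff.mpr h4)
            have := K.mul_mem hkK h5
            simpa using this
      have := frattini_le_coatom hco hx
      rw [Subgroup.mem_centralizer_singleton_iff] at this
      exact hy this.symm
    · rw [← hcm]
      exact commutator_le_frattini h2
  · rw [Nat.card_eq_two_iff' (1 : Subgroup.center P)]
    refine ⟨⟨z, hzcen⟩, ?_, ?_⟩
    · intro h
      exact hz1 (congrArg Subtype.val h)
    · intro y hy
      rcases (hmemc y).mp y.2 with h | h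
      · exfalso; apply hy; ext; exact h
      · ext; exact h

variable {G : Type*} [Group G]

/-- the ambient description implies extraspeciality. -/
theorem ES.isExtraspecial [Finite G] {Q : Subgroup G} {z : G} (h : ES Q z) :
    Cfsg.IsExtraspecial 2 Q := by
  refine isExtraspecial_of (⟨z, h.z_mem⟩ : Q) h.two ?_ ?_ ?_ ?_ ?_ ?_
  · intro h1; exact h.z_ne (congrArg Subtype.val h1)
  · ext; exact h.z_sq
  · intro q; ext; exact h.z_comm q q.2
  · intro y hy
    rcases h.center y y.2 (fun q hq => congrArg Subtype.val (hy ⟨q, hq⟩)) with h1 | h1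
    · left; ext; exact h1
    · right; ext; exact h1
  · intro x y
    rcases h.comm x x.2 y y.2 with h1 | h1
    · left; ext; exact h1
    · right; ext; exact h1
  · obtain ⟨x, hx, y, hy, hxy⟩ := h.nonab
    exact ⟨⟨x, hx⟩, ⟨y, hy⟩, fun h1 => hxy (congrArg Subtype.val h1)⟩

/-- A non-abelian central factor of an extraspecial `2`-group is extraspecial. -/
theorem ES.central_factor {Q : Subgroup G} {z : G} (h : ES Q z) (R C : Subgroup G)
    (hsup : R ⊔ C = Q) (hcomm : ∀ x ∈ R, ∀ y ∈ C, x * y = y * x)
    (hnonab : ∃ x ∈ R, ∃ y ∈ R, x * y ≠ y * x) : ES R z := by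
  have hRQ : R ≤ Q := hsup ▸ le_sup_left
  have hzR : z ∈ R := by
    obtain ⟨x, hx, y, hy, hxy⟩ := hnonab
    have h1 : x * y = z * (y * x) := (h.comm x (hRQ hx) y (hRQ hy)).resolve_left hxy
    have h2 : z = x * y * x⁻¹ * y⁻¹ := by rw [h1]; group
    rw [h2]
    exact R.mul_mem (R.mul_mem (R.mul_mem hx hy) (R.inv_mem hx)) (R.inv_mem hy)
  refine ⟨h.two.to_le hRQ, h.z_ne, hzR, h.z_sq, fun q hq => h.z_comm q (hRQ hq), ?_,
    fun x hx y hy => h.comm x (hRQ hx) y (hRQ hy), fun x hx => h.sq x (hRQ hx), hnonab⟩
  intro y hy hyc
  apply h.center y (hRQ hy)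
  have hle : Q ≤ Subgroup.centralizer ({y} : Set G) := by
    rw [← hsup]
    apply sup_le
    · intro q hq
      exact Subgroup.mem_centralizer_singleton_iff.mpr (hyc q hq)
    · intro q hq
      exact Subgroup.mem_centralizer_singleton_iff.mpr (hcomm y hy q hq).symm
  intro q hq
  exact Subgroup.mem_centralizer_singleton_iff.mp (hle hq)

/-- An abelian central factor of an extraspecial `2`-group lies in the centre. -/
theorem ES.central_factor_abelian {Q : Subgroup G} {z : G} (h : ES Q z) (R C : Subgroup G)
    (hsup : R ⊔ C = Q) (hcomm : ∀ x ∈ R, ∀ y ∈ C, x * y = y * x)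
    (hab : ∀ x ∈ R, ∀ y ∈ R, x * y = y * x) : ∀ y ∈ R, y = 1 ∨ y = z := by
  have hRQ : R ≤ Q := hsup ▸ le_sup_left
  intro y hy
  apply h.center y (hRQ hy)
  have hle : Q ≤ Subgroup.centralizer ({y} : Set G) := by
    rw [← hsup]
    apply sup_le
    · intro q hq
      exact Subgroup.mem_centralizer_singleton_iff.mpr (hab q hq y hy)
    · intro q hq
      exact Subgroup.mem_centralizer_singleton_iff.mpr (hcomm y hy q hq).symm
  intro q hq
  exact Subgroup.mem_centralizer_singleton_iff.mp (hle hq)

end Cfsg.Agent.Lib.Helper90
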