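import Mathlib
import Cfsg.Prelude.Def_MonsterType
import Cfsg.Agent.Lib.Helper90.ESClass4
import Cfsg.Agent.Lib.Helper90.Coprime
import Cfsg.Agent.S2880

set_option autoImplicit false

namespace Cfsg.Agent.Lib.Helper90

variable {G : Type*} [Group G]

/-- elementwise form of `elementary abelian 2-subgroup`. -/
def EA (B : Subgroup G) : Prop := (∀ a ∈ B, ∀ b ∈ B, a * b = b * a) ∧ ∀ a ∈ B, a * a = 1

theorem EA.isElementaryAbelian {B : Subgroup G} (h : EA B) : Cfsg.IsElementaryAbelian 2 B :=
  ⟨⟨⟨fun a b => by ext; exact h.1 a a.2 b b.2⟩⟩, fun a ha => by rw [pow_two]; exact h.2 a ha⟩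

/-- adjoining a commuting involution. -/
theorem EA.extend [Finite G] {B : Subgroup G} (hB : EA B) {t : G} (htt : t * t = 1)
    (htB : ∀ b ∈ B, b * t = t * b) (ht : t ∉ B) :
    EA (Subgroup.zpowers t ⊔ B) ∧ Nat.card ↥(Subgroup.zpowers t ⊔ B) = 2 * Nat.card B := by
  have hform : ∀ k ∈ Subgroup.zpowers t ⊔ B, ∃ a ∈ B, k = a ∨ k = t * a := by
    intro k hk
    obtain ⟨c, hc, a, ha, rfl⟩ := exists_mul_of_mem_sup_of_commute (C := Subgroup.zpowers t) (A := B)
      (by
        intro c hc a ha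
        rcases (mem_zpowers_iff_of_sq htt c).mp hc with rfl | rfl
        · simp
        · exact htB a ha) hk
    rcases (mem_zpowers_iff_of_sq htt c).mp hc with rfl | rfl
    · exact ⟨a, ha, Or.inl (one_mul a)⟩
    · exact ⟨a, ha, Or.inr rfl⟩
  have htinv : t⁻¹ = t := inv_eq_of_mul_eq_one_right htt
  refine ⟨⟨?_, ?_⟩, ?_⟩
  · intro k hk l hl
    obtain ⟨a, ha, h1 | h1⟩ := hform k hk <;> obtain ⟨b, hb, h2 | h2⟩ := hform l hl
    · rw [h1, h2]; exact hB.1 a ha b hb
    · rw [h1, h2]
      calc a * (t * b) = (a * t) * b := by group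
        _ = t * (a * b) := by rw [htB a ha]; group
        _ = t * b * a := by rw [hB.1 a ha b hb]; group
    · rw [h1, h2]
      calc t * a * b = t * (a * b) := by group
        _ = (t * b) * a := by rw [hB.1 a ha b hb]; group
        _ = b * (t * a) := by rw [← htB b hb]; group
    · rw [h1, h2]
      calc t * a * (t * b) = t * (a * t) * b := by group
        _ = t * t * (a * b) := by rw [htB a ha]; group
        _ = t * (t * b) * a := by rw [hB.1 a ha b hb]; group
        _ = t * (b * t) * a := by rw [htB b hb]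
        _ = t * b * (t * a) := by group
  · intro k hk
    obtain ⟨a, ha, h1 | h1⟩ := hform k hk
    · rw [h1]; exact hB.2 a ha
    · rw [h1]
      calc t * a * (t * a) = t * (a * t) * a := by group
        _ = (t * t) * (a * a) := by rw [htB a ha]; group
        _ = 1 := by rw [htt, hB.2 a ha, one_mul]
  · have h1 := ncard_half (Subgroup.zpowers t ⊔ B) B t ht (by
      intro k hk
      obtain ⟨a, ha, h1 | h1⟩ := hform k hk
      · left; rw [h1]; exact ha
      · right; rw [h1]; simpa using ha) ((Subgroup.zpowers t ⊔ B : Subgroup G) : Set G)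
      (fun _ hs => hs)
    have e1 : {h | h ∈ B ∧ h ∈ ((Subgroup.zpowers t ⊔ B : Subgroup G) : Set G)} = (B : Set G) := by
      ext c
      exact ⟨fun hc => hc.1, fun hc => ⟨hc, Subgroup.mem_sup_right hc⟩⟩
    have e2 : {h | h ∈ B ∧ t * h ∈ ((Subgroup.zpowers t ⊔ B : Subgroup G) : Set G)} =
        (B : Set G) := by
      ext c
      exact ⟨fun hc => hc.1, fun hc => ⟨hc, Subgroup.mul_mem _
        (Subgroup.mem_sup_left (Subgroup.mem_zpowers t)) (Subgroup.mem_sup_right hc)⟩⟩
    rw [e1, e2] at h1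
    have e3 : ∀ K : Subgroup G, (K : Set G).ncard = Nat.card K := fun K => rfl
    rw [e3, e3] at h1
    omega

/-- order, number of square roots of one, and large elementary abelian subgroups. -/
theorem PES.card_count_rank [Finite G] {z : G} : ∀ (n : ℕ) (Q : Subgroup G), Nat.card Q ≤ n →
    PES Q z → ∃ m : ℕ, Nat.card Q = 2 * (2 ^ m * 2 ^ m) ∧
      ((sqc Q = 2 ^ m * 2 ^ m + 2 ^ m ∧ ∃ B ≤ Q, EA B ∧ Nat.card B = 2 * 2 ^ m) ∨
        (1 ≤ m ∧ sqc Q + 2 ^ m = 2 ^ m * 2 ^ m ∧ ∃ B ≤ Q, EA B ∧ Nat.card B = 2 ^ m)) := by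
  intro n
  induction n with
  | zero =>
    intro Q hQ _
    have : 0 < Nat.card Q := Nat.card_pos
    omega
  | succ n ih =>
    intro Q hQ h
    have hZ : EA (Subgroup.zpowers z) ∧ Nat.card (Subgroup.zpowers z) = 2 ∧
        Subgroup.zpowers z ≤ Q := by
      have hm := mem_zpowers_iff_of_sq h.z_sq
      refine ⟨⟨?_, ?_⟩, card_eq_two_of_mem_iff h.z_ne h.z_sq hm, ?_⟩
      · intro a ha b hb
        rcases (hm a).mp ha with rfl | rfl <;> rcases (hm b).mp hb with rfl | rfl <;> simp
      · intro a ha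
        rcases (hm a).mp ha with rfl | rfl
        · simp
        · exact h.z_sq
      · intro a ha
        rcases (hm a).mp ha with rfl | rfl
        · exact Q.one_mem
        · exact h.z_mem
    rcases h.es_or with hES | hmem
    · by_cases hinv : ∃ t ∈ Q, t * t = 1 ∧ t ≠ 1 ∧ t ≠ z
      · obtain ⟨t, ht, htt, ht1, htz⟩ := hinv
        obtain ⟨y, hy, hyy, hty⟩ := h.exists_dpair ht htt ht1 htz
        have hcard := h.card_eq_four_mul ht hy hty
        have hcount := h.sqc_dsplit ht hy hty htt hyy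
        have hpos : 0 < Nat.card (cent2 Q t y) := Nat.card_pos
        obtain ⟨m, hm1, hm2⟩ := ih (cent2 Q t y) (by omega) (h.cent2_pes ht hy hty)
        have hext : ∀ B ≤ cent2 Q t y, EA B → ∃ B' ≤ Q, EA B' ∧ Nat.card B' = 2 * Nat.card B := by
          intro B hB hEA
          have h1 := hEA.extend htt (fun b hb => (mem_cent2.mp (hB hb)).2.1)
            (fun htB => hty (mem_cent2.mp (hB htB)).2.2)
          refine ⟨_, ?_, h1.1, h1.2⟩
          apply sup_le
          · rw [Subgroup.zpowers_le]; exact ht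
          · exact fun b hb => (mem_cent2.mp (hB hb)).1
        refine ⟨m + 1, ?_, ?_⟩
        · rw [hcard, hm1]; ring
        · have e : 2 ^ (m + 1) = 2 * 2 ^ m := by ring
          rw [e, hcount, hm1]
          rcases hm2 with ⟨h3, B, hB, hEA, hBc⟩ | ⟨-, h3, B, hB, hEA, hBc⟩
          · left
            obtain ⟨B', hB', hEA', hBc'⟩ := hext B hB hEA
            exact ⟨by rw [h3]; ring, B', hB', hEA', by rw [hBc', hBc]⟩
          · right
            obtain ⟨B', hB', hEA', hBc'⟩ := hext B hB hEA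
            refine ⟨by omega, ?_, B', hB', hEA', by rw [hBc', hBc]⟩
            have : 2 * sqc (cent2 Q t y) + 2 * (2 ^ m * 2 ^ m) + 2 * 2 ^ m =
                2 * (sqc (cent2 Q t y) + 2 ^ m) + 2 * (2 ^ m * 2 ^ m) := by ring
            rw [this, h3]; ring
      · push Not at hinv
        have hno : ∀ t ∈ Q, t * t = 1 → t = 1 ∨ t = z := by
          intro t ht htt
          by_cases h1 : t = 1
          · exact Or.inl h1
          · exact Or.inr (hinv t ht htt h1)
        obtain ⟨h8, h2⟩ := hES.card_of_no_involution hno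
        exact ⟨1, by rw [h8]; norm_num, Or.inr ⟨le_refl 1, by rw [h2]; norm_num,
          _, hZ.2.2, hZ.1, by rw [hZ.2.1]; norm_num⟩⟩
    · obtain ⟨m, hm1, hm2⟩ := PES.card_and_count _ Q le_rfl h
      have hc2 := card_eq_two_of_mem_iff h.z_ne h.z_sq hmem
      have hm0 : m = 0 := by
        rcases Nat.eq_zero_or_pos m with h0 | h0
        · exact h0
        · exfalso
          have h1 : 2 ≤ 2 ^ m := by
            calc 2 = 2 ^ 1 := by norm_num
              _ ≤ 2 ^ m := Nat.pow_le_pow_right (by norm_num) h0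
          have h2 : 2 * 2 ≤ 2 ^ m * 2 ^ m := Nat.mul_le_mul h1 h1
          omega
      subst hm0
      refine ⟨0, hm1, Or.inl ⟨?_, _, hZ.2.2, hZ.1, by rw [hZ.2.1]; norm_num⟩⟩
      rcases hm2 with h3 | ⟨h3, -⟩
      · exact h3
      · omega

end Cfsg.Agent.Lib.Helper90
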