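import Mathlib
import Cfsg.Prelude.Def_MonsterType
import Cfsg.Prelude.Def_CaseTheorems
import Cfsg.Agent.Lib.Helper90.ESClass5

set_option autoImplicit false

namespace Cfsg.Agent.Lib.Helper90

variable {E : Type*} [Group E] [Finite E]

/-- abelian subgroups of an extraspecial group of order `2^(2m+1)` have order at most `2^(m+1)`. -/
theorem card_le_of_abelian (hE : Cfsg.IsExtraspecial 2 E) (m : ℕ)
    (hcard : Nat.card E = 2 ^ (2 * m + 1)) (B : Subgroup E) (hB : IsMulCommutative B) :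
    Nat.card B ≤ 2 ^ (m + 1) := by
  have h1 := Cfsg.Agent.Lib.Helper48.card_mul_card_centralizer hE B
  have h2 : Nat.card (B ⊓ Subgroup.center E : Subgroup E) ≤ 2 := by
    rw [← hE.2]
    exact Subgroup.card_le_of_le inf_le_right
  have h3 : B ≤ Subgroup.centralizer (B : Set E) := by
    intro b hb
    rw [Subgroup.mem_centralizer_iff]
    intro c hc
    exact congrArg Subtype.val (hB.is_comm.comm ⟨c, hc⟩ ⟨b, hb⟩)
  have h4 := Subgroup.card_le_of_le h3
  have h5 : Nat.card B * Nat.card B ≤ 2 ^ (m + 1) * 2 ^ (m + 1) := by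
    calc Nat.card B * Nat.card B ≤ Nat.card B * Nat.card (Subgroup.centralizer (B : Set E)) :=
          Nat.mul_le_mul_left _ h4
      _ = Nat.card E * Nat.card (B ⊓ Subgroup.center E : Subgroup E) := h1
      _ ≤ 2 ^ (2 * m + 1) * 2 := by rw [hcard]; exact Nat.mul_le_mul_left _ h2
      _ = 2 ^ (m + 1) * 2 ^ (m + 1) := by ring
  exact Nat.mul_self_le_mul_self_iff.mp h5

/-- the elements of order four are those with non-trivial square. -/
theorem card_sq_add_card_order_four (hE : Cfsg.IsExtraspecial 2 E) :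
    Nat.card {x : E // x ^ 2 = 1} + Nat.card {x : E // orderOf x = 4} = Nat.card E := by
  classical
  have : Fact (Nat.Prime 2) := ⟨Nat.prime_two⟩
  obtain ⟨z, hES⟩ := exists_es_top hE
  have hiff : ∀ x : E, orderOf x = 4 ↔ ¬ x ^ 2 = 1 := by
    intro x
    constructor
    · intro h1 h2
      have := orderOf_dvd_of_pow_eq_one h2
      rw [h1] at this
      norm_num at this
    · intro h1
      have e : (4 : ℕ) = 2 ^ (1 + 1) := by norm_num
      rw [e]
      apply orderOf_eq_prime_pow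
      · rw [pow_one]; exact h1
      · have h2 : x * x = z := by
          rcases hES.sq x trivial with h3 | h3
          · exact absurd (by rw [pow_two]; exact h3) h1
          · exact h3
        have : x ^ 2 ^ (1 + 1) = (x * x) * (x * x) := by
          rw [← pow_two, ← pow_two, ← pow_mul]; norm_num
        rw [this, h2, hES.z_sq]
  have e1 : Nat.card {x : E // orderOf x = 4} = Nat.card {x : E // ¬ x ^ 2 = 1} :=
    Nat.card_congr (Equiv.subtypeEquivRight hiff)
  rw [e1]
  have := Fintype.ofFinite E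
  rw [Nat.card_eq_fintype_card, Nat.card_eq_fintype_card, Nat.card_eq_fintype_card,
    Fintype.card_subtype_compl]
  have := Fintype.card_subtype_le (fun x : E => x ^ 2 = 1)
  omega

/-- the `2`-rank of an extraspecial `2`-group, according to its type. -/
theorem rank_of_isExtraspecial (hE : Cfsg.IsExtraspecial 2 E) (m : ℕ)
    (hcard : Nat.card E = 2 ^ (2 * m + 1)) :
    (Nat.card {x : E // x ^ 2 = 1} = 2 ^ (2 * m) + 2 ^ m ∧ Cfsg.PRankLE 2 (m + 1) E ∧
      ∃ A : Subgroup E, Cfsg.IsElementaryAbelian 2 A ∧ Nat.card A = 2 ^ (m + 1)) ∨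
    (1 ≤ m ∧ Nat.card {x : E // x ^ 2 = 1} + 2 ^ m = 2 ^ (2 * m) ∧ Cfsg.PRankLE 2 m E ∧
      ∃ A : Subgroup E, Cfsg.IsElementaryAbelian 2 A ∧ Nat.card A = 2 ^ m) := by
  have : Fact (Nat.Prime 2) := ⟨Nat.prime_two⟩
  obtain ⟨z, hES⟩ := exists_es_top hE
  obtain ⟨m', hm1, hm2⟩ := PES.card_count_rank _ _ le_rfl hES.toPES
  rw [Subgroup.card_top, hcard] at hm1
  rw [sqc_top] at hm2
  have hmm : m' = m := by
    have e1 : 2 * (2 ^ m' * 2 ^ m') = 2 ^ (2 * m' + 1) := by ring
    rw [e1] at hm1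
    have := Nat.pow_right_injective (le_refl 2) hm1
    omega
  subst hmm
  have e2 : 2 ^ (2 * m') = 2 ^ m' * 2 ^ m' := by ring
  rcases hm2 with ⟨h3, B, -, hEA, hBc⟩ | ⟨hm, h3, B, -, hEA, hBc⟩
  · left
    refine ⟨by rw [h3, e2], ?_, B, hEA.isElementaryAbelian, by rw [hBc]; ring⟩
    intro A hA _
    exact card_le_of_abelian hE m' hcard A hA
  · right
    refine ⟨hm, by rw [h3, e2], ?_, B, hEA.isElementaryAbelian, hBc⟩
    intro A hA hA2
    have h4 := card_le_of_abelian hE m' hcard A hA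
    obtain ⟨k, hk⟩ := IsPGroup.iff_card.mp (hE.1.1.to_subgroup A)
    rw [hk] at h4 ⊢
    have h5 : k ≤ m' + 1 := (Nat.pow_le_pow_iff_right (by norm_num)).mp h4
    apply Nat.pow_le_pow_right (by norm_num)
    by_contra hcon
    have hk' : k = m' + 1 := by omega
    have h6 := Cfsg.Agent.S2880.result m' hm hE hcard ⟨A, ⟨hA, hA2⟩, by rw [hk, hk']⟩
    have h7 := card_sq_add_card_order_four hE
    rw [h6, hcard] at h7
    have e3 : 2 ^ (2 * m' + 1) = 2 * (2 ^ m' * 2 ^ m') := by ring
    rw [e3, e2] at h7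
    have hpos : 0 < 2 ^ m' := by positivity
    have hle : 2 ^ m' ≤ 2 ^ m' * 2 ^ m' := Nat.le_mul_of_pos_left _ hpos
    omega

end Cfsg.Agent.Lib.Helper90
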