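import Mathlib
import Cfsg.Agent.Lib.Helper90.ESClass6

set_option autoImplicit false

namespace Cfsg.Agent.Lib.Helper90

/-- explicit model of the extraspecial groups `2^{1+2n}`; the coordinate `i` is of dihedral type
if `ε i = 0` and of quaternion type if `ε i = 1`. -/
@[ext] structure HE {n : ℕ} (ε : Fin n → ZMod 2) : Type where
  c : ZMod 2
  u : Fin n → ZMod 2
  v : Fin n → ZMod 2

namespace HE

variable {n : ℕ} {ε : Fin n → ZMod 2}

/-- the cocycle. -/
def coc (g h : HE ε) : ZMod 2 :=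
  ∑ i, (g.u i * h.v i + ε i * (g.u i * h.u i + g.v i * h.v i))

instance instMulHE : Mul (HE ε) := ⟨fun g h => ⟨g.c + h.c + coc g h, g.u + h.u, g.v + h.v⟩⟩
instance instOneHE : One (HE ε) := ⟨⟨0, 0, 0⟩⟩
instance instInvHE : Inv (HE ε) := ⟨fun g => ⟨g.c + coc g g, g.u, g.v⟩⟩

@[simp] theorem mul_c (g h : HE ε) : (g * h).c = g.c + h.c + coc g h := rfl
@[simp] theorem mul_u (g h : HE ε) : (g * h).u = g.u + h.u := rfl
@[simp] theorem mul_v (g h : HE ε) : (g * h).v = g.v + h.v := rfl
@[simp] theorem one_c : (1 : HE ε).c = 0 := rfl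
@[simp] theorem one_u : (1 : HE ε).u = 0 := rfl
@[simp] theorem one_v : (1 : HE ε).v = 0 := rfl
@[simp] theorem inv_c (g : HE ε) : (g⁻¹).c = g.c + coc g g := rfl
@[simp] theorem inv_u (g : HE ε) : (g⁻¹).u = g.u := rfl
@[simp] theorem inv_v (g : HE ε) : (g⁻¹).v = g.v := rfl

theorem coc_mul_left (g h k : HE ε) : coc (g * h) k = coc g k + coc h k := by
  unfold coc
  rw [← Finset.sum_add_distrib]
  apply Finset.sum_congr rfl
  intro i _
  simp only [mul_u, mul_v, Pi.add_apply]
  ring

theorem coc_mul_right (g h k : HE ε) : coc g (h * k) = coc g h + coc g k := by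
  unfold coc
  rw [← Finset.sum_add_distrib]
  apply Finset.sum_congr rfl
  intro i _
  simp only [mul_u, mul_v, Pi.add_apply]
  ring

@[simp] theorem coc_one_left (g : HE ε) : coc 1 g = 0 := by
  unfold coc
  simp

@[simp] theorem coc_one_right (g : HE ε) : coc g 1 = 0 := by
  unfold coc
  simp

theorem coc_inv_left (g h : HE ε) : coc g⁻¹ h = coc g h := rfl

instance instGroupHE : Group (HE ε) :=
  Group.ofLeftAxioms
    (fun g h k => by
      ext1
      · simp only [mul_c, coc_mul_left, coc_mul_right]; ring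
      · simp only [mul_u, add_assoc]
      · simp only [mul_v, add_assoc])
    (fun g => by
      ext1
      · simp
      · simp
      · simp)
    (fun g => by
      ext1
      · simp only [mul_c, inv_c, coc_inv_left, one_c]
        have h1 : g.c + g.c = 0 := CharTwo.add_self_eq_zero _
        have h2 : coc g g + coc g g = 0 := CharTwo.add_self_eq_zero _
        calc g.c + coc g g + g.c + coc g g = (g.c + g.c) + (coc g g + coc g g) := by ring
          _ = 0 := by rw [h1, h2, add_zero]
      · simp only [mul_u, inv_u, one_u]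
        funext i
        exact CharTwo.add_self_eq_zero _
      · simp only [mul_v, inv_v, one_v]
        funext i
        exact CharTwo.add_self_eq_zero _)

instance instFiniteHE : Finite (HE ε) :=
  Finite.of_injective (fun g : HE ε => (g.c, g.u, g.v)) (by
    intro g h hgh
    simp only [Prod.mk.injEq] at hgh
    exact HE.ext hgh.1 hgh.2.1 hgh.2.2)

/-- the central involution. -/
def zz : HE ε := ⟨1, 0, 0⟩
/-- standard generators. -/
def X (j : Fin n) : HE ε := ⟨0, Pi.single j 1, 0⟩
def Y (j : Fin n) : HE ε := ⟨0, 0, Pi.single j 1⟩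

theorem coc_zz_left (g : HE ε) : coc zz g = 0 := by
  unfold coc zz
  simp

theorem coc_zz_right (g : HE ε) : coc g zz = 0 := by
  unfold coc zz
  simp

theorem coc_X_left (j : Fin n) (g : HE ε) : coc (X j) g = g.v j + ε j * g.u j := by
  unfold coc X
  simp [Pi.single_apply, Finset.sum_add_distrib]

theorem coc_X_right (j : Fin n) (g : HE ε) : coc g (X j) = ε j * g.u j := by
  unfold coc X
  simp [Pi.single_apply]

theorem coc_Y_left (j : Fin n) (g : HE ε) : coc (Y j) g = ε j * g.v j := by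
  unfold coc Y
  simp [Pi.single_apply]

theorem coc_Y_right (j : Fin n) (g : HE ε) : coc g (Y j) = g.u j + ε j * g.v j := by
  unfold coc Y
  simp [Pi.single_apply, Finset.sum_add_distrib]

theorem zmod2_cases (a b : ZMod 2) : a = b ∨ a = 1 + b := by
  revert a b; decide

theorem zmod2_zero_or (a : ZMod 2) : a = 0 ∨ a = 1 := by
  revert a; decide

theorem comm_iff (g h : HE ε) : g * h = h * g ↔ coc g h = coc h g := by
  constructor
  · intro hgh
    have := congrArg HE.c hgh
    simp only [mul_c] at this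
    have h2 : g.c + h.c = h.c + g.c := add_comm _ _
    rw [h2] at this
    exact add_left_cancel this
  · intro hgh
    ext1
    · simp only [mul_c, hgh]; ring
    · simp only [mul_u, add_comm]
    · simp only [mul_v, add_comm]

theorem comm_X_iff (j : Fin n) (g : HE ε) : g * X j = X j * g ↔ g.v j = 0 := by
  rw [comm_iff, coc_X_left, coc_X_right]
  constructor
  · intro h
    have : 0 + ε j * g.u j = g.v j + ε j * g.u j := by rw [zero_add]; exact h
    exact (add_right_cancel this).symm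
  · intro h
    rw [h, zero_add]

theorem comm_Y_iff (j : Fin n) (g : HE ε) : g * Y j = Y j * g ↔ g.u j = 0 := by
  rw [comm_iff, coc_Y_left, coc_Y_right]
  constructor
  · intro h
    have : g.u j + ε j * g.v j = 0 + ε j * g.v j := by rw [zero_add]; exact h
    exact add_right_cancel this
  · intro h
    rw [h, zero_add]

theorem zz_ne : (zz : HE ε) ≠ 1 := by
  intro h
  have := congrArg HE.c h
  simp [zz] at this

theorem zz_mul (g : HE ε) : zz * g = ⟨1 + g.c, g.u, g.v⟩ := by
  ext1
  · simp only [mul_c, coc_zz_left, add_zero]; rfl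
  · simp only [mul_u]; simp [zz]
  · simp only [mul_v]; simp [zz]

theorem zz_sq : (zz : HE ε) * zz = 1 := by
  rw [zz_mul]
  ext1
  · show (1 : ZMod 2) + 1 = 0
    decide
  · rfl
  · rfl

theorem zz_comm (g : HE ε) : g * zz = zz * g := by
  rw [comm_iff, coc_zz_left, coc_zz_right]

theorem comm_or (g h : HE ε) : g * h = h * g ∨ g * h = zz * (h * g) := by
  rcases zmod2_cases (g * h).c (h * g).c with h1 | h1
  · left
    ext1
    · exact h1
    · simp only [mul_u, add_comm]
    · simp only [mul_v, add_comm]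
  · right
    rw [zz_mul]
    ext1
    · exact h1
    · simp only [mul_u, add_comm]
    · simp only [mul_v, add_comm]

theorem mul_self_eq (g : HE ε) : g * g = ⟨coc g g, 0, 0⟩ := by
  ext1
  · simp only [mul_c]
    rw [CharTwo.add_self_eq_zero, zero_add]
  · simp only [mul_u]
    funext i
    exact CharTwo.add_self_eq_zero _
  · simp only [mul_v]
    funext i
    exact CharTwo.add_self_eq_zero _

theorem sq_or (g : HE ε) : g * g = 1 ∨ g * g = zz := by
  rw [mul_self_eq]
  rcases zmod2_zero_or (coc g g) with h | h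
  · left; rw [h]; rfl
  · right; rw [h]; rfl

theorem mul_self_eq_one_iff (g : HE ε) : g * g = 1 ↔ coc g g = 0 := by
  rw [mul_self_eq]
  constructor
  · intro h
    exact congrArg HE.c h
  · intro h
    rw [h]; rfl

theorem isPGroup : IsPGroup 2 (HE ε) := by
  intro g
  refine ⟨2, ?_⟩
  have : g ^ 2 ^ 2 = (g * g) * (g * g) := by
    rw [← pow_two, ← pow_two, ← pow_mul]
    norm_num
  rw [this]
  rcases sq_or g with h | h
  · rw [h, one_mul]
  · rw [h, zz_sq]

theorem eq_one_or_zz (g : HE ε) (hu : ∀ j, g.u j = 0) (hv : ∀ j, g.v j = 0) :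
    g = 1 ∨ g = zz := by
  rcases zmod2_zero_or g.c with h | h
  · left
    ext1
    · exact h
    · funext j; exact hu j
    · funext j; exact hv j
  · right
    ext1
    · exact h
    · funext j; exact hu j
    · funext j; exact hv j

/-- the chain of subgroups. -/
def D (ε : Fin n → ZMod 2) (k : ℕ) : Subgroup (HE ε) where
  carrier := {g | ∀ j : Fin n, k ≤ j.val → g.u j = 0 ∧ g.v j = 0}
  mul_mem' := by
    intro a b ha hb j hj
    simp only [mul_u, mul_v, Pi.add_apply, (ha j hj).1, (ha j hj).2, (hb j hj).1, (hb j hj).2,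
      add_zero, and_self]
  one_mem' := by
    intro j _
    simp
  inv_mem' := by
    intro a ha j hj
    exact ha j hj

theorem mem_D {k : ℕ} {g : HE ε} : g ∈ D ε k ↔ ∀ j : Fin n, k ≤ j.val → g.u j = 0 ∧ g.v j = 0 :=
  Iff.rfl

theorem zz_mem_D (k : ℕ) : (zz : HE ε) ∈ D ε k := by
  intro j _
  simp [zz]

theorem X_mem_D {k : ℕ} {j : Fin n} (hj : j.val < k) : (X j : HE ε) ∈ D ε k := by
  intro i hi
  have : i ≠ j := by
    rintro rfl
    omega
  simp [X, this]

theorem Y_mem_D {k : ℕ} {j : Fin n} (hj : j.val < k) : (Y j : HE ε) ∈ D ε k := by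
  intro i hi
  have : i ≠ j := by
    rintro rfl
    omega
  simp [Y, this]

theorem pes_D (k : ℕ) : PES (D ε k) (zz : HE ε) := by
  refine ⟨isPGroup.to_subgroup _, zz_ne, zz_mem_D k, zz_sq, fun q _ => zz_comm q, ?_,
    fun x _ y _ => comm_or x y, fun x _ => sq_or x⟩
  intro y hy hc
  apply eq_one_or_zz
  · intro j
    by_cases hj : k ≤ j.val
    · exact (hy j hj).1
    · rw [← comm_Y_iff]
      exact (hc _ (Y_mem_D (by omega))).symm
  · intro j
    by_cases hj : k ≤ j.val
    · exact (hy j hj).2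
    · rw [← comm_X_iff]
      exact (hc _ (X_mem_D (by omega))).symm

theorem D_top : D ε n = ⊤ := by
  rw [eq_top_iff]
  intro g _ j hj
  exact absurd j.2 (by omega)

theorem X_Y_ne (j : Fin n) : (X j : HE ε) * Y j ≠ Y j * X j := by
  rw [Ne, comm_Y_iff]
  simp [X]

theorem cent2_D (j : Fin n) : cent2 (D ε (j.val + 1)) (X j) (Y j) = D ε j.val := by
  ext g
  rw [mem_cent2, comm_X_iff, comm_Y_iff, mem_D, mem_D]
  constructor
  · rintro ⟨h1, h2, h3⟩ i hi
    by_cases hij : i = j
    · subst hij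
      exact ⟨h3, h2⟩
    · apply h1
      have : i.val ≠ j.val := fun h => hij (Fin.ext h)
      omega
  · intro h
    exact ⟨fun i hi => h i (by omega), (h j le_rfl).2, (h j le_rfl).1⟩

theorem X_sq (j : Fin n) (hj : ε j = 0) : (X j : HE ε) * X j = 1 := by
  rw [mul_self_eq_one_iff, coc_X_left, hj]
  simp [X]

theorem Y_sq (j : Fin n) (hj : ε j = 0) : (Y j : HE ε) * Y j = 1 := by
  rw [mul_self_eq_one_iff, coc_Y_left, hj]
  simp

theorem card_D_succ (j : Fin n) : Nat.card (D ε (j.val + 1)) = 4 * Nat.card (D ε j.val) := by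
  rw [(pes_D (j.val + 1)).card_eq_four_mul (X_mem_D (Nat.lt_succ_self _))
    (Y_mem_D (Nat.lt_succ_self _)) (X_Y_ne j), cent2_D]

theorem sqc_D_succ (j : Fin n) (hj : ε j = 0) :
    sqc (D ε (j.val + 1)) = 2 * sqc (D ε j.val) + Nat.card (D ε j.val) := by
  rw [PES.sqc_dsplit (pes_D (j.val + 1)) (X_mem_D (Nat.lt_succ_self _))
    (Y_mem_D (Nat.lt_succ_self _)) (X_Y_ne j) (X_sq j hj) (Y_sq j hj), cent2_D]

theorem mem_D_zero (g : HE ε) : g ∈ D ε 0 ↔ g = 1 ∨ g = zz := by
  constructor
  · intro h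
    exact eq_one_or_zz g (fun j => (h j (Nat.zero_le _)).1) (fun j => (h j (Nat.zero_le _)).2)
  · rintro (rfl | rfl)
    · exact Subgroup.one_mem _
    · exact zz_mem_D 0

theorem card_D_zero : Nat.card (D ε 0) = 2 :=
  card_eq_two_of_mem_iff zz_ne zz_sq mem_D_zero

theorem sqc_D_zero : sqc (D ε 0) = 2 := by
  rw [← card_D_zero (ε := ε)]
  have : {g : HE ε | g ∈ D ε 0 ∧ g * g = 1} = (D ε 0 : Set (HE ε)) := by
    ext g
    constructor
    · intro h; exact h.1
    · intro h
      refine ⟨h, ?_⟩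
      rcases (mem_D_zero g).1 h with rfl | rfl
      · exact one_mul 1
      · exact zz_sq
  unfold sqc
  rw [this]
  rfl

theorem card_D (k : ℕ) (hk : k ≤ n) : Nat.card (D ε k) = 2 * (2 ^ k * 2 ^ k) := by
  induction k with
  | zero => rw [card_D_zero]; norm_num
  | succ k ih =>
    have := card_D_succ (ε := ε) ⟨k, hk⟩
    simp only at this
    rw [this, ih (by omega)]
    ring

theorem sqc_D_plus (hε : ∀ j, ε j = 0) (k : ℕ) (hk : k ≤ n) :
    sqc (D ε k) = 2 ^ k * 2 ^ k + 2 ^ k := by
  induction k with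
  | zero => rw [sqc_D_zero]; norm_num
  | succ k ih =>
    have := sqc_D_succ (ε := ε) ⟨k, hk⟩ (hε _)
    simp only at this
    rw [this, ih (by omega), card_D k (by omega)]
    ring

theorem zmod2_anis (a b : ZMod 2) (h : a * b + 1 * (a * a + b * b) = 0) : a = 0 ∧ b = 0 := by
  revert a b; decide

theorem sqc_D_one (hn : 0 < n) (h0 : ε ⟨0, hn⟩ = 1) : sqc (D ε 1) = 2 := by
  have hES : ES (D ε 1) (zz : HE ε) :=
    (pes_D 1).toES ⟨X ⟨0, hn⟩, X_mem_D (by simp), Y ⟨0, hn⟩, Y_mem_D (by simp), X_Y_ne _⟩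
  refine (hES.card_of_no_involution ?_).2
  intro t ht htt
  rw [mul_self_eq_one_iff] at htt
  unfold coc at htt
  rw [Finset.sum_eq_single (⟨0, hn⟩ : Fin n), h0] at htt
  · have h1 := zmod2_anis _ _ htt
    apply eq_one_or_zz
    · intro j
      by_cases hj : 1 ≤ j.val
      · exact (ht j hj).1
      · have : j = ⟨0, hn⟩ := Fin.ext (by simp; omega)
        rw [this]; exact h1.1
    · intro j
      by_cases hj : 1 ≤ j.val
      · exact (ht j hj).2
      · have : j = ⟨0, hn⟩ := Fin.ext (by simp; omega)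
        rw [this]; exact h1.2
  · intro j _ hj
    have hj1 : 1 ≤ j.val := by
      by_contra hcon
      exact hj (Fin.ext (by simp; omega))
    rw [(ht j hj1).1, (ht j hj1).2]
    simp
  · intro h
    exact absurd (Finset.mem_univ _) h

theorem sqc_D_minus (hn : 0 < n) (h0 : ε ⟨0, hn⟩ = 1) (hε : ∀ j : Fin n, 1 ≤ j.val → ε j = 0)
    (k : ℕ) (hk : k + 1 ≤ n) :
    sqc (D ε (k + 1)) + 2 ^ (k + 1) = 2 ^ (k + 1) * 2 ^ (k + 1) := by
  induction k with
  | zero => rw [sqc_D_one hn h0]; norm_num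
  | succ k ih =>
    have := sqc_D_succ (ε := ε) ⟨k + 1, hk⟩ (hε _ (by simp))
    simp only at this
    rw [this, card_D (k + 1) (by omega)]
    have ih' := ih (by omega)
    have e : (2 : ℕ) ^ (k + 1 + 1) = 2 * 2 ^ (k + 1) := by ring
    rw [e]
    obtain ⟨a, ha⟩ : ∃ a, a = 2 ^ (k + 1) := ⟨_, rfl⟩
    rw [← ha] at ih' ⊢
    nlinarith [ih']

theorem isExtraspecial (hn : 0 < n) : Cfsg.IsExtraspecial 2 (HE ε) :=
  isExtraspecial_of (zz : HE ε) isPGroup zz_ne zz_sq zz_comm
    (fun y hy => by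
      have := (pes_D (ε := ε) n).center y (by rw [D_top]; exact Subgroup.mem_top _)
        (fun q _ => hy q)
      exact this)
    comm_or ⟨X ⟨0, hn⟩, Y ⟨0, hn⟩, X_Y_ne _⟩

theorem card_HE : Nat.card (HE ε) = 2 ^ (2 * n + 1) := by
  have := card_D (ε := ε) n le_rfl
  rw [D_top, Subgroup.card_top] at this
  rw [this]
  ring

theorem count_plus (hε : ∀ j, ε j = 0) :
    Nat.card {x : HE ε // x ^ 2 = 1} = 2 ^ (2 * n) + 2 ^ n := by
  have := sqc_D_plus hε n le_rfl
  rw [D_top, sqc_top] at this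
  rw [this]
  ring

theorem count_minus (hn : 0 < n) (h0 : ε ⟨0, hn⟩ = 1) (hε : ∀ j : Fin n, 1 ≤ j.val → ε j = 0) :
    Nat.card {x : HE ε // x ^ 2 = 1} + 2 ^ n = 2 ^ (2 * n) := by
  obtain ⟨k, rfl⟩ : ∃ k, n = k + 1 := ⟨n - 1, by omega⟩
  have := sqc_D_minus hn h0 hε k le_rfl
  rw [D_top, sqc_top] at this
  rw [this]
  ring

end HE

end Cfsg.Agent.Lib.Helper90
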