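import Mathlib
import Cfsg.Agent.Lib.Helper90.ESModel

set_option autoImplicit false

namespace Cfsg.Agent.Lib.Helper90

/-- the central extension of an `𝔽₂`-space `V` by `𝔽₂` attached to a bilinear form `f`. -/
@[ext] structure BE {V : Type*} [AddCommGroup V] [Module (ZMod 2) V]
    (f : LinearMap.BilinForm (ZMod 2) V) where
  c : ZMod 2
  w : V

namespace BE

variable {V : Type*} [AddCommGroup V] [Module (ZMod 2) V] {f : LinearMap.BilinForm (ZMod 2) V}

instance instMulBE : Mul (BE f) := ⟨fun g h => ⟨g.c + h.c + f g.w h.w, g.w + h.w⟩⟩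
instance instOneBE : One (BE f) := ⟨⟨0, 0⟩⟩
instance instInvBE : Inv (BE f) := ⟨fun g => ⟨g.c + f g.w g.w, g.w⟩⟩

@[simp] theorem mul_c (g h : BE f) : (g * h).c = g.c + h.c + f g.w h.w := rfl
@[simp] theorem mul_w (g h : BE f) : (g * h).w = g.w + h.w := rfl
@[simp] theorem one_c : (1 : BE f).c = 0 := rfl
@[simp] theorem one_w : (1 : BE f).w = 0 := rfl
@[simp] theorem inv_c (g : BE f) : (g⁻¹).c = g.c + f g.w g.w := rfl
@[simp] theorem inv_w (g : BE f) : (g⁻¹).w = g.w := rfl

theorem two_c (a : ZMod 2) : a + a = 0 := CharTwo.add_self_eq_zero a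

instance instGroupBE : Group (BE f) :=
  Group.ofLeftAxioms
    (fun g h k => by
      ext1
      · simp only [mul_c, mul_w, map_add, LinearMap.add_apply]; ring
      · simp only [mul_w, add_assoc])
    (fun g => by
      ext1
      · simp
      · simp)
    (fun g => by
      ext1
      · simp only [mul_c, inv_c, inv_w, one_c]
        calc g.c + f g.w g.w + g.c + f g.w g.w = (g.c + g.c) + (f g.w g.w + f g.w g.w) := by ring
          _ = 0 := by rw [two_c, two_c, add_zero]
      · simp only [mul_w, inv_w, one_w]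
        exact ZModModule.add_self _)

/-- the central involution. -/
def zz : BE f := ⟨1, 0⟩

theorem zz_ne : (zz : BE f) ≠ 1 := by
  intro h
  have := congrArg BE.c h
  simp [zz] at this

theorem zz_mul (g : BE f) : zz * g = ⟨1 + g.c, g.w⟩ := by
  ext1
  · simp [zz]
  · simp [zz]

theorem zz_sq : (zz : BE f) * zz = 1 := by
  rw [zz_mul]
  ext1
  · show (1 : ZMod 2) + 1 = 0
    decide
  · rfl

theorem comm_iff (g h : BE f) : g * h = h * g ↔ f g.w h.w = f h.w g.w := by
  constructor
  · intro hgh
    have := congrArg BE.c hgh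
    simp only [mul_c] at this
    have h2 : g.c + h.c = h.c + g.c := add_comm _ _
    rw [h2] at this
    exact add_left_cancel this
  · intro hgh
    ext1
    · simp only [mul_c, hgh]; ring
    · simp only [mul_w, add_comm]

theorem zz_comm (g : BE f) : g * zz = zz * g := by
  rw [comm_iff]
  simp [zz]

theorem eq_or_of_w_eq {g h : BE f} (hw : g.w = h.w) : g = h ∨ g = zz * h := by
  rcases HE.zmod2_cases g.c h.c with h1 | h1
  · left; exact BE.ext h1 hw
  · right
    rw [zz_mul]
    exact BE.ext h1 hw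

theorem comm_or (g h : BE f) : g * h = h * g ∨ g * h = zz * (h * g) :=
  eq_or_of_w_eq (by simp only [mul_w, add_comm])

theorem mul_self_eq (g : BE f) : g * g = ⟨f g.w g.w, 0⟩ := by
  ext1
  · simp only [mul_c]
    rw [two_c, zero_add]
  · simp only [mul_w]
    exact ZModModule.add_self _

theorem eq_one_or_zz {g : BE f} (hw : g.w = 0) : g = 1 ∨ g = zz := by
  rcases eq_or_of_w_eq (g := g) (h := 1) hw with h | h
  · left; exact h
  · right; rw [h, mul_one]

theorem sq_or (g : BE f) : g * g = 1 ∨ g * g = zz := by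
  apply eq_one_or_zz
  rw [mul_self_eq]

theorem isPGroup : IsPGroup 2 (BE f) := by
  intro g
  refine ⟨2, ?_⟩
  have : g ^ 2 ^ 2 = (g * g) * (g * g) := by
    rw [← pow_two, ← pow_two, ← pow_mul]
    norm_num
  rw [this]
  rcases sq_or g with h | h
  · rw [h, one_mul]
  · rw [h, zz_sq]

/-- non-degeneracy of the polar form. -/
def ND (f : LinearMap.BilinForm (ZMod 2) V) : Prop := ∀ w, (∀ w', f w w' = f w' w) → w = 0

theorem w_eq_zero_of_central (hnd : ND f) {g : BE f} (hg : ∀ h, h * g = g * h) : g.w = 0 := by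
  apply hnd
  intro w'
  have := hg ⟨0, w'⟩
  rw [comm_iff] at this
  exact this.symm

theorem aut_zz (hnd : ND f) (α : MulAut (BE f)) : α zz = zz := by
  have h1 : (α zz).w = 0 := by
    apply w_eq_zero_of_central hnd
    intro h
    have := congrArg α (zz_comm (α⁻¹ h))
    rw [map_mul, map_mul] at this
    simpa using this
  rcases eq_one_or_zz h1 with h2 | h2
  · exfalso
    apply zz_ne (f := f)
    have : α zz = α 1 := by rw [h2, map_one]
    exact α.injective this
  · exact h2

theorem aut_w_congr (hnd : ND f) (α : MulAut (BE f)) {g h : BE f} (hw : g.w = h.w) :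
    (α g).w = (α h).w := by
  rcases eq_or_of_w_eq hw with h1 | h1
  · rw [h1]
  · rw [h1, map_mul, aut_zz hnd, zz_mul]

/-- the linear map induced by an automorphism. -/
def lin (hnd : ND f) (α : MulAut (BE f)) : V →ₗ[ZMod 2] V :=
  AddMonoidHom.toZModLinearMap 2
    (AddMonoidHom.mk' (fun w => (α ⟨0, w⟩).w) (by
      intro a b
      have h1 : (α (⟨0, a⟩ * ⟨0, b⟩)).w = (α ⟨0, a + b⟩).w := aut_w_congr hnd α rfl
      rw [← h1, map_mul, mul_w]))

theorem lin_apply (hnd : ND f) (α : MulAut (BE f)) (g : BE f) : lin hnd α g.w = (α g).w :=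
  aut_w_congr hnd α rfl

/-- the induced action as a monoid homomorphism. -/
def linHom (hnd : ND f) : MulAut (BE f) →* Module.End (ZMod 2) V where
  toFun := lin hnd
  map_one' := by
    ext w
    exact lin_apply hnd 1 ⟨0, w⟩
  map_mul' := by
    intro α β
    ext w
    have h1 := lin_apply hnd (α * β) ⟨0, w⟩
    have h2 := lin_apply hnd β ⟨0, w⟩
    have h3 := lin_apply hnd α (β ⟨0, w⟩)
    simp only at h1 h2
    rw [h1, Module.End.mul_apply, h2, h3]
    rfl

theorem linHom_apply (hnd : ND f) (α : MulAut (BE f)) (g : BE f) :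
    linHom hnd α g.w = (α g).w := lin_apply hnd α g

theorem aut_central (hnd : ND f) (α : MulAut (BE f)) (c : ZMod 2) :
    α (⟨c, 0⟩ : BE f) = ⟨c, 0⟩ := by
  rcases HE.zmod2_zero_or c with rfl | rfl
  · exact map_one α
  · exact aut_zz hnd α

theorem lin_isometry (hnd : ND f) (α : MulAut (BE f)) (w : V) :
    f (lin hnd α w) (lin hnd α w) = f w w := by
  have h1 := lin_apply hnd α ⟨0, w⟩
  simp only at h1
  rw [h1]
  have h2 : α ((⟨0, w⟩ : BE f) * ⟨0, w⟩) = α ⟨0, w⟩ * α ⟨0, w⟩ := map_mul _ _ _
  rw [mul_self_eq, mul_self_eq, aut_central hnd] at h2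
  exact (congrArg BE.c h2).symm

end BE

end Cfsg.Agent.Lib.Helper90
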