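import Mathlib
import Cfsg.Agent.Lib.Helper90.ESOut1

set_option autoImplicit false

namespace Cfsg.Agent.Lib.Helper90

namespace BE

variable {V : Type*} [AddCommGroup V] [Module (ZMod 2) V] {f : LinearMap.BilinForm (ZMod 2) V}

theorem zmod2_eq_of_add_eq_zero {a b : ZMod 2} (h : a + b = 0) : a = b := by
  revert a b; decide

theorem nondegenerate_of_ND (hnd : ND f) : (f + f.flip).Nondegenerate := by
  constructor
  · intro x hx
    apply hnd
    intro y
    have := hx y
    simp only [LinearMap.add_apply] at this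
    exact zmod2_eq_of_add_eq_zero this
  · intro x hx
    apply hnd
    intro y
    have := hx y
    simp only [LinearMap.add_apply] at this
    exact (zmod2_eq_of_add_eq_zero this).symm

theorem split (g : BE f) : g = (⟨g.c, 0⟩ : BE f) * ⟨0, g.w⟩ := by
  ext1
  · simp
  · simp

/-- an automorphism acting trivially on `V` is inner. -/
theorem inner_of_lin_eq_id [FiniteDimensional (ZMod 2) V] (hnd : ND f) (α : MulAut (BE f))
    (h : ∀ w, lin hnd α w = w) : ∃ a : BE f, ∀ g, α g = a * g * a⁻¹ := by
  have hw : ∀ g : BE f, (α g).w = g.w := by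
    intro g
    rw [← lin_apply hnd α g, h]
  obtain ⟨lam, hlam⟩ : ∃ lam : Module.Dual (ZMod 2) V, ∀ w, lam w = (α ⟨0, w⟩).c := by
    refine ⟨AddMonoidHom.toZModLinearMap 2 (AddMonoidHom.mk' (fun w => (α ⟨0, w⟩).c) ?_),
      fun w => rfl⟩
    intro a b
    have h1 : ((⟨0, a⟩ : BE f) * ⟨0, b⟩) = (⟨f a b, 0⟩ : BE f) * ⟨0, a + b⟩ := by
      ext1
      · simp
      · simp
    have h2 := congrArg (fun g => (α g).c) h1
    simp only [map_mul, aut_central hnd, mul_c, hw, map_zero, LinearMap.zero_apply,
      add_zero] at h2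
    have h3 : (α ⟨0, a⟩).c + (α ⟨0, b⟩).c + f a b = (α ⟨0, a + b⟩).c + f a b := by
      rw [h2]; ring
    exact (add_right_cancel h3).symm
  obtain ⟨a, ha⟩ : ∃ a : V, ∀ w, f a w + f w a = lam w := by
    refine ⟨((f + f.flip).toDual (nondegenerate_of_ND hnd)).symm lam, fun w => ?_⟩
    have := LinearMap.BilinForm.apply_toDual_symm_apply (B := f + f.flip)
      (hB := nondegenerate_of_ND hnd) lam w
    rw [LinearMap.add_apply] at this
    exact this
  refine ⟨⟨0, a⟩, fun g => ?_⟩
  rw [eq_mul_inv_iff_mul_eq]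
  ext1
  · have h1 : (α g).c = g.c + lam g.w := by
      conv_lhs => rw [split g]
      rw [map_mul, aut_central hnd, mul_c, hlam]
      simp
    simp only [mul_c, hw, h1, ← ha]
    have := two_c (f g.w a)
    calc g.c + (f a g.w + f g.w a) + 0 + f g.w a = g.c + f a g.w + (f g.w a + f g.w a) := by ring
      _ = 0 + g.c + f a g.w := by rw [this]; ring
  · simp only [mul_w, hw, add_comm]

theorem lin_conj (hnd : ND f) (a : BE f) (w : V) : lin hnd (MulAut.conj a) w = w := by
  have := lin_apply hnd (MulAut.conj a) ⟨0, w⟩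
  simp only at this
  rw [this, MulAut.conj_apply]
  simp only [mul_w, inv_w]
  calc a.w + w + a.w = w + (a.w + a.w) := by abel
    _ = w := by rw [ZModModule.add_self, add_zero]

/-- lifting an isometry, given a quadratic correction term. -/
theorem exists_aut_of_isometry (hnd : ND f) (T : V ≃ₗ[ZMod 2] V) (μ : V → ZMod 2)
    (hμ : ∀ w w', μ (w + w') = μ w + μ w' + (f (T w) (T w') + f w w')) :
    ∃ α : MulAut (BE f), ∀ w, lin hnd α w = T w := by
  obtain ⟨φ, hφ⟩ : ∃ φ : BE f →* BE f, ∀ g, φ g = ⟨g.c + μ g.w, T g.w⟩ := by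
    refine ⟨MonoidHom.mk' (fun g => ⟨g.c + μ g.w, T g.w⟩) ?_, fun g => rfl⟩
    intro g h
    ext1
    · simp only [mul_c, mul_w, hμ]
      have := two_c (f g.w h.w)
      calc g.c + h.c + f g.w h.w + (μ g.w + μ h.w + (f (T g.w) (T h.w) + f g.w h.w))
          = g.c + μ g.w + (h.c + μ h.w) + f (T g.w) (T h.w) + (f g.w h.w + f g.w h.w) := by ring
        _ = _ := by rw [this, add_zero]
    · simp only [mul_w, map_add]
  have hbij : Function.Bijective φ := by
    constructor
    · intro g h hgh
      rw [hφ, hφ] at hgh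
      have h1 : g.w = h.w := T.injective (congrArg BE.w hgh)
      have h2 := congrArg BE.c hgh
      simp only [h1] at h2
      exact BE.ext (add_right_cancel h2) h1
    · intro g
      refine ⟨⟨g.c + μ (T.symm g.w), T.symm g.w⟩, ?_⟩
      rw [hφ]
      ext1
      · simp only
        rw [add_assoc, two_c, add_zero]
      · simp
  refine ⟨MulEquiv.ofBijective φ hbij, fun w => ?_⟩
  have := lin_apply hnd (MulEquiv.ofBijective φ hbij) ⟨0, w⟩
  simp only at this
  rw [this]
  show (φ ⟨0, w⟩).w = T w
  rw [hφ]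

end BE

/-- every alternating form over `𝔽₂` is the polar form of a quadratic map. -/
theorem exists_quadratic_of_alternating {ι : Type*} [Fintype ι] [DecidableEq ι]
    (β : LinearMap.BilinForm (ZMod 2) (ι → ZMod 2)) (hβ : ∀ w, β w w = 0) :
    ∃ μ : (ι → ZMod 2) → ZMod 2, ∀ w w', μ (w + w') = μ w + μ w' + β w w' := by
  classical
  obtain ⟨b, hb⟩ : ∃ b : Matrix ι ι (ZMod 2), b = LinearMap.BilinForm.toMatrix' β := ⟨_, rfl⟩
  have hβb : ∀ w w', β w w' = ∑ i, ∑ j, w i * b i j * w' j := by
    intro w w'
    rw [hb, ← Matrix.toBilin'_apply, Matrix.toBilin'_toMatrix']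
  have hsymm : ∀ x y, β x y = β y x := by
    intro x y
    have := hβ (x + y)
    simp only [map_add, LinearMap.add_apply, hβ, zero_add, add_zero] at this
    exact (BE.zmod2_eq_of_add_eq_zero this).symm
  have hbii : ∀ i, b i i = 0 := by
    intro i
    rw [hb, LinearMap.BilinForm.toMatrix'_apply, hβ]
  have hbij : ∀ i j, b i j = b j i := by
    intro i j
    rw [hb, LinearMap.BilinForm.toMatrix'_apply, LinearMap.BilinForm.toMatrix'_apply, hsymm]
  let e := Fintype.equivFin ι
  refine ⟨fun w => ∑ i, ∑ j, if e i < e j then w i * b i j * w j else 0, fun w w' => ?_⟩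
  rw [hβb]
  -- split the full sum
  have key : ∑ i, ∑ j, w i * b i j * w' j =
      (∑ i, ∑ j, if e i < e j then w i * b i j * w' j else 0) +
      (∑ i, ∑ j, if e i < e j then w' i * b i j * w j else 0) := by
    have h2 : (∑ i, ∑ j, if e i < e j then w' i * b i j * w j else 0) =
        ∑ i, ∑ j, if e j < e i then w i * b i j * w' j else 0 := by
      rw [Finset.sum_comm]
      apply Finset.sum_congr rfl
      intro i _
      apply Finset.sum_congr rfl
      intro j _
      rw [hbij j i]
      split_ifs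
      · ring
      · rfl
    rw [h2, ← Finset.sum_add_distrib]
    apply Finset.sum_congr rfl
    intro i _
    rw [← Finset.sum_add_distrib]
    apply Finset.sum_congr rfl
    intro j _
    rcases lt_trichotomy (e i) (e j) with h | h | h
    · rw [if_pos h, if_neg (not_lt_of_gt h), add_zero]
    · have : i = j := e.injective h
      subst this
      simp [hbii]
    · rw [if_neg (not_lt_of_gt h), if_pos h, zero_add]
  rw [key, ← Finset.sum_add_distrib, ← Finset.sum_add_distrib, ← Finset.sum_add_distrib]
  apply Finset.sum_congr rfl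
  intro i _
  rw [← Finset.sum_add_distrib, ← Finset.sum_add_distrib, ← Finset.sum_add_distrib]
  apply Finset.sum_congr rfl
  intro j _
  split_ifs
  · simp only [Pi.add_apply]; ring
  · simp

end Cfsg.Agent.Lib.Helper90
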