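import Mathlib
import Cfsg.Prelude.Def_Classical
import Cfsg.Prelude.Def_KGroupFacts
import Cfsg.Agent.Lib.Helper90.ESOut2

set_option autoImplicit false

namespace Cfsg.Agent.Lib.Helper90

open Matrix

/-- `Out` is invariant under isomorphism. -/
theorem nonempty_out_congr {E : Type*} {E' : Type*} [Group E] [Group E'] (e : E ≃* E') :
    Nonempty (Cfsg.Out E ≃* Cfsg.Out E') := by
  refine ⟨QuotientGroup.congr (Cfsg.Inn E) (Cfsg.Inn E') (MulAut.congr e) ?_⟩
  ext φ
  constructor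
  · rintro ⟨_, ⟨a, rfl⟩, rfl⟩
    refine ⟨e a, ?_⟩
    ext x
    simp [MulAut.congr, MulAut.conj_apply]
  · rintro ⟨a, rfl⟩
    refine ⟨MulAut.conj (e.symm a), ⟨e.symm a, rfl⟩, ?_⟩
    ext x
    simp [MulAut.congr, MulAut.conj_apply]

namespace BE

variable {ι : Type} [Fintype ι] [DecidableEq ι] {f : LinearMap.BilinForm (ZMod 2) (ι → ZMod 2)}

/-- the action of `Aut` on `V`, in matrix form. -/
noncomputable def Phi (hnd : ND f) : MulAut (BE f) →* GL ι (ZMod 2) :=
  (Matrix.GeneralLinearGroup.toLin (n := ι) (R := ZMod 2)).symm.toMonoidHom.comp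
    (linHom hnd).toHomUnits

theorem Phi_mulVec (hnd : ND f) (α : MulAut (BE f)) (w : ι → ZMod 2) :
    ((Phi hnd α : GL ι (ZMod 2)) : Matrix ι ι (ZMod 2)) *ᵥ w = lin hnd α w := by
  have h1 := Matrix.GeneralLinearGroup.coe_toLin (Phi hnd α)
  have h2 : Matrix.GeneralLinearGroup.toLin (Phi hnd α) = (linHom hnd).toHomUnits α := by
    simp [Phi]
  rw [h2] at h1
  have h3 := congrArg (fun L : (ι → ZMod 2) →ₗ[ZMod 2] (ι → ZMod 2) => L w) h1
  simp only [Matrix.mulVecLin_apply] at h3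
  rw [← h3]
  rfl

theorem matrix_ext_mulVec' {A B : Matrix ι ι (ZMod 2)} (h : ∀ x, A *ᵥ x = B *ᵥ x) : A = B := by
  apply Matrix.toLin'.injective
  apply LinearMap.ext
  intro x
  rw [Matrix.toLin'_apply, Matrix.toLin'_apply, h]

theorem ker_Phi (hnd : ND f) : (Phi hnd).ker = Cfsg.Inn (BE f) := by
  ext α
  rw [MonoidHom.mem_ker]
  constructor
  · intro h
    have h1 : ∀ w, lin hnd α w = w := by
      intro w
      rw [← Phi_mulVec, h]
      simp
    obtain ⟨a, ha⟩ := inner_of_lin_eq_id hnd α h1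
    refine ⟨a, ?_⟩
    ext g
    · rw [MulAut.conj_apply, ha]
    · rw [MulAut.conj_apply, ha]
  · rintro ⟨a, rfl⟩
    apply Units.ext
    apply matrix_ext_mulVec'
    intro w
    rw [Phi_mulVec, lin_conj]
    simp

theorem range_Phi (hnd : ND f) :
    (Phi hnd).range = Cfsg.isometryGroup (ZMod 2) (fun w => f w w) := by
  ext g
  constructor
  · rintro ⟨α, rfl⟩
    intro u _
    show f _ _ = f u u
    have : (Units.coeHom (Matrix ι ι (ZMod 2))) (Phi hnd α) *ᵥ u = lin hnd α u :=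
      Phi_mulVec hnd α u
    rw [this, lin_isometry]
  · intro hg
    have hg' : ∀ u, f ((g : Matrix ι ι (ZMod 2)) *ᵥ u) ((g : Matrix ι ι (ZMod 2)) *ᵥ u) = f u u :=
      fun u => hg u u
    obtain ⟨T, hT⟩ : ∃ T : (ι → ZMod 2) ≃ₗ[ZMod 2] (ι → ZMod 2),
        ∀ u, T u = (g : Matrix ι ι (ZMod 2)) *ᵥ u := by
      refine ⟨LinearMap.GeneralLinearGroup.generalLinearEquiv _ _
        (Matrix.GeneralLinearGroup.toLin g), fun u => ?_⟩
      simp
    obtain ⟨β, hβ⟩ : ∃ β : LinearMap.BilinForm (ZMod 2) (ι → ZMod 2),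
        ∀ w w', β w w' = f (T w) (T w') + f w w' :=
      ⟨f.compl₁₂ T.toLinearMap T.toLinearMap + f, fun w w' => by simp⟩
    obtain ⟨μ, hμ⟩ := exists_quadratic_of_alternating β (by
      intro w
      rw [hβ, hT, hg', two_c])
    obtain ⟨α, hα⟩ := exists_aut_of_isometry hnd T μ (by
      intro w w'
      rw [hμ, hβ])
    refine ⟨α, ?_⟩
    apply Units.ext
    apply matrix_ext_mulVec'
    intro w
    rw [Phi_mulVec, hα, hT]

/-- `Out(BE f) ≅ O(q)`. -/
theorem nonempty_out_equiv (hnd : ND f) :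
    Nonempty (Cfsg.Out (BE f) ≃* Cfsg.isometryGroup (ZMod 2) (fun w => f w w)) :=
  ⟨((QuotientGroup.quotientMulEquivOfEq (ker_Phi hnd)).symm.trans
    (QuotientGroup.quotientKerEquivRange (Phi hnd))).trans
    (MulEquiv.subgroupCongr (range_Phi hnd))⟩

end BE

end Cfsg.Agent.Lib.Helper90
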