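import Mathlib
import Cfsg.Agent.Lib.Helper90.ESOut3

set_option autoImplicit false

namespace Cfsg.Agent.Lib.Helper90

open Matrix

/-- the bilinear form whose diagonal is `quadFormPlus`. -/
def fPlus (n : ℕ) : LinearMap.BilinForm (ZMod 2) (Fin n ⊕ Fin n → ZMod 2) :=
  LinearMap.mk₂ (ZMod 2) (fun w w' => ∑ i : Fin n, w (.inl i) * w' (.inr i))
    (by intro a b c; simp only [Pi.add_apply, add_mul, Finset.sum_add_distrib])
    (by intro r a c; simp only [Pi.smul_apply, smul_eq_mul, Finset.mul_sum, mul_assoc])
    (by intro a b c; simp only [Pi.add_apply, mul_add, Finset.sum_add_distrib])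
    (by
      intro r a c
      simp only [Pi.smul_apply, smul_eq_mul, Finset.mul_sum]
      apply Finset.sum_congr rfl
      intro i _
      ring)

theorem fPlus_apply (n : ℕ) (w w' : Fin n ⊕ Fin n → ZMod 2) :
    fPlus n w w' = ∑ i : Fin n, w (.inl i) * w' (.inr i) := rfl

theorem fPlus_diag (n : ℕ) : (fun w => fPlus n w w) = Cfsg.quadFormPlus n (ZMod 2) := rfl

theorem fPlus_nd (n : ℕ) : BE.ND (fPlus n) := by
  intro w hw
  funext k
  rcases k with i | i
  · have := hw (Pi.single (.inr i) 1)
    simpa [fPlus_apply, Pi.single_apply] using this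
  · have := hw (Pi.single (.inl i) 1)
    simpa [fPlus_apply, Pi.single_apply] using this.symm

/-- the model of plus type. -/
def hePlusEquiv (n : ℕ) : HE (fun _ : Fin n => (0 : ZMod 2)) ≃* BE (fPlus n) where
  toFun g := ⟨g.c, Sum.elim g.u g.v⟩
  invFun h := ⟨h.c, fun i => h.w (.inl i), fun i => h.w (.inr i)⟩
  left_inv g := by
    ext1 <;> rfl
  right_inv h := by
    ext1
    · rfl
    · funext k
      rcases k with i | i <;> rfl
  map_mul' g h := by
    ext1
    · simp [HE.coc, fPlus_apply]
    · funext k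
      rcases k with i | i <;> rfl

/-- the bilinear form whose diagonal is `quadFormMinus`. -/
def fMinus (m : ℕ) : LinearMap.BilinForm (ZMod 2) ((Fin m ⊕ Fin m) ⊕ Fin 2 → ZMod 2) :=
  LinearMap.mk₂ (ZMod 2) (fun w w' => (∑ i : Fin m, w (.inl (.inl i)) * w' (.inl (.inr i))) +
      (w (.inr 0) * w' (.inr 0) + w (.inr 0) * w' (.inr 1) + w (.inr 1) * w' (.inr 1)))
    (by intro a b c; simp only [Pi.add_apply, add_mul, Finset.sum_add_distrib]; ring)
    (by
      intro r a c
      simp only [Pi.smul_apply, smul_eq_mul, mul_add, Finset.mul_sum, mul_assoc])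
    (by intro a b c; simp only [Pi.add_apply, mul_add, Finset.sum_add_distrib]; ring)
    (by
      intro r a c
      simp only [Pi.smul_apply, smul_eq_mul, mul_add, Finset.mul_sum]
      congr 1
      · apply Finset.sum_congr rfl
        intro i _
        ring
      · ring)

theorem fMinus_apply (m : ℕ) (w w' : (Fin m ⊕ Fin m) ⊕ Fin 2 → ZMod 2) :
    fMinus m w w' = (∑ i : Fin m, w (.inl (.inl i)) * w' (.inl (.inr i))) +
      (w (.inr 0) * w' (.inr 0) + w (.inr 0) * w' (.inr 1) + w (.inr 1) * w' (.inr 1)) := rfl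

theorem fMinus_diag (m : ℕ) :
    (fun w => fMinus m w w) = Cfsg.quadFormMinus m (ZMod 2) 1 1 := by
  funext w
  rw [fMinus_apply, Cfsg.quadFormMinus]
  ring

theorem fMinus_nd (m : ℕ) : BE.ND (fMinus m) := by
  intro w hw
  funext k
  rcases k with (i | i) | i
  · have := hw (Pi.single (.inl (.inr i)) 1)
    simpa [fMinus_apply, Pi.single_apply] using this
  · have := hw (Pi.single (.inl (.inl i)) 1)
    simpa [fMinus_apply, Pi.single_apply] using this.symm
  · have h0 := hw (Pi.single (.inr 0) 1)
    have h1 := hw (Pi.single (.inr 1) 1)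
    simp [fMinus_apply] at h0 h1
    fin_cases i
    · exact h1
    · exact h0

/-- the type function of the minus model. -/
def epsMinus (m : ℕ) : Fin (m + 1) → ZMod 2 := fun j => if j.val = 0 then 1 else 0

/-- the model of minus type. -/
def heMinusEquiv (m : ℕ) : HE (epsMinus m) ≃* BE (fMinus m) where
  toFun g := ⟨g.c, Sum.elim (Sum.elim (fun i => g.u i.succ) (fun i => g.v i.succ))
    ![g.u 0, g.v 0]⟩
  invFun h := ⟨h.c, Fin.cons (h.w (.inr 0)) (fun i => h.w (.inl (.inl i))),
    Fin.cons (h.w (.inr 1)) (fun i => h.w (.inl (.inr i)))⟩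
  left_inv g := by
    ext1
    · rfl
    · funext k
      refine Fin.cases ?_ (fun i => ?_) k <;> simp
    · funext k
      refine Fin.cases ?_ (fun i => ?_) k <;> simp
  right_inv h := by
    ext1
    · rfl
    · funext k
      rcases k with (i | i) | i
      · simp
      · simp
      · fin_cases i <;> simp
  map_mul' g h := by
    ext1
    · simp [HE.coc, fMinus_apply, Fin.sum_univ_succ, epsMinus]
      ring
    · funext k
      rcases k with (i | i) | i
      · rfl
      · rfl
      · fin_cases i <;> rfl

end Cfsg.Agent.Lib.Helper90
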