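import Mathlib

set_option autoImplicit false

namespace Cfsg.Agent.Lib.Helper90

variable {G : Type*} [Group G]

/-- `V = {1, z, s, zs}` is a four-group. -/
structure Four (V : Subgroup G) (z s : G) : Prop where
  z_ne : z ≠ 1
  s_ne : s ≠ 1
  zs_ne : z ≠ s
  z_sq : z * z = 1
  s_sq : s * s = 1
  comm : z * s = s * z
  mem : ∀ v, v ∈ V ↔ v = 1 ∨ v = z ∨ v = s ∨ v = z * s

/-- the three involutions. -/
def fourElt (z s : G) : Fin 3 → G := ![z, s, z * s]

namespace Four

variable {V : Subgroup G} {z s : G}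

theorem fourElt_injective (h : Four V z s) : Function.Injective (fourElt z s) := by
  have h1 : z ≠ z * s := fun e => h.s_ne (by simpa using e.symm)
  have h2 : s ≠ z * s := fun e => h.z_ne (by simpa using e.symm)
  intro i j hij
  fin_cases i <;> fin_cases j <;> simp [fourElt] at hij ⊢
  · exact h.zs_ne hij
  · exact h.s_ne hij
  · exact h.zs_ne hij.symm
  · exact h.z_ne hij
  · exact h.s_ne hij
  · exact h.z_ne hij

theorem mem_iff_fourElt (h : Four V z s) (v : G) : (v ∈ V ∧ v ≠ 1) ↔ ∃ i, fourElt z s i = v := by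
  constructor
  · rintro ⟨hv, hv1⟩
    rcases (h.mem v).mp hv with rfl | rfl | rfl | rfl
    · exact absurd rfl hv1
    · exact ⟨0, rfl⟩
    · exact ⟨1, rfl⟩
    · exact ⟨2, rfl⟩
  · rintro ⟨i, rfl⟩
    fin_cases i
    · exact ⟨(h.mem _).mpr (Or.inr (Or.inl rfl)), h.z_ne⟩
    · exact ⟨(h.mem _).mpr (Or.inr (Or.inr (Or.inl rfl))), h.s_ne⟩
    · refine ⟨(h.mem _).mpr (Or.inr (Or.inr (Or.inr rfl))), ?_⟩
      intro e
      apply h.zs_ne
      have e' : z * s = 1 := e
      calc z = z * (s * s) := by rw [h.s_sq, mul_one]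
        _ = (z * s) * s := by group
        _ = s := by rw [e', one_mul]

theorem exists_index (h : Four V z s) (n : Subgroup.normalizer (V : Set G)) (i : Fin 3) :
    ∃ j, fourElt z s j = (n : G) * fourElt z s i * (n : G)⁻¹ := by
  rw [← h.mem_iff_fourElt]
  obtain ⟨h1, h2⟩ := (h.mem_iff_fourElt _).mpr ⟨i, rfl⟩
  refine ⟨(Subgroup.mem_normalizer_iff.mp n.2 _).mp h1, ?_⟩
  intro e
  apply h2
  have := congrArg (fun w => (n : G)⁻¹ * w * (n : G)) e
  simpa [mul_assoc] using this

/-- the action of `N_G(V)` on the indices of the three involutions. -/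
noncomputable def act (h : Four V z s) (n : Subgroup.normalizer (V : Set G)) (i : Fin 3) : Fin 3 :=
  (h.exists_index n i).choose

theorem act_spec (h : Four V z s) (n : Subgroup.normalizer (V : Set G)) (i : Fin 3) :
    fourElt z s (h.act n i) = (n : G) * fourElt z s i * (n : G)⁻¹ :=
  (h.exists_index n i).choose_spec

/-- the action as a `MulAction`. -/
@[reducible] noncomputable def mulAction (h : Four V z s) :
    MulAction (Subgroup.normalizer (V : Set G)) (Fin 3) where
  smul n i := h.act n i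
  one_smul i := by
    apply h.fourElt_injective
    show fourElt z s (h.act 1 i) = _
    rw [h.act_spec]; simp
  mul_smul m n i := by
    apply h.fourElt_injective
    show fourElt z s (h.act (m * n) i) = fourElt z s (h.act m (h.act n i))
    rw [h.act_spec, h.act_spec, h.act_spec]
    simp only [Subgroup.coe_mul]
    group

/-- the permutation representation of `N_G(V)` on the three involutions of `V`. -/
noncomputable def rho (h : Four V z s) : Subgroup.normalizer (V : Set G) →* Equiv.Perm (Fin 3) :=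
  @MulAction.toPermHom _ _ _ h.mulAction

theorem rho_spec (h : Four V z s) (n : Subgroup.normalizer (V : Set G)) (i : Fin 3) :
    fourElt z s (h.rho n i) = (n : G) * fourElt z s i * (n : G)⁻¹ :=
  h.act_spec n i

theorem mem_centralizer_iff (h : Four V z s) (c : G) :
    c ∈ Subgroup.centralizer (V : Set G) ↔ c * z = z * c ∧ c * s = s * c := by
  rw [Subgroup.mem_centralizer_iff]
  constructor
  · intro hc
    exact ⟨(hc z ((h.mem z).mpr (Or.inr (Or.inl rfl)))).symm,
      (hc s ((h.mem s).mpr (Or.inr (Or.inr (Or.inl rfl))))).symm⟩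
  · rintro ⟨h1, h2⟩ v hv
    rcases (h.mem v).mp hv with rfl | rfl | rfl | rfl
    · simp
    · exact h1.symm
    · exact h2.symm
    · calc z * s * c = z * (s * c) := by group
        _ = (z * c) * s := by rw [← h2]; group
        _ = c * (z * s) := by rw [← h1]; group

theorem rho_ker (h : Four V z s) :
    h.rho.ker = (Subgroup.centralizer (V : Set G)).subgroupOf (Subgroup.normalizer (V : Set G)) := by
  ext n
  rw [MonoidHom.mem_ker, Subgroup.mem_subgroupOf, h.mem_centralizer_iff]
  constructor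
  · intro hn
    have h0 := h.rho_spec n 0
    have h1 := h.rho_spec n 1
    rw [hn] at h0 h1
    simp only [Equiv.Perm.coe_one, id_eq] at h0 h1
    have h0' : z = (n : G) * z * (n : G)⁻¹ := h0
    have h1' : s = (n : G) * s * (n : G)⁻¹ := h1
    constructor
    · calc (n : G) * z = ((n : G) * z * (n : G)⁻¹) * n := by group
        _ = z * n := by rw [← h0']
    · calc (n : G) * s = ((n : G) * s * (n : G)⁻¹) * n := by group
        _ = s * n := by rw [← h1']
  · rintro ⟨h1, h2⟩
    ext i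
    congr 1
    apply h.fourElt_injective
    rw [h.rho_spec]
    simp only [Equiv.Perm.coe_one, id_eq]
    fin_cases i
    · show (n : G) * z * (n : G)⁻¹ = z
      rw [h1]; group
    · show (n : G) * s * (n : G)⁻¹ = s
      rw [h2]; group
    · show (n : G) * (z * s) * (n : G)⁻¹ = z * s
      calc (n : G) * (z * s) * (n : G)⁻¹ = ((n : G) * z) * s * (n : G)⁻¹ := by group
        _ = z * ((n : G) * s) * (n : G)⁻¹ := by rw [h1]; group
        _ = z * s := by rw [h2]; group

/-- an element mapping `z, s` into `V` by an explicit permutation normalises `V`. -/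
theorem mem_normalizer_of [Finite G] (h : Four V z s) (y : G) (hz : y * z * y⁻¹ ∈ V)
    (hs : y * s * y⁻¹ ∈ V) : y ∈ Subgroup.normalizer (V : Set G) := by
  have hle : V.map (MulAut.conj y).toMonoidHom ≤ V := by
    rintro _ ⟨v, hv, rfl⟩
    simp only [MulEquiv.coe_toMonoidHom, MulAut.conj_apply]
    rcases (h.mem v).mp hv with rfl | rfl | rfl | rfl
    · simp
    · exact hz
    · exact hs
    · have := V.mul_mem hz hs
      have e : y * z * y⁻¹ * (y * s * y⁻¹) = y * (z * s) * y⁻¹ := by group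
      rwa [e] at this
  have hcard : Nat.card (V.map (MulAut.conj y).toMonoidHom) = Nat.card V :=
    Subgroup.card_map_of_injective (MulAut.conj y).injective
  have heq : V.map (MulAut.conj y).toMonoidHom = V :=
    Subgroup.eq_of_le_of_card_ge hle hcard.ge
  rw [Subgroup.mem_normalizer_iff]
  intro v
  constructor
  · intro hv
    exact hle ⟨v, hv, rfl⟩
  · intro hv
    rw [← heq] at hv
    obtain ⟨u, hu, hu'⟩ := hv
    simp only [MulEquiv.coe_toMonoidHom, MulAut.conj_apply] at hu'
    have : u = v := by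
      have := congrArg (fun w => y⁻¹ * w * y) hu'
      simpa [mul_assoc] using this
    rw [← this]; exact hu

theorem perm_cases : ∀ σ : Equiv.Perm (Fin 3),
    σ = 1 ∨ σ = Equiv.swap 1 2 ∨ σ = Equiv.swap 0 2 ∨ σ = Equiv.swap 1 2 * Equiv.swap 0 2 ∨
      σ = Equiv.swap 0 2 * Equiv.swap 1 2 ∨ σ = Equiv.swap 1 2 * Equiv.swap 0 2 * Equiv.swap 1 2 := by
  decide

/-- `ρ q` for `q` fixing `z` and moving `s` to `zs`. -/
theorem rho_eq_swap12 (h : Four V z s) (q : Subgroup.normalizer (V : Set G))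
    (hqz : (q : G) * z * (q : G)⁻¹ = z) (hqs : (q : G) * s * (q : G)⁻¹ = z * s) :
    h.rho q = Equiv.swap 1 2 := by
  ext i
  congr 1
  apply h.fourElt_injective
  rw [h.rho_spec]
  fin_cases i
  · show (q : G) * z * (q : G)⁻¹ = z
    exact hqz
  · show (q : G) * s * (q : G)⁻¹ = z * s
    exact hqs
  · show (q : G) * (z * s) * (q : G)⁻¹ = s
    calc (q : G) * (z * s) * (q : G)⁻¹ = ((q : G) * z * (q : G)⁻¹) * ((q : G) * s * (q : G)⁻¹) := by group
      _ = (z * z) * s := by rw [hqz, hqs]; group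
      _ = s := by rw [h.z_sq, one_mul]

/-- `ρ x` for `x` fixing `s` and moving `z` to `zs`. -/
theorem rho_eq_swap02 (h : Four V z s) (x : Subgroup.normalizer (V : Set G))
    (hxs : (x : G) * s * (x : G)⁻¹ = s) (hxz : (x : G) * z * (x : G)⁻¹ = z * s) :
    h.rho x = Equiv.swap 0 2 := by
  ext i
  congr 1
  apply h.fourElt_injective
  rw [h.rho_spec]
  fin_cases i
  · show (x : G) * z * (x : G)⁻¹ = z * s
    exact hxz
  · show (x : G) * s * (x : G)⁻¹ = s
    exact hxs
  · show (x : G) * (z * s) * (x : G)⁻¹ = z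
    calc (x : G) * (z * s) * (x : G)⁻¹ = ((x : G) * z * (x : G)⁻¹) * ((x : G) * s * (x : G)⁻¹) := by group
      _ = z * (s * s) := by rw [hxz, hxs]; group
      _ = z := by rw [h.s_sq, mul_one]

/-- the restriction of `ρ` to a subgroup `X ≤ N_G(V)` containing the two transvections is onto. -/
theorem rho_comp_surjective (h : Four V z s) (X : Subgroup G)
    (hX : X ≤ Subgroup.normalizer (V : Set G)) (q x : G) (hq : q ∈ X) (hx : x ∈ X)
    (hqz : q * z * q⁻¹ = z) (hqs : q * s * q⁻¹ = z * s)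
    (hxs : x * s * x⁻¹ = s) (hxz : x * z * x⁻¹ = z * s) :
    Function.Surjective (h.rho.comp (Subgroup.inclusion hX)) := by
  have e1 : (h.rho.comp (Subgroup.inclusion hX)) ⟨q, hq⟩ = Equiv.swap 1 2 :=
    h.rho_eq_swap12 ⟨q, hX hq⟩ hqz hqs
  have e2 : (h.rho.comp (Subgroup.inclusion hX)) ⟨x, hx⟩ = Equiv.swap 0 2 :=
    h.rho_eq_swap02 ⟨x, hX hx⟩ hxs hxz
  intro σ
  rcases perm_cases σ with rfl | rfl | rfl | rfl | rfl | rfl
  · exact ⟨1, map_one _⟩
  · exact ⟨_, e1⟩
  · exact ⟨_, e2⟩
  · exact ⟨⟨q, hq⟩ * ⟨x, hx⟩, by rw [map_mul, e1, e2]⟩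
  · exact ⟨⟨x, hx⟩ * ⟨q, hq⟩, by rw [map_mul, e1, e2]⟩
  · exact ⟨⟨q, hq⟩ * ⟨x, hx⟩ * ⟨q, hq⟩, by rw [map_mul, map_mul, e1, e2]⟩

theorem rho_comp_ker (h : Four V z s) (X : Subgroup G)
    (hX : X ≤ Subgroup.normalizer (V : Set G)) :
    (h.rho.comp (Subgroup.inclusion hX)).ker = (Subgroup.centralizer (V : Set G)).subgroupOf X := by
  ext n
  rw [MonoidHom.mem_ker, MonoidHom.comp_apply, ← MonoidHom.mem_ker, h.rho_ker,
    Subgroup.mem_subgroupOf, Subgroup.mem_subgroupOf]
  rfl

/-- `X / C_X(V) ≅ S₃`. -/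
theorem quotient_equiv_perm (h : Four V z s) (X : Subgroup G)
    (hX : X ≤ Subgroup.normalizer (V : Set G)) (q x : G) (hq : q ∈ X) (hx : x ∈ X)
    (hqz : q * z * q⁻¹ = z) (hqs : q * s * q⁻¹ = z * s)
    (hxs : x * s * x⁻¹ = s) (hxz : x * z * x⁻¹ = z * s) :
    ∃ _ : ((Subgroup.centralizer (V : Set G)).subgroupOf X).Normal,
      Nonempty (X ⧸ (Subgroup.centralizer (V : Set G)).subgroupOf X ≃* Equiv.Perm (Fin 3)) := by
  rw [← h.rho_comp_ker X hX]
  exact ⟨inferInstance, ⟨QuotientGroup.quotientKerEquivOfSurjective _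
    (h.rho_comp_surjective X hX q x hq hx hqz hqs hxs hxz)⟩⟩

/-- `|N_G(V) : C_G(V)| = 6`. -/
theorem relIndex_eq_six [Finite G] (h : Four V z s) (q x : G)
    (hqz : q * z * q⁻¹ = z) (hqs : q * s * q⁻¹ = z * s)
    (hxs : x * s * x⁻¹ = s) (hxz : x * z * x⁻¹ = z * s) :
    (Subgroup.centralizer (V : Set G)).relIndex (Subgroup.normalizer (V : Set G)) = 6 := by
  have hzV : z ∈ V := (h.mem z).mpr (Or.inr (Or.inl rfl))
  have hsV : s ∈ V := (h.mem s).mpr (Or.inr (Or.inr (Or.inl rfl)))
  have hzsV : z * s ∈ V := (h.mem _).mpr (Or.inr (Or.inr (Or.inr rfl)))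
  have hq : q ∈ Subgroup.normalizer (V : Set G) :=
    h.mem_normalizer_of q (by rw [hqz]; exact hzV) (by rw [hqs]; exact hzsV)
  have hx : x ∈ Subgroup.normalizer (V : Set G) :=
    h.mem_normalizer_of x (by rw [hxz]; exact hzsV) (by rw [hxs]; exact hsV)
  have hsurj := h.rho_comp_surjective _ le_rfl q x hq hx hqz hqs hxs hxz
  have hsurj' : Function.Surjective h.rho := by
    intro σ
    obtain ⟨n, hn⟩ := hsurj σ
    exact ⟨_, hn⟩
  rw [Subgroup.relIndex, ← h.rho_ker, Subgroup.index_ker, MonoidHom.range_eq_top.mpr hsurj',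
    Subgroup.card_top, Nat.card_eq_fintype_card, Fintype.card_perm, Fintype.card_fin]
  rfl

end Four

end Cfsg.Agent.Lib.Helper90

namespace Cfsg.Agent.Lib.Helper90

variable {G : Type*} [Group G]

/-- the four-group `{1, z, s, zs}` as a subgroup. -/
def fourSubgroup (z s : G) (hzz : z * z = 1) (hss : s * s = 1) (hc : s * z = z * s) : Subgroup G where
  carrier := {v | v = 1 ∨ v = z ∨ v = s ∨ v = z * s}
  one_mem' := Or.inl rfl
  mul_mem' := by
    have hzz' : ∀ w, z * (z * w) = w := fun w => by rw [← mul_assoc, hzz, one_mul]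
    have hss' : ∀ w, s * (s * w) = w := fun w => by rw [← mul_assoc, hss, one_mul]
    have hc' : ∀ w, s * (z * w) = z * (s * w) := fun w => by rw [← mul_assoc, hc, mul_assoc]
    rintro a b (rfl | rfl | rfl | rfl) (rfl | rfl | rfl | rfl) <;>
      simp [mul_assoc, hzz, hss, hc, hzz', hss', hc']
  inv_mem' := by
    have hzi : z⁻¹ = z := inv_eq_of_mul_eq_one_right hzz
    have hsi : s⁻¹ = s := inv_eq_of_mul_eq_one_right hss
    rintro a (rfl | rfl | rfl | rfl) <;> simp [hzi, hsi, hc]

theorem mem_fourSubgroup (z s : G) (hzz : z * z = 1) (hss : s * s = 1) (hc : s * z = z * s) (v : G) :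
    v ∈ fourSubgroup z s hzz hss hc ↔ v = 1 ∨ v = z ∨ v = s ∨ v = z * s := Iff.rfl

/-- a subgroup generated by `z` and `s` (in the sense below) is the four-group. -/
theorem Four.of_le (V : Subgroup G) (z s : G) (hz1 : z ≠ 1) (hs1 : s ≠ 1) (hzs : z ≠ s)
    (hzz : z * z = 1) (hss : s * s = 1) (hc : z * s = s * z) (hzV : z ∈ V) (hsV : s ∈ V)
    (hle : V ≤ fourSubgroup z s hzz hss hc.symm) : Four V z s where
  z_ne := hz1
  s_ne := hs1
  zs_ne := hzs
  z_sq := hzz
  s_sq := hss
  comm := hc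
  mem := by
    intro v
    constructor
    · intro hv; exact hle hv
    · rintro (rfl | rfl | rfl | rfl)
      · exact V.one_mem
      · exact hzV
      · exact hsV
      · exact V.mul_mem hzV hsV

end Cfsg.Agent.Lib.Helper90
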