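import Mathlib
import Cfsg.Prelude.Def_MonsterType
import Cfsg.Agent.Lib.Helper90.Extraspecial

set_option autoImplicit false

namespace Cfsg.Agent.Lib.Helper90

variable {G : Type*} [Group G]

theorem odd_card_of_le [Finite G] {K K' : Subgroup G} (hK : Odd (Nat.card K)) (h : K' ≤ K) :
    Odd (Nat.card K') :=
  Odd.of_dvd_nat hK (Subgroup.card_dvd_of_le h)

/-- Largeness criterion: `b ∈ Q - Z(Q)` an involution and `R` a `2`-subgroup containing `z` and
normalised by `C_G(b)`. -/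
theorem large_of_involution [Finite G] (Q : Subgroup G) (z : G) (hES : ES Q z)
    (hL2 : Subgroup.centralizer (Q : Set G) = ((Subgroup.center ↥Q).map Q.subtype))
    (hL3 : Subgroup.centralizer (((Subgroup.center ↥Q).map Q.subtype) : Set G) ≤
      Subgroup.normalizer (Q : Set G))
    (b : G) (hbQ : b ∈ Q) (hb1 : b ≠ 1) (hbz : b ≠ z) (hbb : b * b = 1)
    (R : Subgroup G) (hR2 : IsPGroup 2 R) (hzR : z ∈ R)
    (hRn : ∀ c : G, c * b = b * c → ∀ r ∈ R, c * r * c⁻¹ ∈ R)
    (K : Subgroup G) (hK : Odd (Nat.card K)) (hQK : Q ≤ Subgroup.normalizer (K : Set G)) :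
    K = ⊥ := by
  have hnorm : ∀ q ∈ Q, ∀ k ∈ K, q * k * q⁻¹ ∈ K := fun q hq k hk =>
    (Subgroup.mem_normalizer_iff.mp (hQK hq) k).mp hk
  -- (i) C_K(z) = 1
  have hKz : ∀ k ∈ K, z * k = k * z → k = 1 := by
    have h1 : K ⊓ Subgroup.centralizer (((Subgroup.center ↥Q).map Q.subtype) : Set G) = ⊥ := by
      apply eq_bot_of_centralizes Q hES.two hL2 hL3 _ (odd_card_of_le hK inf_le_left) _ inf_le_right
      intro q hq
      rw [Subgroup.mem_normalizer_iff]
      intro k
      have key : ∀ q ∈ Q, ∀ k, k ∈ K ⊓ Subgroup.centralizer (((Subgroup.center ↥Q).map Q.subtype) : Set G) →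
          q * k * q⁻¹ ∈ K ⊓ Subgroup.centralizer (((Subgroup.center ↥Q).map Q.subtype) : Set G) := by
        intro q hq k hk
        refine Subgroup.mem_inf.mpr ⟨hnorm q hq k hk.1, ?_⟩
        have h2 := (hES.mem_centralizer_center_iff k).mp hk.2
        rw [hES.mem_centralizer_center_iff]
        have h3 := hES.z_comm q hq
        have h4 : q⁻¹ * z = z * q⁻¹ := hES.z_comm _ (Q.inv_mem hq)
        calc q * k * q⁻¹ * z = q * k * (q⁻¹ * z) := by group
          _ = q * (k * z) * q⁻¹ := by rw [h4]; group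
          _ = (q * z) * k * q⁻¹ := by rw [h2]; group
          _ = z * (q * k * q⁻¹) := by rw [h3]; group
      constructor
      · exact key q hq k
      · intro hk
        have := key q⁻¹ (Q.inv_mem hq) _ hk
        have e : q⁻¹ * (q * k * q⁻¹) * q⁻¹⁻¹ = k := by group
        rwa [e] at this
    intro k hk hc
    have : k ∈ K ⊓ Subgroup.centralizer (((Subgroup.center ↥Q).map Q.subtype) : Set G) :=
      ⟨hk, (hES.mem_centralizer_center_iff k).mpr hc.symm⟩
    rw [h1] at this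
    exact Subgroup.mem_bot.mp this
  -- (ii) C_K(b) = 1
  have hKb : ∀ k ∈ K, b * k = k * b → k = 1 := by
    intro k hk hc
    apply hKz k hk
    have h1 : z * k * z⁻¹ * k⁻¹ ∈ K := K.mul_mem (hnorm z hES.z_mem k hk) (K.inv_mem hk)
    have h2 : z * k * z⁻¹ * k⁻¹ ∈ R := by
      have := R.mul_mem hzR (hRn k hc.symm z⁻¹ (R.inv_mem hzR))
      have e : z * (k * z⁻¹ * k⁻¹) = z * k * z⁻¹ * k⁻¹ := by group
      rwa [e] at this
    have h3 := eq_one_of_mem_odd_of_mem_two hK hR2 h1 h2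
    have := congrArg (· * (k * z)) h3
    simpa [mul_assoc] using this
  -- (iii) C_K(zb) = 1
  obtain ⟨q, hq, hqb⟩ := hES.exists_conj hbQ hb1 hbz
  have hzb : z * b = b * z := (hES.z_comm b hbQ).symm
  have hKzb : ∀ k ∈ K, (z * b) * k = k * (z * b) → k = 1 := by
    intro k hk hc
    have h1 : q⁻¹ * k * q⁻¹⁻¹ ∈ K := hnorm _ (Q.inv_mem hq) k hk
    have h2 : b * (q⁻¹ * k * q⁻¹⁻¹) = (q⁻¹ * k * q⁻¹⁻¹) * b := by
      calc b * (q⁻¹ * k * q⁻¹⁻¹) = q⁻¹ * ((q * b * q⁻¹) * k) * q := by group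
        _ = q⁻¹ * (k * (q * b * q⁻¹)) * q := by rw [hqb, hc]
        _ = _ := by group
    have h3 := hKb _ h1 h2
    have := congrArg (fun w => q * w * q⁻¹) h3
    simpa [mul_assoc] using this
  -- inversion
  have hiz := inverts_of_fixedPointFree K z hES.z_sq (hnorm z hES.z_mem) hKz
  have hib := inverts_of_fixedPointFree K b hbb (hnorm b hbQ) hKb
  rw [eq_bot_iff]
  intro k hk
  apply Subgroup.mem_bot.mpr
  apply hKzb k hk
  have h1 := hib k hk
  have h2 := hiz k⁻¹ (K.inv_mem hk)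
  rw [inv_inv] at h2
  calc z * b * k = z * (b * k * b⁻¹) * b := by group
    _ = (z * k⁻¹ * z⁻¹) * z * b := by rw [h1]; group
    _ = k * (z * b) := by rw [h2]; group

end Cfsg.Agent.Lib.Helper90
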