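import Mathlib
import Cfsg.Agent.Lib.Helper90.Monster2
import Cfsg.Agent.Lib.Helper90.ESClass6
import Cfsg.Agent.S5551
import Cfsg.Agent.S0394
import Cfsg.Agent.S0395

set_option autoImplicit false

namespace Cfsg.Agent.Lib.Helper90

open Cfsg

/-- counting through a two-to-one map. -/
theorem ncard_eq_two_mul_of_two_to_one {α β : Type*} (S : Set α) (hS : S.Finite) (f : α → β)
    (ι : α → α) (hι : ∀ a ∈ S, ι a ∈ S ∧ ι a ≠ a ∧ f (ι a) = f a)
    (hf : ∀ a ∈ S, ∀ b ∈ S, f a = f b → b = a ∨ b = ι a) : S.ncard = 2 * (f '' S).ncard := by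
  classical
  obtain ⟨s, rfl⟩ : ∃ s : Finset α, (s : Set α) = S := ⟨hS.toFinset, hS.coe_toFinset⟩
  have himg : f '' (s : Set α) = ((s.image f : Finset β) : Set β) := by simp
  rw [himg, Set.ncard_coe_finset, Set.ncard_coe_finset]
  rw [Finset.card_eq_sum_card_fiberwise (f := f) (s := s) (t := s.image f)
    (fun a ha => by simpa using Finset.mem_image_of_mem f ha)]
  rw [Finset.sum_const_nat (m := 2), mul_comm]
  intro b hb
  obtain ⟨a, ha, rfl⟩ := Finset.mem_image.mp hb
  have : {x ∈ s | f x = f a} = {a, ι a} := by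
    ext x
    simp only [Finset.mem_filter, Finset.mem_insert, Finset.mem_singleton]
    constructor
    · rintro ⟨hx, hfx⟩
      exact hf a ha x hx hfx.symm
    · rintro (rfl | rfl)
      · exact ⟨ha, rfl⟩
      · exact ⟨(hι a ha).1, (hι a ha).2.2⟩
  rw [this, Finset.card_pair (hι a ha).2.1.symm]

/-- counting along a partition into four pieces. -/
theorem ncard_four_pieces {α : Type*} [Finite α] (Z A B C S : Set α)
    (hcov : ∀ x, x ∈ Z ∨ x ∈ A ∨ x ∈ B ∨ x ∈ C)
    (hZA : Disjoint Z A) (hZB : Disjoint Z B) (hZC : Disjoint Z C) (hAB : Disjoint A B)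
    (hAC : Disjoint A C) (hBC : Disjoint B C) :
    S.ncard = (S ∩ Z).ncard + (S ∩ A).ncard + (S ∩ B).ncard + (S ∩ C).ncard := by
  have h1 : S = ((S ∩ Z ∪ S ∩ A) ∪ S ∩ B) ∪ S ∩ C := by
    ext x
    constructor
    · intro hx
      rcases hcov x with h | h | h | h
      · exact Or.inl (Or.inl (Or.inl ⟨hx, h⟩))
      · exact Or.inl (Or.inl (Or.inr ⟨hx, h⟩))
      · exact Or.inl (Or.inr ⟨hx, h⟩)
      · exact Or.inr ⟨hx, h⟩
    · rintro (((h | h) | h) | h) <;> exact h.1
  have d1 : Disjoint (S ∩ Z) (S ∩ A) := hZA.mono Set.inter_subset_right Set.inter_subset_right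
  have d2 : Disjoint (S ∩ Z ∪ S ∩ A) (S ∩ B) := by
    rw [Set.disjoint_union_left]
    exact ⟨hZB.mono Set.inter_subset_right Set.inter_subset_right,
      hAB.mono Set.inter_subset_right Set.inter_subset_right⟩
  have d3 : Disjoint ((S ∩ Z ∪ S ∩ A) ∪ S ∩ B) (S ∩ C) := by
    rw [Set.disjoint_union_left, Set.disjoint_union_left]
    exact ⟨⟨hZC.mono Set.inter_subset_right Set.inter_subset_right,
      hAC.mono Set.inter_subset_right Set.inter_subset_right⟩,
      hBC.mono Set.inter_subset_right Set.inter_subset_right⟩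
  conv_lhs => rw [h1]
  rw [Set.ncard_union_eq d3 (Set.toFinite _) (Set.toFinite _),
    Set.ncard_union_eq d2 (Set.toFinite _) (Set.toFinite _),
    Set.ncard_union_eq d1 (Set.toFinite _) (Set.toFinite _)]

theorem sqNorm_add_self (w : GolayPt → ℤ) : sqNorm (w + w) = 4 * sqNorm w := by
  unfold sqNorm
  rw [Finset.mul_sum]
  apply Finset.sum_congr rfl
  intro i _
  simp only [Pi.add_apply]
  ring

theorem sqNorm_neg' (w : GolayPt → ℤ) : sqNorm (-w) = sqNorm w := by
  unfold sqNorm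
  apply Finset.sum_congr rfl
  intro i _
  simp

variable {G : Type*} [Group G] {z : G}
  {Q : Subgroup (Subgroup.centralizer ({z} : Set G))} [Q.Normal]
  {e : (Subgroup.centralizer ({z} : Set G)) ⧸ Q ≃* Spor.Co1}
  {ψ : leechLattice → Q ⧸ Subgroup.center Q}

theorem psi_add_self (hψ : IsLeechModTwoIso Q e ψ) (v : leechLattice) : ψ v * ψ v = 1 := by
  rw [← hψ.1, hψ.2.2.1]
  exact ⟨v, rfl⟩

theorem congr_of_psi_eq (hψ : IsLeechModTwoIso Q e ψ) {v w : leechLattice} (h : ψ v = ψ w) :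
    ∃ u ∈ leechLattice, (v : GolayPt → ℤ) - (w : GolayPt → ℤ) = 2 • u := by
  have h1 : ψ (v + w) = 1 := by rw [hψ.1, h, psi_add_self hψ]
  obtain ⟨u, hu⟩ := (hψ.2.2.1 _).1 h1
  refine ⟨(u - w : leechLattice), (u - w : leechLattice).2, ?_⟩
  have h2 := congrArg (Subtype.val) hu
  simp only [AddSubgroup.coe_add] at h2
  simp only [AddSubgroup.coe_sub]
  rw [two_nsmul]
  have : (v : GolayPt → ℤ) = (u : GolayPt → ℤ) + u - w := by rw [← h2]; abel
  rw [this]; abel

theorem not_hasType_of_center (hψ : IsLeechModTwoIso Q e ψ) {x : Q} (hx : x ∈ Subgroup.center Q)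
    {N : ℤ} (hN : N = 32 ∨ N = 48 ∨ N = 64) : ¬ HasType ψ x N := by
  rintro ⟨v, hv, hvx⟩
  have h1 : ψ v = 1 := by rw [hvx]; exact (QuotientGroup.eq_one_iff x).mpr hx
  obtain ⟨w, hw⟩ := (hψ.2.2.1 _).1 h1
  have h2 : sqNorm (v : GolayPt → ℤ) = 4 * sqNorm (w : GolayPt → ℤ) := by
    rw [hw, AddSubgroup.coe_add, sqNorm_add_self]
  by_cases hw0 : (w : GolayPt → ℤ) = 0
  · rw [hw0] at h2
    have : sqNorm (0 : GolayPt → ℤ) = 0 := by simp [sqNorm]
    omega
  · have := Cfsg.Agent.S0391.result _ w.2 hw0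
    omega

theorem type_unique (hψ : IsLeechModTwoIso Q e ψ) {x : Q} {N N' : ℤ}
    (hN : N = 32 ∨ N = 48 ∨ N = 64) (hN' : N' = 32 ∨ N' = 48 ∨ N' = 64)
    (h : HasType ψ x N) (h' : HasType ψ x N') : N = N' := by
  obtain ⟨v, hv, hvx⟩ := h
  obtain ⟨w, hw, hwx⟩ := h'
  have hv0 : (v : GolayPt → ℤ) ≠ 0 := by
    intro h0
    rw [h0] at hv
    have : sqNorm (0 : GolayPt → ℤ) = 0 := by simp [sqNorm]
    omega
  have hw0 : (w : GolayPt → ℤ) ≠ 0 := by
    intro h0
    rw [h0] at hw
    have : sqNorm (0 : GolayPt → ℤ) = 0 := by simp [sqNorm]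
    omega
  have := (Cfsg.Agent.S5551.result _ _ v.2 w.2 hv0 hw0 (by omega) (by omega)
    (congr_of_psi_eq hψ (hvx.trans hwx.symm))).1
  omega

/-- the number of elements of `Q` of type `N < 64` is the number of lattice vectors of that
length. -/
theorem ncard_hasType [Finite G] (hψ : IsLeechModTwoIso Q e ψ) (hc : Nat.card (Subgroup.center Q) = 2)
    {N : ℤ} (hN : N = 32 ∨ N = 48)
    (hfin : {x : GolayPt → ℤ | x ∈ leechLattice ∧ sqNorm x = N}.Finite) :
    {x : Q | HasType ψ x N}.ncard = {x : GolayPt → ℤ | x ∈ leechLattice ∧ sqNorm x = N}.ncard := by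
  obtain ⟨L, hL⟩ : ∃ L : Set leechLattice, L = {v : leechLattice | sqNorm (v : GolayPt → ℤ) = N} := ⟨_, rfl⟩
  have hLimg : Subtype.val '' L = {x : GolayPt → ℤ | x ∈ leechLattice ∧ sqNorm x = N} := by
    ext x
    rw [hL]
    constructor
    · rintro ⟨v, hv, rfl⟩
      exact ⟨v.2, hv⟩
    · rintro ⟨hx, hxn⟩
      exact ⟨⟨x, hx⟩, hxn, rfl⟩
  have hLfin : L.Finite := by
    apply Set.Finite.of_finite_image _ Subtype.val_injective.injOn
    rw [hLimg]; exact hfin
  have h1 : L.ncard = 2 * (ψ '' L).ncard := by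
    apply ncard_eq_two_mul_of_two_to_one L hLfin ψ (fun v => -v)
    · intro v hv
      rw [hL] at hv ⊢
      have hv' : sqNorm (v : GolayPt → ℤ) = N := hv
      refine ⟨?_, ?_, ?_⟩
      · show sqNorm ((-v : leechLattice) : GolayPt → ℤ) = N
        rw [AddSubgroup.coe_neg, sqNorm_neg', hv']
      · intro h
        have h2 : (v : GolayPt → ℤ) = 0 := by
          have h3 := congrArg Subtype.val h
          simp only [AddSubgroup.coe_neg] at h3
          funext i
          have h4 := congrFun h3 i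
          simp only [Pi.neg_apply, Pi.zero_apply] at h4 ⊢
          omega
        rw [h2] at hv'
        have : sqNorm (0 : GolayPt → ℤ) = 0 := by simp [sqNorm]
        omega
      · apply psi_congr hψ
        refine ⟨(-v : leechLattice), (-v : leechLattice).2, ?_⟩
        simp only [AddSubgroup.coe_neg]
        rw [two_nsmul]; abel
    · intro v hv w hw hvw
      rw [hL] at hv hw
      have hv' : sqNorm (v : GolayPt → ℤ) = N := hv
      have hw' : sqNorm (w : GolayPt → ℤ) = N := hw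
      have hv0 : (v : GolayPt → ℤ) ≠ 0 := by
        intro h0
        rw [h0] at hv'
        have : sqNorm (0 : GolayPt → ℤ) = 0 := by simp [sqNorm]
        omega
      have hw0 : (w : GolayPt → ℤ) ≠ 0 := by
        intro h0
        rw [h0] at hw'
        have : sqNorm (0 : GolayPt → ℤ) = 0 := by simp [sqNorm]
        omega
      have := (Cfsg.Agent.S5551.result _ _ v.2 w.2 hv0 hw0 (by omega) (by omega)
        (congr_of_psi_eq hψ hvw)).2 (by omega)
      rcases this with h | h
      · left; exact Subtype.ext h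
      · right; exact Subtype.ext h
  have h2 : {x : Q | HasType ψ x N} = QuotientGroup.mk ⁻¹' (ψ '' L) := by
    ext x
    rw [hL]
    constructor
    · rintro ⟨v, hv, hvx⟩
      exact ⟨v, hv, hvx⟩
    · rintro ⟨v, hv, hvx⟩
      exact ⟨v, hv, hvx⟩
  have h3 : (QuotientGroup.mk ⁻¹' (ψ '' L) : Set Q).ncard = 2 * (ψ '' L).ncard := by
    rw [← Nat.card_coe_set_eq, Nat.card_congr
      (QuotientGroup.preimageMkEquivSubgroupProdSet (Subgroup.center Q) (ψ '' L)),
      Nat.card_prod, hc, Nat.card_coe_set_eq]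
  rw [h2, h3, ← h1, ← hLimg, Set.ncard_image_of_injective _ Subtype.val_injective]

end Cfsg.Agent.Lib.Helper90
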