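import Mathlib
import Cfsg.Agent.Lib.Helper90.Monster3

set_option autoImplicit false

namespace Cfsg.Agent.Lib.Helper90

open Cfsg

variable {G : Type*} [Group G] {z : G}

/-- `Q` is of plus type in a group of Monster type (given the transitivity properties of `Co0`). -/
theorem monster_plus_type [Finite G] (hT : LeechTrans)
    (Q : Subgroup (Subgroup.centralizer ({z} : Set G))) [Q.Normal] (hM : IsOfMonsterType z Q) :
    ∃ E : Subgroup Q, IsElementaryAbelian 2 E ∧ Nat.card E = 2 ^ 13 := by
  obtain ⟨hset, e, ψ, hψ⟩ := hM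
  have hES := es_of_setting hset
  obtain ⟨-, -, hQ, hcard, -⟩ := hset
  rcases rank_of_isExtraspecial hQ 12 hcard with ⟨-, -, h⟩ | ⟨-, hN, -, -⟩
  · exact h
  exfalso
  obtain ⟨S, hS⟩ : ∃ S : Set Q, S = {x : Q | x ^ 2 = 1} := ⟨_, rfl⟩
  have hSN : S.ncard = Nat.card {x : Q // x ^ 2 = 1} := by
    rw [hS, ← Nat.card_coe_set_eq]; rfl
  obtain ⟨A, hA⟩ : ∃ A : ℤ → Set Q, A = fun N => {x : Q | HasType ψ x N} := ⟨_, rfl⟩
  have memA : ∀ N x, x ∈ A N ↔ HasType ψ x N := by
    intro N x; rw [hA]; rfl
  have hcov : ∀ x : Q, x ∈ (Subgroup.center Q : Set Q) ∨ x ∈ A 32 ∨ x ∈ A 48 ∨ x ∈ A 64 := by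
    intro x
    simp only [memA]
    exact exists_type hψ x
  have dZ : ∀ N : ℤ, (N = 32 ∨ N = 48 ∨ N = 64) → Disjoint (Subgroup.center Q : Set Q) (A N) := by
    intro N hN
    rw [Set.disjoint_left]
    intro x hx hxA
    exact not_hasType_of_center hψ hx hN ((memA N x).1 hxA)
  have dA : ∀ N N' : ℤ, (N = 32 ∨ N = 48 ∨ N = 64) → (N' = 32 ∨ N' = 48 ∨ N' = 64) → N ≠ N' →
      Disjoint (A N) (A N') := by
    intro N N' hN hN' hne
    rw [Set.disjoint_left]
    intro x hx hx'
    exact hne (type_unique hψ hN hN' ((memA N x).1 hx) ((memA N' x).1 hx'))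
  have pieces := fun T : Set Q => ncard_four_pieces (Subgroup.center Q : Set Q) (A 32) (A 48) (A 64) T
    hcov (dZ 32 (by norm_num)) (dZ 48 (by norm_num)) (dZ 64 (by norm_num))
    (dA 32 48 (by norm_num) (by norm_num) (by norm_num))
    (dA 32 64 (by norm_num) (by norm_num) (by norm_num))
    (dA 48 64 (by norm_num) (by norm_num) (by norm_num))
  have hZc : (Subgroup.center Q : Set Q).ncard = 2 := hQ.2
  have h32 : (A 32).ncard = 196560 := by
    rw [hA, ← Cfsg.Agent.S0394.result]
    apply ncard_hasType hψ hQ.2 (Or.inl rfl)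
    apply Set.finite_of_ncard_ne_zero
    rw [Cfsg.Agent.S0394.result]; norm_num
  have h48 : (A 48).ncard = 16773120 := by
    rw [hA, ← Cfsg.Agent.S0395.result]
    apply ncard_hasType hψ hQ.2 (Or.inr rfl)
    apply Set.finite_of_ncard_ne_zero
    rw [Cfsg.Agent.S0395.result]; norm_num
  have htot := pieces Set.univ
  simp only [Set.univ_inter, Set.ncard_univ] at htot
  rw [hcard, hZc, h32, h48] at htot
  have hSZ : S ∩ (Subgroup.center Q : Set Q) = (Subgroup.center Q : Set Q) := by
    apply Set.inter_eq_right.mpr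
    intro x hx
    rw [hS]
    show x ^ 2 = 1
    have := hES.center (x : Subgroup.centralizer ({z} : Set G)) x.2 (fun q hq => by
      have := Subgroup.mem_center_iff.mp hx ⟨q, hq⟩
      exact congrArg Subtype.val this)
    apply Subtype.ext
    rw [pow_two]
    simp only [Subgroup.coe_mul, Subgroup.coe_one]
    rcases this with h1 | h1
    · rw [h1, one_mul]
    · rw [h1]; exact hES.z_sq
  have hhom : ∀ N : ℤ, (N = 32 ∨ N = 48 ∨ N = 64) →
      (S ∩ A N).ncard = (A N).ncard ∨ (S ∩ A N).ncard = 0 := by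
    intro N hN
    by_cases hex : ∃ x ∈ A N, x ^ 2 = 1
    · left
      obtain ⟨x, hx, hx2⟩ := hex
      congr 1
      apply Set.inter_eq_right.mpr
      intro y hy
      rw [hS]
      show y ^ 2 = 1
      have hyc : y ∉ Subgroup.center Q := fun h =>
        not_hasType_of_center hψ h hN ((memA N y).1 hy)
      obtain ⟨h, hh⟩ := conj_of_type hES hT hψ hN ((memA N x).1 hx) ((memA N y).1 hy) hyc
      apply Subtype.ext
      have hx2' : (x : Subgroup.centralizer ({z} : Set G)) * x = 1 := by
        have := congrArg Subtype.val hx2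
        rw [pow_two] at this
        exact this
      rw [pow_two]
      simp only [Subgroup.coe_mul, Subgroup.coe_one]
      rw [← hh]
      calc h * x * h⁻¹ * (h * x * h⁻¹) = h * ((x : Subgroup.centralizer ({z} : Set G)) * x) * h⁻¹ := by
            group
        _ = 1 := by rw [hx2']; group
    · right
      push Not at hex
      have : S ∩ A N = ∅ := by
        ext x
        simp only [Set.mem_inter_iff, Set.mem_empty_iff_false, iff_false, not_and]
        intro hxS hxA
        rw [hS] at hxS
        exact hex x hxA hxS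
      rw [this, Set.ncard_empty]
  have hSp := pieces S
  rw [hSZ, hZc, hSN] at hSp
  have e1 : (2 : ℕ) ^ (2 * 12 + 1) = 33554432 := by norm_num
  have e2 : (2 : ℕ) ^ (2 * 12) = 16777216 := by norm_num
  have e3 : (2 : ℕ) ^ 12 = 4096 := by norm_num
  rw [e1] at htot
  rw [e2, e3] at hN
  rcases hhom 32 (by norm_num) with a | a <;> rcases hhom 48 (by norm_num) with b | b <;>
    rcases hhom 64 (by norm_num) with c | c <;> omega

end Cfsg.Agent.Lib.Helper90
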