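import Mathlib
import Cfsg.Agent.Lib.Helper90.Monster4
import Cfsg.Agent.Lib.Helper90.Monster5
import Cfsg.Agent.Lib.Helper90.Monster6
import Cfsg.Agent.Lib.Helper90.Setting
import Cfsg.Agent.Lib.Helper90.PairStructure
import Cfsg.Agent.Lib.Helper54.Co2Main

set_option autoImplicit false

namespace Cfsg.Agent.Lib.Helper90

open Cfsg Cfsg.Agent.Lib.Helper54

variable {G : Type*} [Group G] {z : G}

section

variable {Q : Subgroup (Subgroup.centralizer ({z} : Set G))} [Q.Normal]
  {e : (Subgroup.centralizer ({z} : Set G)) ⧸ Q ≃* Spor.Co1}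
  {ψ : leechLattice → Q ⧸ Subgroup.center Q}

/-- equivariance of `ψ`, in terms of `conjQuot`. -/
theorem psi_smul (hψ : IsLeechModTwoIso Q e ψ) {c : Subgroup.centralizer ({z} : Set G)} {n : Co0}
    (h : (QuotientGroup.mk n : Spor.Co1) = e (QuotientGroup.mk c)) (u : leechLattice) :
    ψ (n • u) = conjQuot Q c (ψ u) := by
  obtain ⟨q, hq⟩ := QuotientGroup.mk_surjective (ψ u)
  rw [← hq, conjQuot_mk]
  exact hψ.2.2.2 c n h u q hq.symm

theorem exists_lift (e : (Subgroup.centralizer ({z} : Set G)) ⧸ Q ≃* Spor.Co1)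
    (c : Subgroup.centralizer ({z} : Set G)) :
    ∃ n : Co0, (QuotientGroup.mk n : Spor.Co1) = e (QuotientGroup.mk c) :=
  QuotientGroup.mk_surjective _

theorem exists_colift (e : (Subgroup.centralizer ({z} : Set G)) ⧸ Q ≃* Spor.Co1) (n : Co0) :
    ∃ c : Subgroup.centralizer ({z} : Set G),
      (QuotientGroup.mk n : Spor.Co1) = e (QuotientGroup.mk c) := by
  obtain ⟨c, hc⟩ := QuotientGroup.mk_surjective (e.symm (QuotientGroup.mk n : Spor.Co1))
  exact ⟨c, by rw [hc, MulEquiv.apply_symm_apply]⟩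

/-- minimal vectors with the same image are equal or opposite. -/
theorem pm_of_psi_eq (hψ : IsLeechModTwoIso Q e ψ) {u u' : leechLattice}
    (hu : sqNorm (u : GolayPt → ℤ) = 32) (hu' : sqNorm (u' : GolayPt → ℤ) = 32) (h : ψ u' = ψ u) :
    u' = u ∨ u' = -u := by
  have h0 : ∀ w : leechLattice, sqNorm (w : GolayPt → ℤ) = 32 → (w : GolayPt → ℤ) ≠ 0 := by
    intro w hw h0
    rw [h0] at hw
    have : sqNorm (0 : GolayPt → ℤ) = 0 := by simp [sqNorm]
    omega
  have := (Cfsg.Agent.S5551.result _ _ u.2 u'.2 (h0 u hu) (h0 u' hu') (by omega) (by omega)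
    (congr_of_psi_eq hψ h.symm)).2 (by omega)
  rcases this with h | h
  · left; exact Subtype.ext h
  · right; exact Subtype.ext h

/-- the orthogonal minimal vectors give an odd number of classes. -/
theorem ncard_perp_classes (hψ : IsLeechModTwoIso Q e ψ) (v : leechLattice)
    (hv : sqNorm (v : GolayPt → ℤ) = 32) :
    (ψ '' {w : leechLattice | sqNorm (w : GolayPt → ℤ) = 32 ∧
      dotInt (v : GolayPt → ℤ) (w : GolayPt → ℤ) = 0}).ncard = 46575 := by
  have h1 := co0_count_pair v hv 0 (by decide)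
  have h2 : mOf 0 = 93150 := by decide
  rw [h2] at h1
  have hfin : {w : leechLattice | sqNorm (w : GolayPt → ℤ) = 32 ∧
      dotInt (v : GolayPt → ℤ) (w : GolayPt → ℤ) = 0}.Finite := by
    apply Set.finite_of_ncard_ne_zero
    rw [h1]; norm_num
  have h3 := ncard_eq_two_mul_of_two_to_one _ hfin ψ (fun w => -w) (by
    rintro w ⟨hw, hd⟩
    refine ⟨⟨?_, ?_⟩, ?_, ?_⟩
    · show sqNorm ((-w : leechLattice) : GolayPt → ℤ) = 32
      rw [AddSubgroup.coe_neg, Cfsg.Agent.Lib.Helper90.sqNorm_neg', hw]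
    · show dotInt (v : GolayPt → ℤ) ((-w : leechLattice) : GolayPt → ℤ) = 0
      rw [AddSubgroup.coe_neg, dotInt_neg_right'', hd, neg_zero]
    · intro h
      have h2 : (w : GolayPt → ℤ) = 0 := by
        have h3 := congrArg Subtype.val h
        simp only [AddSubgroup.coe_neg] at h3
        funext i
        have h4 := congrFun h3 i
        simp only [Pi.neg_apply, Pi.zero_apply] at h4 ⊢
        omega
      rw [h2] at hw
      have : sqNorm (0 : GolayPt → ℤ) = 0 := by simp [sqNorm]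
      omega
    · apply psi_congr hψ
      refine ⟨(-w : leechLattice), (-w : leechLattice).2, ?_⟩
      simp only [AddSubgroup.coe_neg]
      rw [two_nsmul]; abel) (by
    rintro w ⟨hw, -⟩ w' ⟨hw', -⟩ h
    exact pm_of_psi_eq hψ hw hw' h.symm)
  omega

/-- a `2`-subgroup of `C` centralizing an element `x` of type `2` and normalized by `C_C(x)` lies
in `Q` (this is `O_2(Co_2) = 1`). -/
theorem le_of_type32 [Finite G]
    (hES : ES Q (⟨z, z_mem_centralizer z⟩ : Subgroup.centralizer ({z} : Set G)))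
    (hψ : IsLeechModTwoIso Q e ψ) (x : Q) (v : leechLattice)
    (hv : sqNorm (v : GolayPt → ℤ) = 32) (hvx : ψ v = QuotientGroup.mk x)
    (P : Subgroup (Subgroup.centralizer ({z} : Set G))) (hP : IsPGroup 2 P)
    (hPx : ∀ r ∈ P, r * x * r⁻¹ = x)
    (hPn : ∀ h : Subgroup.centralizer ({z} : Set G), h * x * h⁻¹ = x → ∀ r ∈ P, h⁻¹ * r * h ∈ P) :
    P ≤ Q := by
  obtain ⟨X, hX⟩ : ∃ X : Set leechLattice, X = {w : leechLattice | sqNorm (w : GolayPt → ℤ) = 32 ∧
      dotInt (v : GolayPt → ℤ) (w : GolayPt → ℤ) = 0} := ⟨_, rfl⟩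
  have memX : ∀ w, w ∈ X ↔ sqNorm (w : GolayPt → ℤ) = 32 ∧
      dotInt (v : GolayPt → ℤ) (w : GolayPt → ℤ) = 0 := by
    intro w; rw [hX]; rfl
  have hYcard : (ψ '' X).ncard = 46575 := by rw [hX]; exact ncard_perp_classes hψ v hv
  have hfixx : ∀ c : Subgroup.centralizer ({z} : Set G), c * x * c⁻¹ = x →
      conjQuot Q c (ψ v) = ψ v := by
    intro c hc
    rw [hvx, conjQuot_mk]
    congr 1
    exact Subtype.ext hc
  have hpm : ∀ r ∈ P, ∀ n : Co0, (QuotientGroup.mk n : Spor.Co1) = e (QuotientGroup.mk r) →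
      n • v = v ∨ n • v = -v := by
    intro r hr n hn
    apply pm_of_psi_eq hψ hv (by rw [co0_sqNorm]; exact hv)
    rw [psi_smul hψ hn, hfixx r (hPx r hr)]
  have hinv : ∀ r ∈ P, ∀ y ∈ ψ '' X, conjQuot Q r y ∈ ψ '' X := by
    rintro r hr _ ⟨w, hw, rfl⟩
    obtain ⟨n, hn⟩ := exists_lift e r
    refine ⟨n • w, ?_, psi_smul hψ hn w⟩
    rw [memX] at hw ⊢
    refine ⟨by rw [co0_sqNorm]; exact hw.1, ?_⟩
    have h1 := co0_dotInt n v w
    rw [hw.2] at h1
    rcases hpm r hr n hn with h2 | h2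
    · rw [h2] at h1; exact h1
    · rw [h2, AddSubgroup.coe_neg, Cfsg.dotInt_neg_left] at h1
      omega
  obtain ⟨y0, ⟨w0, hw0, rfl⟩, hfix0⟩ := exists_fixed_of_odd Q P hP (ψ '' X)
    (Set.finite_of_ncard_ne_zero (by rw [hYcard]; norm_num)) (by rw [hYcard]; decide) hinv
  -- all classes are fixed
  have hfix : ∀ w ∈ X, ∀ r ∈ P, conjQuot Q r (ψ w) = ψ w := by
    intro w hw r hr
    rw [memX] at hw hw0
    obtain ⟨g0, hg0v, hg0w⟩ := co0_trans_pair v w0 w hv hw0.1 hw.1 (by rw [hw0.2, hw.2])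
    obtain ⟨h0, hh0⟩ := exists_colift e g0
    -- adjust `h0` so that it centralizes `x`
    obtain ⟨h1, hh1, hh1x⟩ : ∃ h1 : Subgroup.centralizer ({z} : Set G),
        (QuotientGroup.mk g0 : Spor.Co1) = e (QuotientGroup.mk h1) ∧ h1 * x * h1⁻¹ = x := by
      have e1 := psi_smul hψ hh0 v
      rw [hg0v, hvx, conjQuot_mk, QuotientGroup.eq] at e1
      obtain ⟨c, hc⟩ : ∃ c : Q, c = x⁻¹ * (⟨h0 * x * h0⁻¹,
        (inferInstance : Q.Normal).conj_mem _ x.2 h0⟩ : Q) := ⟨_, rfl⟩
      rw [← hc] at e1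
      have hc' : h0 * x * h0⁻¹ = x * (c : Subgroup.centralizer ({z} : Set G)) := by
        rw [hc]
        simp only [Subgroup.coe_mul, InvMemClass.coe_inv]
        group
      have hc2 := hES.center (c : Subgroup.centralizer ({z} : Set G)) c.2 (fun q hq => by
        have := Subgroup.mem_center_iff.mp e1 ⟨q, hq⟩
        exact congrArg Subtype.val this)
      rcases hc2 with hc2 | hc2
      · exact ⟨h0, hh0, by rw [hc', hc2, mul_one]⟩
      · have hxc : x ∉ Subgroup.center Q := fun h =>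
          not_hasType_of_center hψ h (Or.inl rfl) ⟨v, hv, hvx⟩
        have hx1 : (x : Subgroup.centralizer ({z} : Set G)) ≠ 1 := by
          intro h1
          apply hxc
          have : x = 1 := Subtype.ext h1
          rw [this]; exact Subgroup.one_mem _
        have hxz : (x : Subgroup.centralizer ({z} : Set G)) ≠ ⟨z, z_mem_centralizer z⟩ := by
          intro h1
          apply hxc
          rw [Subgroup.mem_center_iff]
          intro q
          ext1
          simp only [Subgroup.coe_mul]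
          rw [h1]
          exact hES.z_comm q q.2
        obtain ⟨q, hq, hqx⟩ := hES.exists_conj x.2 hx1 hxz
        refine ⟨q⁻¹ * h0, ?_, ?_⟩
        · rw [hh0]
          congr 1
          rw [QuotientGroup.eq]
          have : h0⁻¹ * (q⁻¹ * h0) = h0⁻¹ * q⁻¹ * h0⁻¹⁻¹ := by group
          rw [this]
          exact (inferInstance : Q.Normal).conj_mem _ (Q.inv_mem hq) _
        · have h2 : h0 * x * h0⁻¹ = q * x * q⁻¹ := by
            rw [hc', hc2, hqx]
            exact hES.z_comm x x.2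
          calc q⁻¹ * h0 * x * (q⁻¹ * h0)⁻¹ = q⁻¹ * (h0 * x * h0⁻¹) * q := by group
            _ = q⁻¹ * (q * x * q⁻¹) * q := by rw [h2]
            _ = x := by group
    have e2 : ψ w = conjQuot Q h1 (ψ w0) := by rw [← psi_smul hψ hh1, hg0w]
    have e3 := hfix0 _ (hPn h1 hh1x r hr)
    rw [e2, ← conjQuot_mul]
    have : r * h1 = h1 * (h1⁻¹ * r * h1) := by group
    rw [this, conjQuot_mul, e3]
  intro r hr
  obtain ⟨n, hn⟩ := exists_lift e r
  have h1 := pm_one_of_fix_pairs co0_trans_min v hv n (hpm r hr n hn) (by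
    intro w hw hd
    apply pm_of_psi_eq hψ hw (by rw [co0_sqNorm]; exact hw)
    rw [psi_smul hψ hn, hfix w ((memX w).2 ⟨hw, hd⟩) r hr])
  have h2 : (QuotientGroup.mk n : Spor.Co1) = 1 := by
    rw [QuotientGroup.eq_one_iff]
    rcases h1 with h1 | h1
    · rw [h1]; exact Subgroup.one_mem _
    · rw [h1]; exact negCo0_mem_center
  rw [h2] at hn
  have h3 : (QuotientGroup.mk r : (Subgroup.centralizer ({z} : Set G)) ⧸ Q) = 1 := by
    apply e.injective
    rw [← hn, map_one]
  exact (QuotientGroup.eq_one_iff r).mp h3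

/-- conjugates of `z` in `Q` are not of type `2`. -/
theorem not_type32 [Finite G] (hset : IsExtraspecialCentralizerSetting z Q 12)
    (hψ : IsLeechModTwoIso Q e ψ) (x : Q)
    (hconj : IsConj z ((x : Subgroup.centralizer ({z} : Set G)) : G))
    (hxz : ((x : Subgroup.centralizer ({z} : Set G)) : G) ≠ z) : ¬ HasType ψ x 32 := by
  rintro ⟨v, hv, hvx⟩
  have hESC := es_of_setting hset
  obtain ⟨hz, hF, hQ, hcard, -⟩ := hset
  obtain ⟨z', hES', -⟩ := ES.of_isExtraspecial hQ
  have hQ₀ : Cfsg.IsExtraspecial 2 ↥(Q.map (Subgroup.centralizer ({z} : Set G)).subtype) :=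
    (ES.map_subtype hES').isExtraspecial
  have hF' : (Cfsg.generalizedFittingSubgroup ↥(Subgroup.centralizer ({z} : Set G))).map
      (Subgroup.centralizer ({z} : Set G)).subtype =
      Q.map (Subgroup.centralizer ({z} : Set G)).subtype := by rw [hF]
  obtain ⟨hES, hL2, hL3⟩ := setting_of_genFitting z hz _ hF' hQ₀
  have hcard₀ : Nat.card ↥(Q.map (Subgroup.centralizer ({z} : Set G)).subtype) = 2 ^ (2 * 12 + 1) := by
    rw [← hcard]
    exact Subgroup.card_map_of_injective (Subgroup.subtype_injective _)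
  obtain ⟨g, hg⟩ := isConj_iff.mp hconj
  have hsQ : g * z * g⁻¹ ∈ Q.map (Subgroup.centralizer ({z} : Set G)).subtype :=
    ⟨x, x.2, hg.symm⟩
  have hpd := PairData.of_large hES hL2 hL3 g hsQ (by rw [hg]; exact hxz)
  rw [hg] at hpd
  obtain ⟨Q'', hQ''⟩ : ∃ Q'' : Subgroup G, Q'' =
    (Q.map (Subgroup.centralizer ({z} : Set G)).subtype).map (MulAut.conj g).toMonoidHom := ⟨_, rfl⟩
  rw [← hQ''] at hpd
  have hcard'' : Nat.card Q'' = 2 ^ (2 * 12 + 1) := by
    rw [← hcard₀, hQ'']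
    exact Subgroup.card_map_of_injective (MulAut.conj g).injective
  obtain ⟨P, hPdef⟩ : ∃ P : Subgroup (Subgroup.centralizer ({z} : Set G)),
    P = Q''.subgroupOf (Subgroup.centralizer ({z} : Set G)) := ⟨_, rfl⟩
  have memP : ∀ r : Subgroup.centralizer ({z} : Set G), r ∈ P ↔ (r : G) ∈ Q'' := by
    intro r; rw [hPdef, Subgroup.mem_subgroupOf]
  have hP : IsPGroup 2 P := by rw [hPdef]; exact hpd.es'.two.comap_subtype
  have hle : P ≤ Q := by
    apply le_of_type32 hESC hψ x v hv hvx P hP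
    · intro r hr
      apply Subtype.ext
      have := hpd.es'.z_comm (r : G) ((memP r).1 hr)
      simp only [Subgroup.coe_mul, InvMemClass.coe_inv]
      rw [this]; group
    · intro h hh r hr
      rw [memP] at hr ⊢
      have h1 : (h : G) * ((x : Subgroup.centralizer ({z} : Set G)) : G) * (h : G)⁻¹ =
          ((x : Subgroup.centralizer ({z} : Set G)) : G) := congrArg Subtype.val hh
      have h2 : (h : G)⁻¹ * ((x : Subgroup.centralizer ({z} : Set G)) : G) =
          ((x : Subgroup.centralizer ({z} : Set G)) : G) * (h : G)⁻¹ := by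
        calc (h : G)⁻¹ * ((x : Subgroup.centralizer ({z} : Set G)) : G)
            = (h : G)⁻¹ * ((h : G) * ((x : Subgroup.centralizer ({z} : Set G)) : G) * (h : G)⁻¹) := by
              rw [h1]
          _ = ((x : Subgroup.centralizer ({z} : Set G)) : G) * (h : G)⁻¹ := by group
      have h3 := hpd.norm' _ h2 _ hr
      simpa using h3
  -- cardinalities
  have hE : Cfsg.IsExtraspecial 2 ↥Q'' := hpd.es'.isExtraspecial
  obtain ⟨B, hB⟩ : ∃ B : Subgroup Q'', B = Subgroup.centralizer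
    (Subgroup.zpowers (⟨z, hpd.z_mem⟩ : Q'') : Set Q'') := ⟨_, rfl⟩
  have hBQ : ∀ a ∈ B, (a : G) ∈ Q.map (Subgroup.centralizer ({z} : Set G)).subtype := by
    intro a ha
    rw [hB, Subgroup.mem_centralizer_iff] at ha
    have h1 := ha ⟨z, hpd.z_mem⟩ (Subgroup.mem_zpowers _)
    have h2 : z * (a : G) = (a : G) * z := congrArg Subtype.val h1
    have h3 : (a : G) ∈ Subgroup.centralizer ({z} : Set G) :=
      Subgroup.mem_centralizer_singleton_iff.mpr h2.symm
    exact ⟨⟨a, h3⟩, hle ((memP _).2 a.2), rfl⟩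
  have hBcomm : IsMulCommutative B :=
    ⟨⟨fun a b => Subtype.ext (Subtype.ext (hpd.E_comm ⟨hBQ a a.2, (a : Q'').2⟩ ⟨hBQ b b.2, (b : Q'').2⟩))⟩⟩
  have h1 := card_le_of_abelian hE 12 hcard'' B hBcomm
  have h2 := Cfsg.Agent.Lib.Helper48.card_mul_card_centralizer hE
    (Subgroup.zpowers (⟨z, hpd.z_mem⟩ : Q''))
  rw [← hB, Nat.card_zpowers, Subgroup.orderOf_mk, hz, hcard''] at h2
  have h3 : 0 < Nat.card (Subgroup.zpowers (⟨z, hpd.z_mem⟩ : Q'') ⊓ Subgroup.center Q'' : Subgroup Q'') :=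
    Nat.card_pos
  have h4 : (2 : ℕ) ^ (2 * 12 + 1) ≤ 2 * Nat.card B := by
    rw [h2]
    exact Nat.le_mul_of_pos_right _ h3
  norm_num at h1 h4
  omega

end

end Cfsg.Agent.Lib.Helper90
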