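import Mathlib
import Cfsg.Agent.Lib.Helper90.Monster7

set_option autoImplicit false

namespace Cfsg.Agent.Lib.Helper90

open Cfsg

variable {G : Type*} [Group G] {z : G}

section

variable {Q : Subgroup (Subgroup.centralizer ({z} : Set G))} [Q.Normal]
  {e : (Subgroup.centralizer ({z} : Set G)) ⧸ Q ≃* Spor.Co1}
  {ψ : leechLattice → Q ⧸ Subgroup.center Q}

/-- elements of type `3` have order four. -/
theorem sq_ne_one_of_type48 [Finite G] (hT : LeechTrans)
    (hset : IsExtraspecialCentralizerSetting z Q 12) (hψ : IsLeechModTwoIso Q e ψ)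
    (x0 : Q) (hx0 : HasType ψ x0 48) : x0 ^ 2 ≠ 1 := by
  have hES := es_of_setting hset
  obtain ⟨-, -, hQ, hcard, -⟩ := hset
  obtain ⟨S, hS⟩ : ∃ S : Set Q, S = {x : Q | x ^ 2 = 1} := ⟨_, rfl⟩
  have hSN : S.ncard = Nat.card {x : Q // x ^ 2 = 1} := by
    rw [hS, ← Nat.card_coe_set_eq]; rfl
  obtain ⟨A, hA⟩ : ∃ A : ℤ → Set Q, A = fun N => {x : Q | HasType ψ x N} := ⟨_, rfl⟩
  have memA : ∀ N x, x ∈ A N ↔ HasType ψ x N := by
    intro N x; rw [hA]; rfl
  have hcov : ∀ x : Q, x ∈ (Subgroup.center Q : Set Q) ∨ x ∈ A 32 ∨ x ∈ A 48 ∨ x ∈ A 64 := by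
    intro x
    simp only [memA]
    exact exists_type hψ x
  have dZ : ∀ N : ℤ, (N = 32 ∨ N = 48 ∨ N = 64) → Disjoint (Subgroup.center Q : Set Q) (A N) := by
    intro N hN
    rw [Set.disjoint_left]
    intro x hx hxA
    exact not_hasType_of_center hψ hx hN ((memA N x).1 hxA)
  have dA : ∀ N N' : ℤ, (N = 32 ∨ N = 48 ∨ N = 64) → (N' = 32 ∨ N' = 48 ∨ N' = 64) → N ≠ N' →
      Disjoint (A N) (A N') := by
    intro N N' hN hN' hne
    rw [Set.disjoint_left]
    intro x hx hx'
    exact hne (type_unique hψ hN hN' ((memA N x).1 hx) ((memA N' x).1 hx'))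
  have pieces := fun T : Set Q => ncard_four_pieces (Subgroup.center Q : Set Q) (A 32) (A 48) (A 64) T
    hcov (dZ 32 (by norm_num)) (dZ 48 (by norm_num)) (dZ 64 (by norm_num))
    (dA 32 48 (by norm_num) (by norm_num) (by norm_num))
    (dA 32 64 (by norm_num) (by norm_num) (by norm_num))
    (dA 48 64 (by norm_num) (by norm_num) (by norm_num))
  have hZc : (Subgroup.center Q : Set Q).ncard = 2 := hQ.2
  have h32 : (A 32).ncard = 196560 := by
    rw [hA, ← Cfsg.Agent.S0394.result]
    apply ncard_hasType hψ hQ.2 (Or.inl rfl)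
    apply Set.finite_of_ncard_ne_zero
    rw [Cfsg.Agent.S0394.result]; norm_num
  have h48 : (A 48).ncard = 16773120 := by
    rw [hA, ← Cfsg.Agent.S0395.result]
    apply ncard_hasType hψ hQ.2 (Or.inr rfl)
    apply Set.finite_of_ncard_ne_zero
    rw [Cfsg.Agent.S0395.result]; norm_num
  have htot := pieces Set.univ
  simp only [Set.univ_inter, Set.ncard_univ] at htot
  rw [hcard, hZc, h32, h48] at htot
  have hSZ : S ∩ (Subgroup.center Q : Set Q) = (Subgroup.center Q : Set Q) := by
    apply Set.inter_eq_right.mpr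
    intro x hx
    rw [hS]
    show x ^ 2 = 1
    have := hES.center (x : Subgroup.centralizer ({z} : Set G)) x.2 (fun q hq => by
      have := Subgroup.mem_center_iff.mp hx ⟨q, hq⟩
      exact congrArg Subtype.val this)
    apply Subtype.ext
    rw [pow_two]
    simp only [Subgroup.coe_mul, Subgroup.coe_one]
    rcases this with h1 | h1
    · rw [h1, one_mul]
    · rw [h1]; exact hES.z_sq
  have hhom : ∀ N : ℤ, (N = 32 ∨ N = 48 ∨ N = 64) →
      (S ∩ A N).ncard = (A N).ncard ∨ (S ∩ A N).ncard = 0 := by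
    intro N hN
    by_cases hex : ∃ x ∈ A N, x ^ 2 = 1
    · left
      obtain ⟨x, hx, hx2⟩ := hex
      congr 1
      apply Set.inter_eq_right.mpr
      intro y hy
      rw [hS]
      show y ^ 2 = 1
      have hyc : y ∉ Subgroup.center Q := fun h =>
        not_hasType_of_center hψ h hN ((memA N y).1 hy)
      obtain ⟨h, hh⟩ := conj_of_type hES hT hψ hN ((memA N x).1 hx) ((memA N y).1 hy) hyc
      apply Subtype.ext
      have hx2' : (x : Subgroup.centralizer ({z} : Set G)) * x = 1 := by
        have := congrArg Subtype.val hx2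
        rw [pow_two] at this
        exact this
      rw [pow_two]
      simp only [Subgroup.coe_mul, Subgroup.coe_one]
      rw [← hh]
      calc h * x * h⁻¹ * (h * x * h⁻¹) = h * ((x : Subgroup.centralizer ({z} : Set G)) * x) * h⁻¹ := by
            group
        _ = 1 := by rw [hx2']; group
    · right
      push Not at hex
      have : S ∩ A N = ∅ := by
        ext x
        simp only [Set.mem_inter_iff, Set.mem_empty_iff_false, iff_false, not_and]
        intro hxS hxA
        rw [hS] at hxS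
        exact hex x hxA hxS
      rw [this, Set.ncard_empty]
  have hSp := pieces S
  rw [hSZ, hZc, hSN] at hSp
  have e1 : (2 : ℕ) ^ (2 * 12 + 1) = 33554432 := by norm_num
  have e2 : (2 : ℕ) ^ (2 * 12) = 16777216 := by norm_num
  have e3 : (2 : ℕ) ^ 12 = 4096 := by norm_num
  rw [e1] at htot
  have hzero : (S ∩ A 48).ncard = 0 := by
    rcases rank_of_isExtraspecial hQ 12 hcard with ⟨hN, -, -⟩ | ⟨-, hN, -, -⟩
    · rw [e2, e3] at hN
      rcases hhom 32 (by norm_num) with a | a <;> rcases hhom 48 (by norm_num) with b | b <;>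
        rcases hhom 64 (by norm_num) with c | c <;> omega
    · rw [e2, e3] at hN
      rcases hhom 32 (by norm_num) with a | a <;> rcases hhom 48 (by norm_num) with b | b <;>
        rcases hhom 64 (by norm_num) with c | c <;> omega
  intro hx
  have hmem : x0 ∈ S ∩ A 48 := ⟨by rw [hS]; exact hx, (memA 48 x0).2 hx0⟩
  rw [Set.ncard_eq_zero (Set.toFinite _)] at hzero
  rw [hzero] at hmem
  exact hmem

omit [Q.Normal] in
theorem center_cases [Finite G]
    (hES : ES Q (⟨z, z_mem_centralizer z⟩ : Subgroup.centralizer ({z} : Set G))) (x : Q)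
    (hx : x ∈ Subgroup.center Q) : ((x : Subgroup.centralizer ({z} : Set G)) : G) = 1 ∨
      ((x : Subgroup.centralizer ({z} : Set G)) : G) = z := by
  have := hES.center (x : Subgroup.centralizer ({z} : Set G)) x.2 (fun q hq => by
    have := Subgroup.mem_center_iff.mp hx ⟨q, hq⟩
    exact congrArg Subtype.val this)
  rcases this with h1 | h1
  · left; exact congrArg Subtype.val h1
  · right; exact congrArg Subtype.val h1

/-- the conjugates of `z` in `Q` other than `z` are of type `4`. -/
theorem type64_of_conj [Finite G] (hT : LeechTrans)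
    (hset : IsExtraspecialCentralizerSetting z Q 12) (hψ : IsLeechModTwoIso Q e ψ) (x : Q)
    (hconj : IsConj z ((x : Subgroup.centralizer ({z} : Set G)) : G))
    (hxz : ((x : Subgroup.centralizer ({z} : Set G)) : G) ≠ z) :
    x ∉ Subgroup.center Q ∧ HasType ψ x 64 := by
  have hES := es_of_setting hset
  have hz : orderOf z = 2 := hset.1
  have hz1 : z ≠ 1 := by
    intro h; rw [h, orderOf_one] at hz; omega
  obtain ⟨g, hg⟩ := isConj_iff.mp hconj
  have hx1 : ((x : Subgroup.centralizer ({z} : Set G)) : G) ≠ 1 := by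
    intro h
    apply hz1
    rw [h] at hg
    have := congrArg (fun w => g⁻¹ * w * g) hg
    simpa [mul_assoc] using this
  have hxc : x ∉ Subgroup.center Q := by
    intro h
    rcases center_cases hES x h with h1 | h1
    · exact hx1 h1
    · exact hxz h1
  refine ⟨hxc, ?_⟩
  rcases exists_type hψ x with h | h | h | h
  · exact absurd h hxc
  · exact absurd h (not_type32 hset hψ x hconj hxz)
  · exfalso
    apply sq_ne_one_of_type48 hT hset hψ x h
    apply Subtype.ext
    apply Subtype.ext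
    simp only [SubmonoidClass.coe_pow, OneMemClass.coe_one]
    rw [← hg, pow_two]
    calc g * z * g⁻¹ * (g * z * g⁻¹) = g * (z * z) * g⁻¹ := by group
      _ = 1 := by rw [sq_of_orderOf_two hz]; group
  · exact h

end

/-- `C` is transitive on the conjugates of `z` in `Q` other than `z`. -/
theorem monster_transitive_conj [Finite G] (hT : LeechTrans)
    (Q : Subgroup (Subgroup.centralizer ({z} : Set G))) [Q.Normal] (hM : IsOfMonsterType z Q)
    (s t : G)
    (hsQ : ∃ hsc : s ∈ Subgroup.centralizer ({z} : Set G),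
      (⟨s, hsc⟩ : Subgroup.centralizer ({z} : Set G)) ∈ Q)
    (htQ : ∃ htc : t ∈ Subgroup.centralizer ({z} : Set G),
      (⟨t, htc⟩ : Subgroup.centralizer ({z} : Set G)) ∈ Q)
    (hs : IsConj z s) (ht : IsConj z t) (hs1 : s ≠ z) (ht1 : t ≠ z) :
    ∃ h ∈ Subgroup.centralizer ({z} : Set G), h * s * h⁻¹ = t := by
  obtain ⟨hset, e, ψ, hψ⟩ := hM
  have hES := es_of_setting hset
  obtain ⟨hsc, hsQ⟩ := hsQ
  obtain ⟨htc, htQ⟩ := htQ
  obtain ⟨-, h1⟩ := type64_of_conj hT hset hψ (⟨⟨s, hsc⟩, hsQ⟩ : Q) hs hs1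
  obtain ⟨h3, h2⟩ := type64_of_conj hT hset hψ (⟨⟨t, htc⟩, htQ⟩ : Q) ht ht1
  obtain ⟨h, hh⟩ := conj_of_type hES hT hψ (Or.inr (Or.inr rfl)) h1 h2 h3
  exact ⟨h, h.2, congrArg Subtype.val hh⟩

/-- the conjugates of `z` in `Q` other than `z` are exactly the elements of type `4`. -/
theorem monster_conj_iff_type64 [Finite G] (hT : LeechTrans)
    (Q : Subgroup (Subgroup.centralizer ({z} : Set G))) [Q.Normal] (hM : IsOfMonsterType z Q)
    (e : (Subgroup.centralizer ({z} : Set G)) ⧸ Q ≃* Spor.Co1)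
    (ψ : leechLattice → Q ⧸ Subgroup.center Q) (hψ : IsLeechModTwoIso Q e ψ) (x : Q) :
    (IsConj z ((x : Subgroup.centralizer ({z} : Set G)) : G) ∧
      ((x : Subgroup.centralizer ({z} : Set G)) : G) ≠ z) ↔
      ∃ v : leechLattice, sqNorm (v : GolayPt → ℤ) = 64 ∧ ψ v = QuotientGroup.mk x := by
  obtain ⟨hset, -⟩ := hM
  have hES := es_of_setting hset
  constructor
  · rintro ⟨h1, h2⟩
    exact (type64_of_conj hT hset hψ x h1 h2).2
  · intro hx
    have hxc : x ∉ Subgroup.center Q := fun h =>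
      not_hasType_of_center hψ h (Or.inr (Or.inr rfl)) hx
    obtain ⟨g, ⟨hrc, hrQ⟩, hrz⟩ := hset.2.2.2.2
    have hr : IsConj z (g * z * g⁻¹) := isConj_iff.mpr ⟨g, rfl⟩
    obtain ⟨-, h1⟩ := type64_of_conj hT hset hψ (⟨⟨g * z * g⁻¹, hrc⟩, hrQ⟩ : Q) hr hrz
    obtain ⟨h, hh⟩ := conj_of_type hES hT hψ (Or.inr (Or.inr rfl)) h1 hx hxc
    constructor
    · rw [isConj_iff]
      refine ⟨(h : G) * g, ?_⟩
      have := congrArg Subtype.val hh
      simp only [Subgroup.coe_mul, InvMemClass.coe_inv] at this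
      rw [← this]
      group
    · intro hxz
      apply hxc
      rw [Subgroup.mem_center_iff]
      intro q
      apply Subtype.ext
      apply Subtype.ext
      simp only [Subgroup.coe_mul]
      rw [hxz]
      exact Subgroup.mem_centralizer_singleton_iff.mp (q : Subgroup.centralizer ({z} : Set G)).2

end Cfsg.Agent.Lib.Helper90
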