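import Mathlib
import Cfsg.Agent.Lib.Helper90.Monster8
import Cfsg.Agent.Lib.Helper90.Monster10
import Cfsg.Agent.Lib.Helper54.Co0Type34

set_option autoImplicit false

namespace Cfsg.Agent.Lib.Helper90

open Cfsg Cfsg.Agent.Lib.Helper54

variable {G : Type*} [Group G] {z : G}

section

variable {Q : Subgroup (Subgroup.centralizer ({z} : Set G))} [Q.Normal]
  {e : (Subgroup.centralizer ({z} : Set G)) ⧸ Q ≃* Spor.Co1}
  {ψ : leechLattice → Q ⧸ Subgroup.center Q}

/-- twisting an identification by a lattice automorphism. -/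
theorem isLeechModTwoIso_twist (hψ : IsLeechModTwoIso Q e ψ) (a : Co0) :
    IsLeechModTwoIso Q (e.trans (MulAut.conj (QuotientGroup.mk a : Spor.Co1)))
      (fun u => ψ (a⁻¹ • u)) := by
  refine ⟨?_, ?_, ?_, ?_⟩
  · intro v w
    show ψ (a⁻¹ • (v + w)) = ψ (a⁻¹ • v) * ψ (a⁻¹ • w)
    rw [co0_add, hψ.1]
  · intro y
    obtain ⟨u, hu⟩ := hψ.2.1 y
    refine ⟨a • u, ?_⟩
    show ψ (a⁻¹ • (a • u)) = y
    rw [inv_smul_smul, hu]
  · intro v
    show ψ (a⁻¹ • v) = 1 ↔ _
    rw [hψ.2.2.1]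
    constructor
    · rintro ⟨w, hw⟩
      refine ⟨a • w, ?_⟩
      rw [← co0_add, ← hw, smul_inv_smul]
    · rintro ⟨w, hw⟩
      refine ⟨a⁻¹ • w, ?_⟩
      rw [← co0_add, ← hw]
  · intro h g hg v q hq
    show ψ (a⁻¹ • (g • v)) = _
    have h1 : (QuotientGroup.mk (a⁻¹ * g * a) : Spor.Co1) = e (QuotientGroup.mk h) := by
      have h2 : (QuotientGroup.mk g : Spor.Co1) =
          (QuotientGroup.mk a : Spor.Co1) * e (QuotientGroup.mk h) * (QuotientGroup.mk a : Spor.Co1)⁻¹ := hg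
      rw [QuotientGroup.mk_mul, QuotientGroup.mk_mul, QuotientGroup.mk_inv, h2]
      group
    have h3 := hψ.2.2.2 h (a⁻¹ * g * a) h1 (a⁻¹ • v) q hq
    rw [← h3, mul_smul, mul_smul, smul_inv_smul]

/-- an identification for which a given element of type `4` corresponds to `8 e_∞`. -/
theorem exists_iso_std (hψ : IsLeechModTwoIso Q e ψ) (x : Q) (hx : HasType ψ x 64) :
    ∃ (e' : (Subgroup.centralizer ({z} : Set G)) ⧸ Q ≃* Spor.Co1)
      (ψ' : leechLattice → Q ⧸ Subgroup.center Q), IsLeechModTwoIso Q e' ψ' ∧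
        ψ' (e8 none) = QuotientGroup.mk x := by
  obtain ⟨v, hv, hvx⟩ := hx
  obtain ⟨a, ha⟩ := co0_trans_64 v (e8 none) hv (sqNorm_e8 none)
  refine ⟨_, _, isLeechModTwoIso_twist hψ a, ?_⟩
  show ψ (a⁻¹ • e8 none) = _
  rw [← ha, inv_smul_smul, hvx]

/-- an element of `C` fixing the class of `x` can be corrected by an element of `Q` so as to
centralize `x`. -/
theorem exists_centralizing_rep [Finite G]
    (hES : ES Q (⟨z, z_mem_centralizer z⟩ : Subgroup.centralizer ({z} : Set G)))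
    (x : Q) (hxc : x ∉ Subgroup.center Q) (h0 : Subgroup.centralizer ({z} : Set G))
    (hh0 : conjQuot Q h0 (QuotientGroup.mk x) = QuotientGroup.mk x) :
    ∃ h1 : Subgroup.centralizer ({z} : Set G),
      (QuotientGroup.mk h1 : (Subgroup.centralizer ({z} : Set G)) ⧸ Q) = QuotientGroup.mk h0 ∧
        h1 * x * h1⁻¹ = x := by
  have e1 := hh0.symm
  rw [conjQuot_mk, QuotientGroup.eq] at e1
  obtain ⟨c, hc⟩ : ∃ c : Q, c = x⁻¹ * (⟨h0 * x * h0⁻¹,
    (inferInstance : Q.Normal).conj_mem _ x.2 h0⟩ : Q) := ⟨_, rfl⟩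
  rw [← hc] at e1
  have hc' : h0 * x * h0⁻¹ = x * (c : Subgroup.centralizer ({z} : Set G)) := by
    rw [hc]
    simp only [Subgroup.coe_mul, InvMemClass.coe_inv]
    group
  have hc2 := hES.center (c : Subgroup.centralizer ({z} : Set G)) c.2 (fun q hq => by
    have := Subgroup.mem_center_iff.mp e1 ⟨q, hq⟩
    exact congrArg Subtype.val this)
  rcases hc2 with hc2 | hc2
  · exact ⟨h0, rfl, by rw [hc', hc2, mul_one]⟩
  · have hx1 : (x : Subgroup.centralizer ({z} : Set G)) ≠ 1 := by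
      intro h1
      apply hxc
      have : x = 1 := Subtype.ext h1
      rw [this]; exact Subgroup.one_mem _
    have hxz : (x : Subgroup.centralizer ({z} : Set G)) ≠ ⟨z, z_mem_centralizer z⟩ := by
      intro h1
      apply hxc
      rw [Subgroup.mem_center_iff]
      intro q
      ext1
      simp only [Subgroup.coe_mul]
      rw [h1]
      exact hES.z_comm q q.2
    obtain ⟨q, hq, hqx⟩ := hES.exists_conj x.2 hx1 hxz
    refine ⟨q⁻¹ * h0, ?_, ?_⟩
    · rw [QuotientGroup.eq]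
      have : (q⁻¹ * h0)⁻¹ * h0 = h0⁻¹ * q * h0⁻¹⁻¹ := by group
      rw [this]
      exact (inferInstance : Q.Normal).conj_mem _ hq _
    · have h2 : h0 * x * h0⁻¹ = q * x * q⁻¹ := by
        rw [hc', hc2, hqx]
        exact hES.z_comm x x.2
      calc q⁻¹ * h0 * x * (q⁻¹ * h0)⁻¹ = q⁻¹ * (h0 * x * h0⁻¹) * q := by group
        _ = q⁻¹ * (q * x * q⁻¹) * q := by rw [h2]
        _ = x := by group

end

end Cfsg.Agent.Lib.Helper90
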