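import Mathlib
import Cfsg.Agent.Lib.Helper90.Monster11
import Cfsg.Agent.S0364
import Cfsg.Agent.S0365

set_option autoImplicit false

namespace Cfsg.Agent.Lib.Helper90

open Cfsg Cfsg.Agent.Lib.Helper54

variable {G : Type*} [Group G] {z : G}

section

variable {Q : Subgroup (Subgroup.centralizer ({z} : Set G))} [Q.Normal]
  {e : (Subgroup.centralizer ({z} : Set G)) ⧸ Q ≃* Spor.Co1}
  {ψ : leechLattice → Q ⧸ Subgroup.center Q}

/-- the epimorphism from `Co0` onto `C / Q`. -/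
noncomputable def theta (e : (Subgroup.centralizer ({z} : Set G)) ⧸ Q ≃* Spor.Co1) :
    Co0 →* (Subgroup.centralizer ({z} : Set G)) ⧸ Q :=
  e.symm.toMonoidHom.comp (QuotientGroup.mk' (Subgroup.center Co0))

theorem theta_eq_iff (n : Co0) (y : (Subgroup.centralizer ({z} : Set G)) ⧸ Q) :
    theta e n = y ↔ (QuotientGroup.mk n : Spor.Co1) = e y := by
  show e.symm (QuotientGroup.mk n : Spor.Co1) = y ↔ _
  rw [MulEquiv.symm_apply_eq]

theorem theta_surjective : Function.Surjective (theta e) := by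
  intro y
  obtain ⟨n, hn⟩ := QuotientGroup.mk_surjective (e y)
  exact ⟨n, (theta_eq_iff n y).2 hn⟩

theorem center_cases_co0 (hψ : IsLeechModTwoIso Q e ψ) (c : Co0) (hc : c ∈ Subgroup.center Co0) :
    c = 1 ∨ c = negCo0 := by
  have h1 : (QuotientGroup.mk c : Spor.Co1) =
      e (QuotientGroup.mk (1 : Subgroup.centralizer ({z} : Set G))) := by
    rw [QuotientGroup.mk_one, map_one]
    exact (QuotientGroup.eq_one_iff c).2 hc
  have h2 : ∀ u : leechLattice, sqNorm (u : GolayPt → ℤ) = 32 → c • u = u ∨ c • u = -u := by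
    intro u hu
    apply pm_of_psi_eq hψ hu (by rw [co0_sqNorm]; exact hu)
    rw [psi_smul hψ h1, conjQuot_one]
  have hab : (some 0 : GolayPt) ≠ none := by decide
  have hn : sqNorm ((wp (some 0) none : leechLattice) : GolayPt → ℤ) = 32 := by
    rw [coe_wp, sqNorm_sv hab]; norm_num
  exact pm_one_of_fix_pairs co0_trans_min _ hn c (h2 _ hn) (fun w hw _ => h2 w hw)

theorem theta_eq_one_iff (hψ : IsLeechModTwoIso Q e ψ) (n : Co0) :
    theta e n = 1 ↔ n = 1 ∨ n = negCo0 := by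
  rw [theta_eq_iff, map_one, QuotientGroup.eq_one_iff]
  constructor
  · exact center_cases_co0 hψ n
  · rintro (rfl | rfl)
    · exact Subgroup.one_mem _
    · exact negCo0_mem_center

theorem theta_psi (hψ : IsLeechModTwoIso Q e ψ) {n : Co0} {h : Subgroup.centralizer ({z} : Set G)}
    (hn : theta e n = QuotientGroup.mk h) (u : leechLattice) : ψ (n • u) = conjQuot Q h (ψ u) :=
  psi_smul hψ ((theta_eq_iff n _).1 hn) u

/-- the image of the sign changes has order at most `2 ^ 11`. -/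
theorem card_map_signGroup_le [Finite G] (hψ : IsLeechModTwoIso Q e ψ) :
    Nat.card (signGroup.map (theta e)) ≤ 2 ^ 11 := by
  have hfin : (signGroup : Set Co0).Finite := by
    have h0 : Finite signGroup := finite_signGroup
    exact h0
  have h1 := ncard_eq_two_mul_of_two_to_one (signGroup : Set Co0) hfin (theta e)
    (fun n => negCo0 * n) (by
      intro a ha
      refine ⟨?_, ?_, ?_⟩
      · exact signGroup.mul_mem ⟨_, _, signCo0_univ.symm⟩ ha
      · intro h
        apply negCo0_ne_one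
        calc negCo0 = (negCo0 * a) * a⁻¹ := by group
          _ = 1 := by rw [h, mul_inv_cancel]
      · show theta e (negCo0 * a) = theta e a
        rw [map_mul, (theta_eq_one_iff hψ negCo0).2 (Or.inr rfl), one_mul]) (by
      intro a _ b _ hab
      have h2 : theta e (a⁻¹ * b) = 1 := by rw [map_mul, map_inv, hab, inv_mul_cancel]
      rcases (theta_eq_one_iff hψ _).1 h2 with h3 | h3
      · left
        calc b = a * (a⁻¹ * b) := by group
          _ = a := by rw [h3, mul_one]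
      · right
        calc b = a * (a⁻¹ * b) := by group
          _ = negCo0 * a := by rw [h3, negCo0_comm])
  have h2 : (signGroup : Set Co0).ncard ≤ 4096 := card_signGroup_le
  have h3 : Nat.card (signGroup.map (theta e)) = (theta e '' (signGroup : Set Co0)).ncard := rfl
  omega

theorem not_isPGroup_M24 : ¬ IsPGroup 2 M24 := by
  intro h
  have : Finite M24 := Nat.finite_of_card_ne_zero (by rw [Cfsg.Agent.S0364.result]; norm_num)
  obtain ⟨k, hk⟩ := IsPGroup.iff_card.mp h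
  rw [Cfsg.Agent.S0364.result] at hk
  have h3 : 3 ∣ 2 ^ k := by rw [← hk]; norm_num
  have := Nat.Prime.dvd_of_dvd_pow Nat.prime_three h3
  omega

/-- the structure `2^11 : M24` of the stabiliser of an element of type `4`. -/
theorem structure_type64 [Finite G] (hMon : MonHyp)
    (hES : ES Q (⟨z, z_mem_centralizer z⟩ : Subgroup.centralizer ({z} : Set G)))
    (hψ : IsLeechModTwoIso Q e ψ) (x : Q) (hx8 : ψ (e8 none) = QuotientGroup.mk x)
    (hxc : x ∉ Subgroup.center Q)
    (X E : Subgroup ((Subgroup.centralizer ({z} : Set G)) ⧸ Q))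
    (hX : ∀ y, y ∈ X ↔ ∃ h : Subgroup.centralizer ({z} : Set G), h * x * h⁻¹ = x ∧
      QuotientGroup.mk h = y)
    (hEX : E ≤ X) (hEn : ∀ y ∈ X, ∀ t ∈ E, y * t * y⁻¹ ∈ E) (hE2 : IsPGroup 2 E)
    (hEcard : 2 ^ 11 ≤ Nat.card E) :
    Nat.card E = 2 ^ 11 ∧ ∃ K : Subgroup ((Subgroup.centralizer ({z} : Set G)) ⧸ Q),
      K ≤ X ∧ E ⊓ K = ⊥ ∧ E ⊔ K = X ∧ Nonempty (K ≃* M24) := by
  have hXn : ∀ y, y ∈ X ↔ ∃ n : Co0, Cong (n • e8 none) (e8 none) ∧ theta e n = y := by
    intro y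
    rw [hX]
    constructor
    · rintro ⟨h, hh, rfl⟩
      obtain ⟨n, hn⟩ := theta_surjective (e := e) (QuotientGroup.mk h)
      refine ⟨n, ?_, hn⟩
      apply congr_of_psi_eq hψ
      rw [theta_psi hψ hn, hx8, conjQuot_mk]
      congr 1
      exact Subtype.ext hh
    · rintro ⟨n, hn, rfl⟩
      obtain ⟨h, hh⟩ := QuotientGroup.mk_surjective (theta e n)
      have h1 : conjQuot Q h (QuotientGroup.mk x) = QuotientGroup.mk x := by
        rw [← hx8, ← theta_psi hψ hh.symm]
        exact psi_congr hψ hn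
      obtain ⟨h1, hh1, hh1x⟩ := exists_centralizing_rep hES x hxc h h1
      exact ⟨h1, hh1x, by rw [hh1, hh]⟩
  obtain ⟨D, hD⟩ : ∃ D, D = signGroup.map (theta e) := ⟨_, rfl⟩
  obtain ⟨κ, hκ⟩ : ∃ κ, κ = (theta e).comp permHom := ⟨_, rfl⟩
  have hκa : ∀ σ, κ σ = theta e (permCo0 σ) := by intro σ; rw [hκ]; rfl
  have hDX : D ≤ X := by
    rw [hD]
    rintro _ ⟨_, ⟨c, hc, rfl⟩, rfl⟩
    exact (hXn _).2 ⟨_, cong_sign c hc none, rfl⟩
  have hKX : κ.range ≤ X := by
    rintro _ ⟨σ, rfl⟩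
    rw [hκa]
    exact (hXn _).2 ⟨_, cong_perm σ none, rfl⟩
  have decomp : ∀ y ∈ X, ∃ d ∈ D, ∃ k ∈ κ.range, y = d * k := by
    intro y hy
    obtain ⟨n, hn, rfl⟩ := (hXn y).1 hy
    obtain ⟨c, hc, σ, rfl⟩ := monomial_of_cong hMon n none hn
    refine ⟨theta e (signCo0 c hc), ?_, κ σ, ⟨σ, rfl⟩, ?_⟩
    · rw [hD]; exact ⟨_, ⟨c, hc, rfl⟩, rfl⟩
    · rw [map_mul, hκa]
  have hκinj : Function.Injective κ := by
    rw [injective_iff_map_eq_one]
    intro σ hσ
    rw [hκa, theta_eq_one_iff hψ] at hσ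
    apply perm_eq_one_of_mem_signGroup
    rcases hσ with h | h
    · rw [h]; exact signGroup.one_mem
    · rw [h]; exact ⟨_, _, signCo0_univ.symm⟩
  have hKD : ∀ k ∈ κ.range, ∀ d ∈ D, k * d * k⁻¹ ∈ D := by
    rintro _ ⟨σ, rfl⟩ d hd
    rw [hD] at hd ⊢
    obtain ⟨_, ⟨c, hc, rfl⟩, rfl⟩ := hd
    refine ⟨_, ⟨_, Cfsg.Agent.Lib.Helper27.smul_mem_supports σ.2 hc, rfl⟩, ?_⟩
    rw [hκa, ← map_mul, perm_mul_sign, map_mul, mul_assoc, mul_inv_cancel, mul_one]
  have hD2 : IsPGroup 2 D := by rw [hD]; exact isPGroup_signGroup.map _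
  have hW2 : IsPGroup 2 (D ⊔ E : Subgroup _) := by
    apply IsPGroup.to_sup_of_normal_right' hD2 hE2
    intro d hd
    exact mem_normalizer_of_conj_mem E d (hEn d (hDX hd))
  have hKW : ∀ k ∈ κ.range, ∀ w ∈ D ⊔ E, k * w * k⁻¹ ∈ D ⊔ E := by
    intro k hk w hw
    have h1 : (D ⊔ E).map (MulAut.conj k).toMonoidHom ≤ D ⊔ E := by
      rw [Subgroup.map_sup]
      apply sup_le_sup
      · rintro _ ⟨d, hd, rfl⟩
        exact hKD k hk d hd
      · rintro _ ⟨t, ht, rfl⟩
        exact hEn k (hKX hk) t ht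
    exact h1 ⟨w, hw, rfl⟩
  have hsimple : IsSimpleGroup κ.range := by
    have := Cfsg.Agent.S0365.result
    exact (MonoidHom.ofInjective hκinj).symm.isSimpleGroup
  have hT : (D ⊔ E) ⊓ κ.range = ⊥ := by
    have hn : (((D ⊔ E) ⊓ κ.range).subgroupOf κ.range).Normal := by
      constructor
      intro t ht k
      rw [Subgroup.mem_subgroupOf] at ht ⊢
      refine ⟨?_, (k * t * k⁻¹).2⟩
      simp only [Subgroup.coe_mul, InvMemClass.coe_inv]
      exact hKW k k.2 t ht.1
    rcases hn.eq_bot_or_eq_top with h | h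
    · rw [Subgroup.subgroupOf_eq_bot] at h
      have := h.eq_bot
      rw [inf_assoc, inf_idem] at this
      exact this
    · exfalso
      rw [Subgroup.subgroupOf_eq_top] at h
      have h2 : IsPGroup 2 κ.range := hW2.to_le (h.trans inf_le_left)
      exact not_isPGroup_M24 (h2.of_equiv (MonoidHom.ofInjective hκinj).symm)
  have hED : E ≤ D := by
    intro y hy
    obtain ⟨d, hd, k, hk, rfl⟩ := decomp y (hEX hy)
    have h1 : k ∈ (D ⊔ E) ⊓ κ.range := by
      refine ⟨?_, hk⟩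
      have : k = d⁻¹ * (d * k) := by group
      rw [this]
      exact Subgroup.mul_mem _ (Subgroup.mem_sup_left (D.inv_mem hd)) (Subgroup.mem_sup_right hy)
    rw [hT, Subgroup.mem_bot] at h1
    rw [h1, mul_one]; exact hd
  have hDcard : Nat.card D ≤ 2 ^ 11 := by rw [hD]; exact card_map_signGroup_le hψ
  have hEDeq : E = D := Subgroup.eq_of_le_of_card_ge hED (hDcard.trans hEcard)
  refine ⟨le_antisymm ((Subgroup.card_le_of_le hED).trans hDcard) hEcard, κ.range, hKX, ?_, ?_,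
    ⟨(MonoidHom.ofInjective hκinj).symm⟩⟩
  · rw [eq_bot_iff, ← hT]
    exact inf_le_inf_right _ le_sup_right
  · apply le_antisymm (sup_le hEX hKX)
    intro y hy
    obtain ⟨d, hd, k, hk, rfl⟩ := decomp y hy
    rw [hEDeq]
    exact Subgroup.mul_mem _ (Subgroup.mem_sup_left hd) (Subgroup.mem_sup_right hk)

end

end Cfsg.Agent.Lib.Helper90
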