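import Mathlib
import Cfsg.Agent.Lib.Helper90.Monster12

set_option autoImplicit false

namespace Cfsg.Agent.Lib.Helper90

open Cfsg Cfsg.Agent.Lib.Helper54

theorem card_ker_inf_mul_card_map {A B : Type*} [Group A] [Group B] (f : A →* B) (P : Subgroup A) :
    Nat.card (f.ker ⊓ P : Subgroup A) * Nat.card (P.map f) = Nat.card P := by
  have h := Subgroup.relIndex_mul_relIndex ⊥ (f.ker ⊓ P) P bot_le inf_le_right
  rw [Subgroup.relIndex_bot_left, Subgroup.relIndex_bot_left, Subgroup.inf_relIndex_right,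
    Subgroup.relIndex_ker] at h
  exact h

variable {G : Type*} [Group G] {z : G}

/-- the structure of the pair `Q`, `Q^g` in a group of Monster type. -/
theorem monster_pair_core [Finite G] (hT : LeechTrans) (hMon : MonHyp)
    (Q : Subgroup (Subgroup.centralizer ({z} : Set G))) [Q.Normal] (hM : IsOfMonsterType z Q)
    (s : G) (hsQ : ∃ hsc : s ∈ Subgroup.centralizer ({z} : Set G),
      (⟨s, hsc⟩ : Subgroup.centralizer ({z} : Set G)) ∈ Q)
    (hs : IsConj z s) (hs1 : s ≠ z) (g : G) (hg : g * z * g⁻¹ = s)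
    (P : Subgroup (Subgroup.centralizer ({z} : Set G)))
    (hP : P = ((Q.map (Subgroup.centralizer ({z} : Set G)).subtype).map
      (MulAut.conj g).toMonoidHom).subgroupOf (Subgroup.centralizer ({z} : Set G)))
    (X E : Subgroup ((Subgroup.centralizer ({z} : Set G)) ⧸ Q))
    (hX : X = ((Subgroup.centralizer ({z} : Set G) ⊓ Subgroup.centralizer ({s} : Set G)).subgroupOf
      (Subgroup.centralizer ({z} : Set G))).map (QuotientGroup.mk' Q))
    (hE : E = P.map (QuotientGroup.mk' Q)) :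
    Nat.card (Q ⊓ P : Subgroup _) = 2 ^ 13 ∧
    E ≤ X ∧ (∀ x ∈ X, ∀ y ∈ E, x * y * x⁻¹ ∈ E) ∧ IsElementaryAbelian 2 E ∧ Nat.card E = 2 ^ 11 ∧
      ∃ K : Subgroup ((Subgroup.centralizer ({z} : Set G)) ⧸ Q),
        K ≤ X ∧ E ⊓ K = ⊥ ∧ E ⊔ K = X ∧ Nonempty (K ≃* M24) := by
  obtain ⟨hset, e, ψ, hψ⟩ := hM
  have hESC := es_of_setting hset
  obtain ⟨hsc, hsQ⟩ := hsQ
  obtain ⟨x, hx⟩ : ∃ x : Q, x = ⟨⟨s, hsc⟩, hsQ⟩ := ⟨_, rfl⟩
  have hxs : ((x : Subgroup.centralizer ({z} : Set G)) : G) = s := by rw [hx]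
  obtain ⟨hxc, hx64⟩ := type64_of_conj hT hset hψ x (by rw [hxs]; exact hs) (by rw [hxs]; exact hs1)
  obtain ⟨e', ψ', hψ', hx8⟩ := exists_iso_std hψ x hx64
  obtain ⟨hz, hF, hQ, hcard, -⟩ := hset
  obtain ⟨z', hES', -⟩ := ES.of_isExtraspecial hQ
  have hQ₀ : Cfsg.IsExtraspecial 2 ↥(Q.map (Subgroup.centralizer ({z} : Set G)).subtype) :=
    (ES.map_subtype hES').isExtraspecial
  have hF' : (Cfsg.generalizedFittingSubgroup ↥(Subgroup.centralizer ({z} : Set G))).map
      (Subgroup.centralizer ({z} : Set G)).subtype =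
      Q.map (Subgroup.centralizer ({z} : Set G)).subtype := by rw [hF]
  obtain ⟨hES, hL2, hL3⟩ := setting_of_genFitting z hz _ hF' hQ₀
  have hcard₀ : Nat.card ↥(Q.map (Subgroup.centralizer ({z} : Set G)).subtype) = 2 ^ (2 * 12 + 1) := by
    rw [← hcard]
    exact Subgroup.card_map_of_injective (Subgroup.subtype_injective _)
  have hsQ' : g * z * g⁻¹ ∈ Q.map (Subgroup.centralizer ({z} : Set G)).subtype :=
    ⟨x, x.2, by rw [hg]; exact hxs⟩
  have hpd := PairData.of_large hES hL2 hL3 g hsQ' (by rw [hg]; exact hs1)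
  rw [hg] at hpd
  obtain ⟨Q'', hQ''⟩ : ∃ Q'' : Subgroup G, Q'' =
    (Q.map (Subgroup.centralizer ({z} : Set G)).subtype).map (MulAut.conj g).toMonoidHom := ⟨_, rfl⟩
  rw [← hQ''] at hpd hP
  have hcard'' : Nat.card Q'' = 2 ^ (2 * 12 + 1) := by
    rw [← hcard₀, hQ'']
    exact Subgroup.card_map_of_injective (MulAut.conj g).injective
  have memP : ∀ r : Subgroup.centralizer ({z} : Set G), r ∈ P ↔ (r : G) ∈ Q'' := by
    intro r; rw [hP, Subgroup.mem_subgroupOf]
  have hP2 : IsPGroup 2 P := by rw [hP]; exact hpd.es'.two.comap_subtype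
  have memQ' : ∀ r : Subgroup.centralizer ({z} : Set G), r ∈ Q →
      (r : G) ∈ Q.map (Subgroup.centralizer ({z} : Set G)).subtype := fun r hr => ⟨r, hr, rfl⟩
  -- description of `X`
  have hXmem : ∀ y, y ∈ X ↔ ∃ h : Subgroup.centralizer ({z} : Set G), h * x * h⁻¹ = x ∧
      QuotientGroup.mk h = y := by
    intro y
    rw [hX]
    constructor
    · rintro ⟨h, hh, rfl⟩
      refine ⟨h, ?_, rfl⟩
      have h1 : (h : G) ∈ Subgroup.centralizer ({s} : Set G) := (Subgroup.mem_subgroupOf.mp hh).2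
      rw [Subgroup.mem_centralizer_singleton_iff] at h1
      apply Subtype.ext
      simp only [Subgroup.coe_mul, InvMemClass.coe_inv]
      rw [hxs, h1]; group
    · rintro ⟨h, hh, rfl⟩
      refine ⟨h, ?_, rfl⟩
      rw [SetLike.mem_coe, Subgroup.mem_subgroupOf]
      refine ⟨h.2, ?_⟩
      apply Subgroup.mem_centralizer_singleton_iff.mpr
      have h1 := congrArg Subtype.val hh
      simp only [Subgroup.coe_mul, InvMemClass.coe_inv] at h1
      rw [hxs] at h1
      calc (h : G) * s = ((h : G) * s * (h : G)⁻¹) * h := by group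
        _ = s * h := by rw [h1]
  have hEX : E ≤ X := by
    rw [hE]
    rintro _ ⟨r, hr, rfl⟩
    rw [hXmem]
    refine ⟨r, ?_, rfl⟩
    apply Subtype.ext
    have := hpd.es'.z_comm (r : G) ((memP r).1 hr)
    simp only [Subgroup.coe_mul, InvMemClass.coe_inv]
    rw [hxs, this]; group
  have hEn : ∀ y ∈ X, ∀ t ∈ E, y * t * y⁻¹ ∈ E := by
    intro y hy t ht
    obtain ⟨h, hh, rfl⟩ := (hXmem y).1 hy
    rw [hE] at ht ⊢
    obtain ⟨r, hr, rfl⟩ := ht
    refine ⟨h * r * h⁻¹, ?_, by simp⟩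
    rw [SetLike.mem_coe, memP]
    have h1 := congrArg Subtype.val hh
    simp only [Subgroup.coe_mul, InvMemClass.coe_inv] at h1
    rw [hxs] at h1
    have h2 : (h : G) * s = s * h := by
      calc (h : G) * s = ((h : G) * s * (h : G)⁻¹) * h := by group
        _ = s * h := by rw [h1]
    have h3 := hpd.norm' _ h2 _ ((memP r).1 hr)
    simpa using h3
  have hE2 : IsPGroup 2 E := by rw [hE]; exact hP2.map _
  have hsQC : (⟨s, hsc⟩ : Subgroup.centralizer ({z} : Set G)) ∈ Q := hsQ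
  have hEel : IsElementaryAbelian 2 E := by
    constructor
    · refine ⟨⟨?_⟩⟩
      rintro ⟨a, ha⟩ ⟨b, hb⟩
      apply Subtype.ext
      show a * b = b * a
      rw [hE] at ha hb
      obtain ⟨r, hr, rfl⟩ := ha
      obtain ⟨r', hr', rfl⟩ := hb
      show (QuotientGroup.mk (r * r') : _ ⧸ Q) = QuotientGroup.mk (r' * r)
      rcases hpd.es'.comm _ ((memP r).1 hr) _ ((memP r').1 hr') with h1 | h1
      · congr 1
        exact Subtype.ext h1
      · have h2 : r * r' = ⟨s, hsc⟩ * (r' * r) := Subtype.ext h1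
        rw [h2, QuotientGroup.mk_mul, (QuotientGroup.eq_one_iff _).2 hsQC, one_mul]
    · intro a ha
      rw [hE] at ha
      obtain ⟨r, hr, rfl⟩ := ha
      show (QuotientGroup.mk r : _ ⧸ Q) ^ 2 = 1
      rw [pow_two, ← QuotientGroup.mk_mul, QuotientGroup.eq_one_iff]
      rcases hpd.es'.sq _ ((memP r).1 hr) with h1 | h1
      · have : r * r = 1 := Subtype.ext h1
        rw [this]; exact Q.one_mem
      · have : r * r = ⟨s, hsc⟩ := Subtype.ext h1
        rw [this]; exact hsQC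
  -- cardinalities
  have hmul : Nat.card (Q ⊓ P : Subgroup _) * Nat.card E = Nat.card P := by
    have := card_ker_inf_mul_card_map (QuotientGroup.mk' Q) P
    rw [QuotientGroup.ker_mk'] at this
    rw [hE]; exact this
  have hE'' : Cfsg.IsExtraspecial 2 ↥Q'' := hpd.es'.isExtraspecial
  have hPcard : 2 ^ 24 ≤ Nat.card P := by
    obtain ⟨B, hB⟩ : ∃ B : Subgroup Q'', B = Subgroup.centralizer
      (Subgroup.zpowers (⟨z, hpd.z_mem⟩ : Q'') : Set Q'') := ⟨_, rfl⟩
    have h2 := Cfsg.Agent.Lib.Helper48.card_mul_card_centralizer hE''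
      (Subgroup.zpowers (⟨z, hpd.z_mem⟩ : Q''))
    rw [← hB, Nat.card_zpowers, Subgroup.orderOf_mk, hz, hcard''] at h2
    have h3 : 0 < Nat.card (Subgroup.zpowers (⟨z, hpd.z_mem⟩ : Q'') ⊓ Subgroup.center Q'' : Subgroup Q'') :=
      Nat.card_pos
    have h4 : (2 : ℕ) ^ (2 * 12 + 1) ≤ 2 * Nat.card B := by
      rw [h2]
      exact Nat.le_mul_of_pos_right _ h3
    have hBz : ∀ a : B, ((a : Q'') : G) ∈ Subgroup.centralizer ({z} : Set G) := by
      intro a
      have ha : (a : Q'') ∈ Subgroup.centralizer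
        (Subgroup.zpowers (⟨z, hpd.z_mem⟩ : Q'') : Set Q'') := hB ▸ a.2
      rw [Subgroup.mem_centralizer_iff] at ha
      have h1 := ha ⟨z, hpd.z_mem⟩ (Subgroup.mem_zpowers _)
      have h2 : z * ((a : Q'') : G) = ((a : Q'') : G) * z := congrArg Subtype.val h1
      exact Subgroup.mem_centralizer_singleton_iff.mpr h2.symm
    have h5 : Nat.card B ≤ Nat.card P := by
      apply Nat.card_le_card_of_injective
        (fun a : B => (⟨⟨((a : Q'') : G), hBz a⟩, (memP _).2 (a : Q'').2⟩ : P))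
      intro a b hab
      apply Subtype.ext
      apply Subtype.ext
      exact congrArg (fun w : P => ((w : Subgroup.centralizer ({z} : Set G)) : G)) hab
    norm_num at h4 ⊢
    omega
  have hQPcard : Nat.card (Q ⊓ P : Subgroup _) ≤ 2 ^ 13 := by
    have hcomm : IsMulCommutative ((Q ⊓ P).subgroupOf Q) := by
      refine ⟨⟨?_⟩⟩
      rintro ⟨a, ha⟩ ⟨b, hb⟩
      apply Subtype.ext
      apply Subtype.ext
      apply Subtype.ext
      rw [Subgroup.mem_subgroupOf] at ha hb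
      exact hpd.E_comm ⟨memQ' _ ha.1, (memP _).1 ha.2⟩ ⟨memQ' _ hb.1, (memP _).1 hb.2⟩
    have h1 := card_le_of_abelian hQ 12 hcard _ hcomm
    rw [Nat.card_congr (Subgroup.subgroupOfEquivOfLe (inf_le_left : Q ⊓ P ≤ Q)).toEquiv] at h1
    exact h1
  have hEcard : 2 ^ 11 ≤ Nat.card E := by
    by_contra hcon
    push Not at hcon
    have h1 : Nat.card (Q ⊓ P : Subgroup _) * Nat.card E ≤ 2 ^ 13 * Nat.card E :=
      Nat.mul_le_mul_right _ hQPcard
    have h2 : 2 ^ 13 * Nat.card E < 2 ^ 13 * 2 ^ 11 := by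
      apply Nat.mul_lt_mul_of_pos_left hcon (by norm_num)
    rw [hmul] at h1
    norm_num at h1 h2 hPcard
    omega
  obtain ⟨hE11, hK⟩ := structure_type64 hMon hESC hψ' x hx8 hxc X E hXmem hEX hEn hE2 hEcard
  refine ⟨?_, hEX, hEn, hEel, hE11, hK⟩
  rw [hE11] at hmul
  norm_num at hmul hPcard hQPcard ⊢
  omega

end Cfsg.Agent.Lib.Helper90
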