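import Mathlib
import Cfsg.Agent.Lib.Helper90.Monster13
import Cfsg.Agent.Lib.Helper90.Monster14
import Cfsg.Agent.Lib.Helper90.Monster9

set_option autoImplicit false

namespace Cfsg.Agent.Lib.Helper90

open Cfsg

variable {G : Type*} [Group G] {z : G}

/-- `|Q ∩ Q^g| = 2^13` in a group of Monster type. -/
theorem monster_card_inf [Finite G]
    (Q : Subgroup (Subgroup.centralizer ({z} : Set G))) [Q.Normal] (hM : IsOfMonsterType z Q)
    (s : G) (hsQ : ∃ hsc : s ∈ Subgroup.centralizer ({z} : Set G),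
      (⟨s, hsc⟩ : Subgroup.centralizer ({z} : Set G)) ∈ Q)
    (hs : IsConj z s) (hs1 : s ≠ z) (g : G) (hg : g * z * g⁻¹ = s) :
    Nat.card ↥((Q.map (Subgroup.centralizer ({z} : Set G)).subtype) ⊓
      (Q.map (Subgroup.centralizer ({z} : Set G)).subtype).map (MulAut.conj g).toMonoidHom) = 2 ^ 13 := by
  have h := (monster_pair_core leechTrans monHyp Q hM s hsQ hs hs1 g hg _ rfl _ _ rfl rfl).1
  rw [← h]
  have e : (Q.map (Subgroup.centralizer ({z} : Set G)).subtype) ⊓
      (Q.map (Subgroup.centralizer ({z} : Set G)).subtype).map (MulAut.conj g).toMonoidHom =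
      (Q ⊓ ((Q.map (Subgroup.centralizer ({z} : Set G)).subtype).map
        (MulAut.conj g).toMonoidHom).subgroupOf (Subgroup.centralizer ({z} : Set G))).map
        (Subgroup.centralizer ({z} : Set G)).subtype := by
    ext y
    constructor
    · rintro ⟨⟨r, hr, rfl⟩, h2⟩
      exact ⟨r, ⟨hr, Subgroup.mem_subgroupOf.mpr h2⟩, rfl⟩
    · rintro ⟨r, ⟨hr, h2⟩, rfl⟩
      exact ⟨⟨r, hr, rfl⟩, Subgroup.mem_subgroupOf.mp h2⟩
  rw [e]
  exact Subgroup.card_map_of_injective (Subgroup.subtype_injective _)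

/-- the stabiliser `2^11 : M24` of a conjugate of `z` in `Q`. -/
theorem monster_stabilizer_split [Finite G]
    (Q : Subgroup (Subgroup.centralizer ({z} : Set G))) [Q.Normal] (hM : IsOfMonsterType z Q)
    (s : G) (hsQ : ∃ hsc : s ∈ Subgroup.centralizer ({z} : Set G),
      (⟨s, hsc⟩ : Subgroup.centralizer ({z} : Set G)) ∈ Q)
    (hs : IsConj z s) (hs1 : s ≠ z) (g : G) (hg : g * z * g⁻¹ = s)
    (X E : Subgroup ((Subgroup.centralizer ({z} : Set G)) ⧸ Q))
    (hX : X = ((Subgroup.centralizer ({z} : Set G) ⊓ Subgroup.centralizer ({s} : Set G)).subgroupOf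
      (Subgroup.centralizer ({z} : Set G))).map (QuotientGroup.mk' Q))
    (hE : E = (((Q.map (Subgroup.centralizer ({z} : Set G)).subtype).map (MulAut.conj g).toMonoidHom ⊓
      Subgroup.centralizer ({z} : Set G)).subgroupOf (Subgroup.centralizer ({z} : Set G))).map
        (QuotientGroup.mk' Q)) :
    E ≤ X ∧ (∀ x ∈ X, ∀ y ∈ E, x * y * x⁻¹ ∈ E) ∧ IsElementaryAbelian 2 E ∧ Nat.card E = 2 ^ 11 ∧
      ∃ K : Subgroup ((Subgroup.centralizer ({z} : Set G)) ⧸ Q),
        K ≤ X ∧ E ⊓ K = ⊥ ∧ E ⊔ K = X ∧ Nonempty (K ≃* M24) := by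
  rw [Subgroup.inf_subgroupOf_right] at hE
  exact (monster_pair_core leechTrans monHyp Q hM s hsQ hs hs1 g hg _ rfl X E hX hE).2

end Cfsg.Agent.Lib.Helper90
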