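import Mathlib
import Cfsg.Agent.Lib.Helper90.Monster15

set_option autoImplicit false

namespace Cfsg.Agent.Lib.Helper90

open Cfsg Cfsg.Agent.Lib.Helper54

theorem eight_dvd_dotInt (a b : leechLattice) :
    (8 : ℤ) ∣ dotInt (a : GolayPt → ℤ) (b : GolayPt → ℤ) := by
  have h1 := Cfsg.Agent.S0392.result _ (a + b).2
  have h2 := Cfsg.Agent.S0392.result _ a.2
  have h3 := Cfsg.Agent.S0392.result _ b.2
  rw [AddSubgroup.coe_add, sqNorm_add] at h1
  omega

theorem sqNorm_congr {v y u : GolayPt → ℤ} (hy : y ∈ leechLattice) (hu : u ∈ leechLattice)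
    (h : v - y = 2 • u) : (32 : ℤ) ∣ sqNorm v - sqNorm y := by
  have hv : v = y + (u + u) := by
    rw [← two_nsmul, ← h]; abel
  have h1 := eight_dvd_dotInt ⟨y, hy⟩ ⟨u, hu⟩
  have h2 := Cfsg.Agent.S0392.result _ hu
  simp only at h1
  rw [hv, sqNorm_add, sqNorm_add_self, dotInt_add_right']
  omega

variable {G : Type*} [Group G] {z : G}

section

variable {Q : Subgroup (Subgroup.centralizer ({z} : Set G))} [Q.Normal]
  {e : (Subgroup.centralizer ({z} : Set G)) ⧸ Q ≃* Spor.Co1}
  {ψ : leechLattice → Q ⧸ Subgroup.center Q}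

theorem sq_of_conj {C : Type*} [Group C] {a b h : C} (ha : a * a = 1) (hb : h * a * h⁻¹ = b) :
    b * b = 1 := by
  rw [← hb]
  calc h * a * h⁻¹ * (h * a * h⁻¹) = h * (a * a) * h⁻¹ := by group
    _ = 1 := by rw [ha]; group

/-- the squaring map of `Q` is the quadratic form of the Leech lattice modulo `2`. -/
theorem sq_formula [Finite G] (hM : IsOfMonsterType z Q) (hψ : IsLeechModTwoIso Q e ψ)
    (x0 : Q) (h32 : HasType ψ x0 32) (hx0 : x0 * x0 = 1) (v : leechLattice) (q : Q)
    (hv : ψ v = QuotientGroup.mk q) : q * q = 1 ↔ (32 : ℤ) ∣ sqNorm (v : GolayPt → ℤ) := by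
  have hset := hM.1
  have hES := es_of_setting hset
  obtain ⟨y, hy, hyn, u, hu, huv⟩ := Cfsg.Agent.S1570.result (v : GolayPt → ℤ) v.2
  have h1 : ψ ⟨y, hy⟩ = QuotientGroup.mk q := by
    rw [← hv]
    exact (psi_congr hψ ⟨u, hu, huv⟩).symm
  have hcong := sqNorm_congr hy hu huv
  by_cases hy0 : y = 0
  · have h2 : ψ ⟨y, hy⟩ = 1 := by
      rw [hψ.2.2.1]
      refine ⟨0, ?_⟩
      ext1
      simp [hy0]
    rw [h1] at h2
    have h3 := (QuotientGroup.eq_one_iff q).mp h2
    have h4 : sqNorm y = 0 := by rw [hy0]; simp [sqNorm]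
    constructor
    · intro _; omega
    · intro _
      apply Subtype.ext
      apply Subtype.ext
      rcases center_cases hES q h3 with h5 | h5
      · simp only [Subgroup.coe_mul, Subgroup.coe_one]
        rw [h5, one_mul]
      · simp only [Subgroup.coe_mul, Subgroup.coe_one]
        rw [h5]
        exact sq_of_orderOf_two hset.1
  · have h3 := Cfsg.Agent.S0391.result y hy hy0
    obtain ⟨k, hk⟩ := Cfsg.Agent.S0392.result y hy
    have h4 : sqNorm y = 32 ∨ sqNorm y = 48 ∨ sqNorm y = 64 := by omega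
    rcases h4 with h4 | h4 | h4
    · have hq32 : HasType ψ q 32 := ⟨⟨y, hy⟩, h4, h1⟩
      have hqc : q ∉ Subgroup.center Q := fun h => not_hasType_of_center hψ h (Or.inl rfl) hq32
      obtain ⟨h, hh⟩ := conj_of_type hES leechTrans hψ (Or.inl rfl) h32 hq32 hqc
      constructor
      · intro _; omega
      · intro _
        apply Subtype.ext
        exact sq_of_conj (congrArg Subtype.val hx0) hh
    · have hq48 : HasType ψ q 48 := ⟨⟨y, hy⟩, h4, h1⟩
      have := sq_ne_one_of_type48 leechTrans hset hψ q hq48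
      constructor
      · intro h; rw [pow_two] at this; exact absurd h this
      · intro _; omega
    · have h5 := (monster_conj_iff_type64 leechTrans Q hM e ψ hψ q).2 ⟨⟨y, hy⟩, h4, h1⟩
      obtain ⟨g, hg⟩ := isConj_iff.mp h5.1
      constructor
      · intro _; omega
      · intro _
        apply Subtype.ext
        apply Subtype.ext
        exact sq_of_conj (sq_of_orderOf_two hset.1) hg

/-- the commutator map of `Q` is the bilinear form of the Leech lattice modulo `2`. -/
theorem comm_formula [Finite G] (hM : IsOfMonsterType z Q) (hψ : IsLeechModTwoIso Q e ψ)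
    (x0 : Q) (h32 : HasType ψ x0 32) (hx0 : x0 * x0 = 1) (v w : leechLattice) (q r : Q)
    (hv : ψ v = QuotientGroup.mk q) (hw : ψ w = QuotientGroup.mk r) :
    q * r = r * q ↔ (16 : ℤ) ∣ dotInt (v : GolayPt → ℤ) (w : GolayPt → ℤ) := by
  have hset := hM.1
  have hES := es_of_setting hset
  have h1 := sq_formula hM hψ x0 h32 hx0 v q hv
  have h2 := sq_formula hM hψ x0 h32 hx0 w r hw
  have h3 := sq_formula hM hψ x0 h32 hx0 (v + w) (q * r) (by rw [hψ.1, hv, hw]; rfl)
  rw [AddSubgroup.coe_add, sqNorm_add] at h3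
  obtain ⟨a, ha⟩ := Cfsg.Agent.S0392.result _ v.2
  obtain ⟨b, hb⟩ := Cfsg.Agent.S0392.result _ w.2
  obtain ⟨c, hc⟩ := eight_dvd_dotInt v w
  obtain ⟨zQ, hzQ⟩ : ∃ zQ : Q, zQ = ⟨⟨z, z_mem_centralizer z⟩, hES.z_mem⟩ := ⟨_, rfl⟩
  have hzz : zQ * zQ = 1 := by rw [hzQ]; exact Subtype.ext hES.z_sq
  have hz1 : zQ ≠ 1 := by
    rw [hzQ]; intro h; exact hES.z_ne (congrArg Subtype.val h)
  have hzc : ∀ p : Q, p * zQ = zQ * p := by
    intro p; rw [hzQ]; exact Subtype.ext (hES.z_comm p p.2)
  have hsq : ∀ p : Q, p * p = 1 ∨ p * p = zQ := by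
    intro p
    rcases hES.sq p p.2 with h | h
    · left; exact Subtype.ext h
    · right; rw [hzQ]; exact Subtype.ext h
  have hcm : q * r = r * q ∨ q * r = zQ * (r * q) := by
    rcases hES.comm q q.2 r r.2 with h | h
    · left; exact Subtype.ext h
    · right; rw [hzQ]; exact Subtype.ext h
  have hne : q * r = zQ * (r * q) → q * r ≠ r * q := by
    intro h h'
    rw [h'] at h
    apply hz1
    calc zQ = zQ * (r * q) * (r * q)⁻¹ := by group
      _ = 1 := by rw [← h]; group
  have key1 : q * r = r * q → (q * r) * (q * r) = (q * q) * (r * r) := by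
    intro h
    calc q * r * (q * r) = q * (r * q) * r := by group
      _ = q * q * (r * r) := by rw [← h]; group
  have key2 : q * r = zQ * (r * q) → (q * r) * (q * r) = zQ * ((q * q) * (r * r)) := by
    intro h
    have h' : r * q = zQ * (q * r) := by
      rw [h, ← mul_assoc, hzz, one_mul]
    calc q * r * (q * r) = q * (r * q) * r := by group
      _ = (q * zQ) * q * (r * r) := by rw [h']; group
      _ = zQ * (q * q * (r * r)) := by rw [hzc]; group
  rw [ha, hb, hc] at h3
  rw [ha] at h1
  rw [hb] at h2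
  rw [hc]
  rcases hcm with h | h
  · have k := key1 h
    constructor
    · intro _
      rcases hsq q with hq | hq <;> rcases hsq r with hr | hr
      · rw [hq, hr, one_mul] at k
        have := h3.1 k; have := h1.1 hq; have := h2.1 hr; omega
      · rw [hq, hr, one_mul] at k
        have e3 : ¬ (q * r * (q * r) = 1) := by rw [k]; exact hz1
        have e2 : ¬ (r * r = 1) := by rw [hr]; exact hz1
        rw [h3] at e3; rw [h2] at e2; have := h1.1 hq; omega
      · rw [hq, hr, mul_one] at k
        have e3 : ¬ (q * r * (q * r) = 1) := by rw [k]; exact hz1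
        have e1 : ¬ (q * q = 1) := by rw [hq]; exact hz1
        rw [h3] at e3; rw [h1] at e1; have := h2.1 hr; omega
      · rw [hq, hr, hzz] at k
        have e1 : ¬ (q * q = 1) := by rw [hq]; exact hz1
        have e2 : ¬ (r * r = 1) := by rw [hr]; exact hz1
        rw [h1] at e1; rw [h2] at e2; have := h3.1 k; omega
    · intro _; exact h
  · have k := key2 h
    constructor
    · intro h'; exact absurd h' (hne h)
    · intro hd
      exfalso
      rcases hsq q with hq | hq <;> rcases hsq r with hr | hr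
      · rw [hq, hr, one_mul, mul_one] at k
        have e3 : ¬ (q * r * (q * r) = 1) := by rw [k]; exact hz1
        rw [h3] at e3; have := h1.1 hq; have := h2.1 hr; omega
      · rw [hq, hr, one_mul, hzz] at k
        have e2 : ¬ (r * r = 1) := by rw [hr]; exact hz1
        rw [h2] at e2; have := h3.1 k; have := h1.1 hq; omega
      · rw [hq, hr, mul_one, hzz] at k
        have e1 : ¬ (q * q = 1) := by rw [hq]; exact hz1
        rw [h1] at e1; have := h3.1 k; have := h2.1 hr; omega
      · rw [hq, hr, hzz, mul_one] at k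
        have e3 : ¬ (q * r * (q * r) = 1) := by rw [k]; exact hz1
        have e1 : ¬ (q * q = 1) := by rw [hq]; exact hz1
        have e2 : ¬ (r * r = 1) := by rw [hr]; exact hz1
        rw [h1] at e1; rw [h2] at e2; rw [h3] at e3; omega

end

end Cfsg.Agent.Lib.Helper90
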