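import Mathlib
import Cfsg.Agent.Lib.Helper90.Monster16
import Cfsg.Agent.S0363

set_option autoImplicit false

namespace Cfsg.Agent.Lib.Helper90

open Cfsg Cfsg.Agent.Lib.Helper7 Cfsg.Agent.Lib.Helper54

theorem exists_octad_std : ∃ c : Finset GolayPt, c ∈ GC ∧ c.card = 8 ∧ none ∈ c ∧ some 0 ∈ c := by
  obtain ⟨b, ⟨hb, hs⟩, -⟩ := Cfsg.Agent.S0363.result.2
    ({none, some 0, some 1, some 2, some 3} : Finset GolayPt) (by decide)
  exact ⟨b, hb.1, hb.2, hs (by simp), hs (by simp)⟩

theorem const_mod_four_of_support {u : GolayPt → ℤ} (hu : u ∈ leechLattice) {c : Finset GolayPt}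
    (hc : c.card = 8) (h0 : ∀ j, j ∉ c → u j = 0) :
    (∀ i, (2 : ℤ) ∣ u i) ∧ ∀ i ∈ c, ∀ i' ∈ c, (4 : ℤ) ∣ u i - u i' := by
  rw [mem_leechLattice_iff] at hu
  obtain ⟨m, h1, -, h3⟩ := hu
  obtain ⟨j, -, hj⟩ : ∃ j ∈ (Finset.univ : Finset GolayPt), j ∉ c := by
    apply Finset.exists_mem_notMem_of_card_lt_card
    have : (Finset.univ : Finset GolayPt).card = 24 := by decide
    rw [this, hc]; norm_num
  have hm : (2 : ℤ) ∣ m := by
    have := h1 j
    rw [h0 j hj] at this
    unfold Int.ModEq at this
    omega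
  have heven : ∀ i, (2 : ℤ) ∣ u i := by
    intro i
    have := h1 i
    unfold Int.ModEq at this
    omega
  refine ⟨heven, ?_⟩
  have hS := h3 2
  have hSc : (Finset.univ.filter fun i => u i ≡ 2 [ZMOD 4]) ⊆ c := by
    intro i hi
    by_contra hic
    rw [Finset.mem_filter, h0 i hic] at hi
    have := hi.2
    unfold Int.ModEq at this
    omega
  have hle := Finset.card_le_card hSc
  have hcases : (Finset.univ.filter fun i => u i ≡ 2 [ZMOD 4]) = ∅ ∨
      (Finset.univ.filter fun i => u i ≡ 2 [ZMOD 4]) = c := by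
    rcases Cfsg.Agent.Lib.Helper92.card_of_mem_supports hS with h | h | h | h | h
    · left; exact Finset.card_eq_zero.mp h
    · right; exact Finset.eq_of_subset_of_card_le hSc (by rw [h, hc])
    · omega
    · omega
    · omega
  intro i hi i' hi'
  rcases hcases with h | h
  · have a1 : ¬ (u i ≡ 2 [ZMOD 4]) := by
      intro hh
      have : i ∈ (Finset.univ.filter fun i => u i ≡ 2 [ZMOD 4]) := by simp [hh]
      rw [h] at this
      simp at this
    have a2 : ¬ (u i' ≡ 2 [ZMOD 4]) := by
      intro hh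
      have : i' ∈ (Finset.univ.filter fun i => u i ≡ 2 [ZMOD 4]) := by simp [hh]
      rw [h] at this
      simp at this
    have b1 := heven i
    have b2 := heven i'
    unfold Int.ModEq at a1 a2
    omega
  · rw [← h] at hi hi'
    have a1 := (Finset.mem_filter.mp hi).2
    have a2 := (Finset.mem_filter.mp hi').2
    unfold Int.ModEq at a1 a2
    omega

theorem vecU_eq_sv : Spor.vecU = sv none (some 0) 4 4 := by
  funext p
  rw [sv_apply]
  unfold Spor.vecU
  by_cases h1 : p = none
  · subst h1; simp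
  · by_cases h2 : p = some 0
    · subst h2; simp
    · simp [h1, h2]

theorem dotInt_vecU (x : GolayPt → ℤ) : dotInt x Spor.vecU = x none * 4 + x (some 0) * 4 := by
  rw [vecU_eq_sv, dotInt_sv]

theorem sqNorm_vecU : sqNorm Spor.vecU = 32 := by
  rw [vecU_eq_sv, sqNorm_sv (by decide)]; norm_num

/-- a vector moved by all sign changes at most by `8 e_∞` modulo `2 Λ` is orthogonal to
`(4, 4, 0, …)` modulo `2`. -/
theorem perp_of_sign_cong (w : leechLattice)
    (h : ∀ (c : Finset GolayPt) (hc : c ∈ GC),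
      Cong (signCo0 c hc • w) w ∨ Cong (signCo0 c hc • w) (w + e8 none)) :
    (16 : ℤ) ∣ dotInt (w : GolayPt → ℤ) Spor.vecU := by
  obtain ⟨c, hc, hc8, hn, h0⟩ := exists_octad_std
  rw [dotInt_vecU]
  rcases h c hc with ⟨u, hu, hu2⟩ | ⟨u, hu, hu2⟩
  · have hval : ∀ i, 2 * u i = (if i ∈ c then -(w : GolayPt → ℤ) i else (w : GolayPt → ℤ) i) -
        (w : GolayPt → ℤ) i := by
      intro i
      have := congrFun hu2 i
      simp only [Pi.sub_apply, Pi.smul_apply, signCo0_smul, nsmul_eq_mul, Nat.cast_ofNat] at this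
      rw [← this]
    obtain ⟨h1, h2⟩ := const_mod_four_of_support hu hc8 (by
      intro j hj
      have := hval j
      rw [if_neg hj] at this
      omega)
    have a1 := hval none
    have a2 := hval (some 0)
    rw [if_pos hn] at a1
    rw [if_pos h0] at a2
    have a3 := h2 _ hn _ h0
    have a4 := h1 none
    have a5 := h1 (some 0)
    omega
  · have hval : ∀ i, 2 * u i = (if i ∈ c then -(w : GolayPt → ℤ) i else (w : GolayPt → ℤ) i) -
        ((w : GolayPt → ℤ) i + (if i = none then 8 else 0)) := by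
      intro i
      have := congrFun hu2 i
      simp only [Pi.sub_apply, Pi.smul_apply, signCo0_smul, nsmul_eq_mul, Nat.cast_ofNat,
        AddSubgroup.coe_add, Pi.add_apply, e8_apply] at this
      rw [← this]
    obtain ⟨h1, h2⟩ := const_mod_four_of_support hu hc8 (by
      intro j hj
      have := hval j
      have hjn : j ≠ none := by rintro rfl; exact hj hn
      rw [if_neg hj, if_neg hjn] at this
      omega)
    have a1 := hval none
    have a2 := hval (some 0)
    rw [if_pos hn, if_pos rfl] at a1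
    rw [if_pos h0, if_neg (by decide)] at a2
    have a3 := h2 _ hn _ h0
    have a4 := h1 none
    have a5 := h1 (some 0)
    omega

end Cfsg.Agent.Lib.Helper90
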