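import Mathlib
import Cfsg.Agent.Lib.Helper90.Monster17

set_option autoImplicit false

namespace Cfsg.Agent.Lib.Helper90

open Cfsg Cfsg.Agent.Lib.Helper7 Cfsg.Agent.Lib.Helper54

variable {G : Type*} [Group G] {z : G}

section

variable {Q : Subgroup (Subgroup.centralizer ({z} : Set G))} [Q.Normal]
  {e : (Subgroup.centralizer ({z} : Set G)) ⧸ Q ≃* Spor.Co1}
  {ψ : leechLattice → Q ⧸ Subgroup.center Q}

/-- the normal `2`-subgroup of order `2^11` of the stabiliser of an element of type `4` is the image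
of the group of sign changes. -/
theorem structure_type64_eq [Finite G] (hMon : MonHyp)
    (hES : ES Q (⟨z, z_mem_centralizer z⟩ : Subgroup.centralizer ({z} : Set G)))
    (hψ : IsLeechModTwoIso Q e ψ) (x : Q) (hx8 : ψ (e8 none) = QuotientGroup.mk x)
    (hxc : x ∉ Subgroup.center Q)
    (X E : Subgroup ((Subgroup.centralizer ({z} : Set G)) ⧸ Q))
    (hX : ∀ y, y ∈ X ↔ ∃ h : Subgroup.centralizer ({z} : Set G), h * x * h⁻¹ = x ∧
      QuotientGroup.mk h = y)
    (hEX : E ≤ X) (hEn : ∀ y ∈ X, ∀ t ∈ E, y * t * y⁻¹ ∈ E) (hE2 : IsPGroup 2 E)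
    (hEcard : 2 ^ 11 ≤ Nat.card E) : E = signGroup.map (theta e) := by
  have hXn : ∀ y, y ∈ X ↔ ∃ n : Co0, Cong (n • e8 none) (e8 none) ∧ theta e n = y := by
    intro y
    rw [hX]
    constructor
    · rintro ⟨h, hh, rfl⟩
      obtain ⟨n, hn⟩ := theta_surjective (e := e) (QuotientGroup.mk h)
      refine ⟨n, ?_, hn⟩
      apply congr_of_psi_eq hψ
      rw [theta_psi hψ hn, hx8, conjQuot_mk]
      congr 1
      exact Subtype.ext hh
    · rintro ⟨n, hn, rfl⟩
      obtain ⟨h, hh⟩ := QuotientGroup.mk_surjective (theta e n)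
      have h1 : conjQuot Q h (QuotientGroup.mk x) = QuotientGroup.mk x := by
        rw [← hx8, ← theta_psi hψ hh.symm]
        exact psi_congr hψ hn
      obtain ⟨h1, hh1, hh1x⟩ := exists_centralizing_rep hES x hxc h h1
      exact ⟨h1, hh1x, by rw [hh1, hh]⟩
  obtain ⟨D, hD⟩ : ∃ D, D = signGroup.map (theta e) := ⟨_, rfl⟩
  obtain ⟨κ, hκ⟩ : ∃ κ, κ = (theta e).comp permHom := ⟨_, rfl⟩
  have hκa : ∀ σ, κ σ = theta e (permCo0 σ) := by intro σ; rw [hκ]; rfl
  have hDX : D ≤ X := by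
    rw [hD]
    rintro _ ⟨_, ⟨c, hc, rfl⟩, rfl⟩
    exact (hXn _).2 ⟨_, cong_sign c hc none, rfl⟩
  have hKX : κ.range ≤ X := by
    rintro _ ⟨σ, rfl⟩
    rw [hκa]
    exact (hXn _).2 ⟨_, cong_perm σ none, rfl⟩
  have decomp : ∀ y ∈ X, ∃ d ∈ D, ∃ k ∈ κ.range, y = d * k := by
    intro y hy
    obtain ⟨n, hn, rfl⟩ := (hXn y).1 hy
    obtain ⟨c, hc, σ, rfl⟩ := monomial_of_cong hMon n none hn
    refine ⟨theta e (signCo0 c hc), ?_, κ σ, ⟨σ, rfl⟩, ?_⟩
    · rw [hD]; exact ⟨_, ⟨c, hc, rfl⟩, rfl⟩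
    · rw [map_mul, hκa]
  have hκinj : Function.Injective κ := by
    rw [injective_iff_map_eq_one]
    intro σ hσ
    rw [hκa, theta_eq_one_iff hψ] at hσ
    apply perm_eq_one_of_mem_signGroup
    rcases hσ with h | h
    · rw [h]; exact signGroup.one_mem
    · rw [h]; exact ⟨_, _, signCo0_univ.symm⟩
  have hKD : ∀ k ∈ κ.range, ∀ d ∈ D, k * d * k⁻¹ ∈ D := by
    rintro _ ⟨σ, rfl⟩ d hd
    rw [hD] at hd ⊢
    obtain ⟨_, ⟨c, hc, rfl⟩, rfl⟩ := hd
    refine ⟨_, ⟨_, Cfsg.Agent.Lib.Helper27.smul_mem_supports σ.2 hc, rfl⟩, ?_⟩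
    rw [hκa, ← map_mul, perm_mul_sign, map_mul, mul_assoc, mul_inv_cancel, mul_one]
  have hD2 : IsPGroup 2 D := by rw [hD]; exact isPGroup_signGroup.map _
  have hW2 : IsPGroup 2 (D ⊔ E : Subgroup _) := by
    apply IsPGroup.to_sup_of_normal_right' hD2 hE2
    intro d hd
    exact mem_normalizer_of_conj_mem E d (hEn d (hDX hd))
  have hKW : ∀ k ∈ κ.range, ∀ w ∈ D ⊔ E, k * w * k⁻¹ ∈ D ⊔ E := by
    intro k hk w hw
    have h1 : (D ⊔ E).map (MulAut.conj k).toMonoidHom ≤ D ⊔ E := by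
      rw [Subgroup.map_sup]
      apply sup_le_sup
      · rintro _ ⟨d, hd, rfl⟩
        exact hKD k hk d hd
      · rintro _ ⟨t, ht, rfl⟩
        exact hEn k (hKX hk) t ht
    exact h1 ⟨w, hw, rfl⟩
  have hsimple : IsSimpleGroup κ.range := by
    have := Cfsg.Agent.S0365.result
    exact (MonoidHom.ofInjective hκinj).symm.isSimpleGroup
  have hT : (D ⊔ E) ⊓ κ.range = ⊥ := by
    have hn : (((D ⊔ E) ⊓ κ.range).subgroupOf κ.range).Normal := by
      constructor
      intro t ht k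
      rw [Subgroup.mem_subgroupOf] at ht ⊢
      refine ⟨?_, (k * t * k⁻¹).2⟩
      simp only [Subgroup.coe_mul, InvMemClass.coe_inv]
      exact hKW k k.2 t ht.1
    rcases hn.eq_bot_or_eq_top with h | h
    · rw [Subgroup.subgroupOf_eq_bot] at h
      have := h.eq_bot
      rw [inf_assoc, inf_idem] at this
      exact this
    · exfalso
      rw [Subgroup.subgroupOf_eq_top] at h
      have h2 : IsPGroup 2 κ.range := hW2.to_le (h.trans inf_le_left)
      exact not_isPGroup_M24 (h2.of_equiv (MonoidHom.ofInjective hκinj).symm)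
  have hED : E ≤ D := by
    intro y hy
    obtain ⟨d, hd, k, hk, rfl⟩ := decomp y (hEX hy)
    have h1 : k ∈ (D ⊔ E) ⊓ κ.range := by
      refine ⟨?_, hk⟩
      have : k = d⁻¹ * (d * k) := by group
      rw [this]
      exact Subgroup.mul_mem _ (Subgroup.mem_sup_left (D.inv_mem hd)) (Subgroup.mem_sup_right hy)
    rw [hT, Subgroup.mem_bot] at h1
    rw [h1, mul_one]; exact hd
  have hDcard : Nat.card D ≤ 2 ^ 11 := by rw [hD]; exact card_map_signGroup_le hψ
  have hEDeq : E = D := Subgroup.eq_of_le_of_card_ge hED (hDcard.trans hEcard)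
  rw [hEDeq, hD]

/-- an involution of `Q` which is not conjugate to `z` is of type `2`. -/
theorem type32_of_nonconj [Finite G] (hM : IsOfMonsterType z Q) (hψ : IsLeechModTwoIso Q e ψ)
    (t : Q) (ht2 : t * t = 1) (ht1 : t ≠ 1)
    (hnc : ¬ IsConj z ((t : Subgroup.centralizer ({z} : Set G)) : G)) : HasType ψ t 32 := by
  have hES := es_of_setting hM.1
  rcases exists_type hψ t with h | h | h | h
  · exfalso
    rcases center_cases hES t h with h1 | h1
    · exact ht1 (Subtype.ext (Subtype.ext h1))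
    · apply hnc; rw [h1]
  · exact h
  · exfalso
    apply sq_ne_one_of_type48 leechTrans hM.1 hψ t h
    rw [pow_two]; exact ht2
  · exfalso
    exact hnc ((monster_conj_iff_type64 leechTrans Q hM e ψ hψ t).2 h).1

end

end Cfsg.Agent.Lib.Helper90
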