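import Mathlib
import Cfsg.Agent.Lib.Helper90.Monster18

set_option autoImplicit false

namespace Cfsg.Agent.Lib.Helper90

open Cfsg Cfsg.Agent.Lib.Helper7 Cfsg.Agent.Lib.Helper54

variable {G : Type*} [Group G] {z : G}

/-- `Q ∩ Q^g` contains an involution which is not conjugate to `z`. -/
theorem exists_type32_inf [Finite G]
    (Q : Subgroup (Subgroup.centralizer ({z} : Set G))) [Q.Normal] (hM : IsOfMonsterType z Q)
    (t : Q) (ht2 : t * t = 1) (ht1 : t ≠ 1)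
    (hnc : ¬ IsConj z ((t : Subgroup.centralizer ({z} : Set G)) : G))
    (s : G) (hsc : s ∈ Subgroup.centralizer ({z} : Set G))
    (hsQ : (⟨s, hsc⟩ : Subgroup.centralizer ({z} : Set G)) ∈ Q) (hs1 : s ≠ z)
    (g : G) (hg : g * z * g⁻¹ = s) :
    ∃ t' : Q, t' * t' = 1 ∧ t' ≠ 1 ∧ ¬ IsConj z ((t' : Subgroup.centralizer ({z} : Set G)) : G) ∧
      ((t' : Subgroup.centralizer ({z} : Set G)) : G) ∈
        (Q.map (Subgroup.centralizer ({z} : Set G)).subtype).map (MulAut.conj g).toMonoidHom := by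
  have hs : IsConj z s := isConj_iff.mpr ⟨g, hg⟩
  obtain ⟨P, hP⟩ : ∃ P : Subgroup (Subgroup.centralizer ({z} : Set G)),
    P = ((Q.map (Subgroup.centralizer ({z} : Set G)).subtype).map
      (MulAut.conj g).toMonoidHom).subgroupOf (Subgroup.centralizer ({z} : Set G)) := ⟨_, rfl⟩
  obtain ⟨X, hX⟩ : ∃ X : Subgroup ((Subgroup.centralizer ({z} : Set G)) ⧸ Q),
    X = ((Subgroup.centralizer ({z} : Set G) ⊓ Subgroup.centralizer ({s} : Set G)).subgroupOf
      (Subgroup.centralizer ({z} : Set G))).map (QuotientGroup.mk' Q) := ⟨_, rfl⟩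
  obtain ⟨E, hE⟩ : ∃ E : Subgroup ((Subgroup.centralizer ({z} : Set G)) ⧸ Q),
    E = P.map (QuotientGroup.mk' Q) := ⟨_, rfl⟩
  obtain ⟨hcardE0, hEX, hEn, -, hE11, -⟩ :=
    monster_pair_core leechTrans monHyp Q hM s ⟨hsc, hsQ⟩ hs hs1 g hg P hP X E hX hE
  have hM' := hM
  obtain ⟨hset, e, ψ, hψ⟩ := hM
  have hESC := es_of_setting hset
  obtain ⟨x, hx⟩ : ∃ x : Q, x = ⟨⟨s, hsc⟩, hsQ⟩ := ⟨_, rfl⟩
  have hxs : ((x : Subgroup.centralizer ({z} : Set G)) : G) = s := by rw [hx]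
  obtain ⟨hxc, hx64⟩ := type64_of_conj leechTrans hset hψ x (by rw [hxs]; exact hs)
    (by rw [hxs]; exact hs1)
  obtain ⟨e', ψ', hψ', hx8⟩ := exists_iso_std hψ x hx64
  have hset' := hset
  obtain ⟨hz, hF, hQ, hcard, -⟩ := hset
  obtain ⟨z', hES', -⟩ := ES.of_isExtraspecial hQ
  have hQ₀ : Cfsg.IsExtraspecial 2 ↥(Q.map (Subgroup.centralizer ({z} : Set G)).subtype) :=
    (ES.map_subtype hES').isExtraspecial
  have hF' : (Cfsg.generalizedFittingSubgroup ↥(Subgroup.centralizer ({z} : Set G))).map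
      (Subgroup.centralizer ({z} : Set G)).subtype =
      Q.map (Subgroup.centralizer ({z} : Set G)).subtype := by rw [hF]
  obtain ⟨hES, hL2, hL3⟩ := setting_of_genFitting z hz _ hF' hQ₀
  have hsQ' : g * z * g⁻¹ ∈ Q.map (Subgroup.centralizer ({z} : Set G)).subtype :=
    ⟨x, x.2, by rw [hg]; exact hxs⟩
  have hpd := PairData.of_large hES hL2 hL3 g hsQ' (by rw [hg]; exact hs1)
  rw [hg] at hpd
  obtain ⟨Q'', hQ''⟩ : ∃ Q'' : Subgroup G, Q'' =
    (Q.map (Subgroup.centralizer ({z} : Set G)).subtype).map (MulAut.conj g).toMonoidHom := ⟨_, rfl⟩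
  rw [← hQ''] at hpd hP ⊢
  have memP : ∀ r : Subgroup.centralizer ({z} : Set G), r ∈ P ↔ (r : G) ∈ Q'' := by
    intro r; rw [hP, Subgroup.mem_subgroupOf]
  have hP2 : IsPGroup 2 P := by rw [hP]; exact hpd.es'.two.comap_subtype
  have memQ' : ∀ r : Subgroup.centralizer ({z} : Set G), r ∈ Q →
      (r : G) ∈ Q.map (Subgroup.centralizer ({z} : Set G)).subtype := fun r hr => ⟨r, hr, rfl⟩
  have hXmem : ∀ y, y ∈ X ↔ ∃ h : Subgroup.centralizer ({z} : Set G), h * x * h⁻¹ = x ∧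
      QuotientGroup.mk h = y := by
    intro y
    rw [hX]
    constructor
    · rintro ⟨h, hh, rfl⟩
      refine ⟨h, ?_, rfl⟩
      have h1 : (h : G) ∈ Subgroup.centralizer ({s} : Set G) := (Subgroup.mem_subgroupOf.mp hh).2
      rw [Subgroup.mem_centralizer_singleton_iff] at h1
      apply Subtype.ext
      simp only [Subgroup.coe_mul, InvMemClass.coe_inv]
      rw [hxs, h1]; group
    · rintro ⟨h, hh, rfl⟩
      refine ⟨h, ?_, rfl⟩
      rw [SetLike.mem_coe, Subgroup.mem_subgroupOf]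
      refine ⟨h.2, ?_⟩
      apply Subgroup.mem_centralizer_singleton_iff.mpr
      have h1 := congrArg Subtype.val hh
      simp only [Subgroup.coe_mul, InvMemClass.coe_inv] at h1
      rw [hxs] at h1
      calc (h : G) * s = ((h : G) * s * (h : G)⁻¹) * h := by group
        _ = s * h := by rw [h1]
  have hE2 : IsPGroup 2 E := by rw [hE]; exact hP2.map _
  have hED := structure_type64_eq monHyp hESC hψ' x hx8 hxc X E hXmem hEX hEn hE2 (by rw [hE11])
  obtain ⟨t', ht'⟩ := QuotientGroup.mk_surjective (ψ' Spor.leechU)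
  have h32' : HasType ψ' t' 32 := ⟨Spor.leechU, sqNorm_vecU, ht'.symm⟩
  have h32t : HasType ψ' t 32 := type32_of_nonconj hM' hψ' t ht2 ht1 hnc
  have hcomm : ∀ y : Q, (y : Subgroup.centralizer ({z} : Set G)) ∈ P → y * t' = t' * y := by
    intro y hy
    obtain ⟨w, hw⟩ := hψ'.2.1 (QuotientGroup.mk y)
    rw [comm_formula hM' hψ' t h32t ht2 w Spor.leechU y t' hw ht'.symm]
    apply perp_of_sign_cong
    intro c hc
    have h1 : theta e' (signCo0 c hc) ∈ E := by rw [hED]; exact ⟨_, ⟨c, hc, rfl⟩, rfl⟩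
    rw [hE] at h1
    obtain ⟨r, hr, hr'⟩ := h1
    have h2 := theta_psi hψ' hr'.symm w
    rw [hw, conjQuot_mk] at h2
    rcases hpd.es'.conj_eq ((memP r).1 hr) ((memP y).1 hy) with h3 | h3
    · left
      apply congr_of_psi_eq hψ'
      rw [h2, hw]
      congr 1
      exact Subtype.ext (Subtype.ext h3)
    · right
      apply congr_of_psi_eq hψ'
      rw [h2, add_comm, hψ'.1, hw, hx8, ← QuotientGroup.mk_mul]
      congr 1
      apply Subtype.ext
      apply Subtype.ext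
      simp only [Subgroup.coe_mul]
      rw [hxs]
      exact h3
  -- maximality of `Q ∩ Q^g`
  obtain ⟨B, hB⟩ : ∃ B : Subgroup Q, B = (Q ⊓ P).subgroupOf Q := ⟨_, rfl⟩
  have memB : ∀ y : Q, y ∈ B ↔ (y : Subgroup.centralizer ({z} : Set G)) ∈ P := by
    intro y
    rw [hB, Subgroup.mem_subgroupOf]
    exact ⟨fun h => h.2, fun h => ⟨y.2, h⟩⟩
  have hBcard : Nat.card B = 2 ^ 13 := by
    rw [hB, Nat.card_congr (Subgroup.subgroupOfEquivOfLe (inf_le_left : Q ⊓ P ≤ Q)).toEquiv]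
    exact hcardE0
  have hBle : B ≤ Subgroup.centralizer (B : Set Q) := by
    intro a ha
    rw [Subgroup.mem_centralizer_iff]
    intro b hb
    apply Subtype.ext
    apply Subtype.ext
    exact hpd.E_comm ⟨memQ' _ b.2, (memP _).1 ((memB b).1 hb)⟩ ⟨memQ' _ a.2, (memP _).1 ((memB a).1 ha)⟩
  have hcc := Cfsg.Agent.Lib.Helper48.card_mul_card_centralizer hQ B
  have h2 : Nat.card (B ⊓ Subgroup.center Q : Subgroup Q) ≤ 2 := by
    rw [← hQ.2]
    exact Subgroup.card_le_of_le inf_le_right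
  have hCcard : Nat.card (Subgroup.centralizer (B : Set Q)) ≤ Nat.card B := by
    rw [hBcard] at hcc ⊢
    rw [hcard] at hcc
    have h3 : 2 ^ 13 * Nat.card (Subgroup.centralizer (B : Set Q)) ≤ 2 ^ (2 * 12 + 1) * 2 := by
      rw [hcc]; exact Nat.mul_le_mul_left _ h2
    norm_num at h3 ⊢
    omega
  have hBeq : B = Subgroup.centralizer (B : Set Q) := Subgroup.eq_of_le_of_card_ge hBle hCcard
  have ht'B : t' ∈ B := by
    rw [hBeq, Subgroup.mem_centralizer_iff]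
    intro b hb
    exact hcomm b ((memB b).1 hb)
  have ht'P := (memP _).1 ((memB t').1 ht'B)
  have ht'c : t' ∉ Subgroup.center Q := fun h => not_hasType_of_center hψ' h (Or.inl rfl) h32'
  refine ⟨t', ?_, ?_, ?_, ht'P⟩
  · apply Subtype.ext
    apply Subtype.ext
    exact hpd.E_sq ⟨memQ' _ t'.2, ht'P⟩
  · intro h
    apply ht'c
    rw [h]; exact Subgroup.one_mem _
  · intro hconj
    refine not_type32 hset' hψ' t' hconj ?_ h32'
    intro h
    apply ht'c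
    rw [Subgroup.mem_center_iff]
    intro q
    apply Subtype.ext
    have h4 : (t' : Subgroup.centralizer ({z} : Set G)) = ⟨z, z_mem_centralizer z⟩ := Subtype.ext h
    simp only [Subgroup.coe_mul]
    rw [h4]
    exact hESC.z_comm q q.2

/-- `z` is not weakly closed in `Q` with respect to the centralizer of an involution of `Q` which
is not conjugate to `z`. -/
theorem exists_conj_in_centralizer [Finite G]
    (Q : Subgroup (Subgroup.centralizer ({z} : Set G))) [Q.Normal] (hM : IsOfMonsterType z Q)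
    (t : G) (htQ : ∃ htc : t ∈ Subgroup.centralizer ({z} : Set G),
      (⟨t, htc⟩ : Subgroup.centralizer ({z} : Set G)) ∈ Q)
    (ht2 : orderOf t = 2) (ht : ¬ IsConj z t) :
    ∃ g : G, g * t = t * g ∧ (∃ hc : g * z * g⁻¹ ∈ Subgroup.centralizer ({z} : Set G),
      (⟨g * z * g⁻¹, hc⟩ : Subgroup.centralizer ({z} : Set G)) ∈ Q) ∧ g * z * g⁻¹ ≠ z := by
  obtain ⟨htc, htQ'⟩ := htQ
  obtain ⟨g0, ⟨hsc, hsQ⟩, hs1⟩ := hM.1.2.2.2.2
  have ht1 : t ≠ 1 := by
    intro h; rw [h, orderOf_one] at ht2; omega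
  obtain ⟨t', ht'2, ht'1, ht'nc, ht'Q⟩ := exists_type32_inf Q hM ⟨⟨t, htc⟩, htQ'⟩
    (Subtype.ext (Subtype.ext (sq_of_orderOf_two ht2)))
    (fun h => ht1 (congrArg (fun w : Q => ((w : Subgroup.centralizer ({z} : Set G)) : G)) h)) ht
    (g0 * z * g0⁻¹) hsc hsQ hs1 g0 rfl
  obtain ⟨τ, hτ⟩ : ∃ τ : G, τ = ((t' : Subgroup.centralizer ({z} : Set G)) : G) := ⟨_, rfl⟩
  rw [← hτ] at ht'nc ht'Q
  have hττ : τ * τ = 1 := by
    rw [hτ]
    exact congrArg (fun w : Q => ((w : Subgroup.centralizer ({z} : Set G)) : G)) ht'2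
  have hτ1 : τ ≠ 1 := by
    intro h
    apply ht'1
    apply Subtype.ext
    apply Subtype.ext
    rw [← hτ, h]; rfl
  have hτo : orderOf τ = 2 := orderOf_eq_prime (by rw [pow_two]; exact hττ) hτ1
  have hτQ : ∃ hc : τ ∈ Subgroup.centralizer ({z} : Set G),
      (⟨τ, hc⟩ : Subgroup.centralizer ({z} : Set G)) ∈ Q := by
    rw [hτ]; exact ⟨(t' : Subgroup.centralizer ({z} : Set G)).2, t'.2⟩
  -- the element `g0⁻¹ τ g0` of `Q`
  obtain ⟨_, ⟨r, hr, rfl⟩, hrτ⟩ := ht'Q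
  have hrτ' : g0 * (r : G) * g0⁻¹ = τ := hrτ
  have hro : orderOf (r : G) = 2 := by
    have h1 : (r : G) = g0⁻¹ * τ * g0 := by rw [← hrτ']; group
    apply orderOf_eq_prime
    · rw [pow_two, h1]
      calc g0⁻¹ * τ * g0 * (g0⁻¹ * τ * g0) = g0⁻¹ * (τ * τ) * g0 := by group
        _ = 1 := by rw [hττ]; group
    · intro h
      apply hτ1
      rw [← hrτ', h]; group
  have hrnc : ¬ IsConj z (r : G) := by
    intro h
    apply ht'nc
    exact h.trans (isConj_iff.mpr ⟨g0, hrτ'⟩)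
  obtain ⟨h, hh, hhr⟩ := monster_transitive_nonconj leechTrans Q hM (r : G) τ ⟨r.2, hr⟩ hτQ hro hτo
    hrnc ht'nc
  obtain ⟨k, hk, hkτ⟩ := monster_transitive_nonconj leechTrans Q hM τ t hτQ ⟨htc, htQ'⟩ hτo ht2
    ht'nc ht
  have hhz : h * z = z * h := Subgroup.mem_centralizer_singleton_iff.mp hh
  have hkz : k * z = z * k := Subgroup.mem_centralizer_singleton_iff.mp hk
  have hhz' : h⁻¹ * z * h = z := by
    calc h⁻¹ * z * h = h⁻¹ * (z * h) := by group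
      _ = z := by rw [← hhz]; group
  have hkz' : k⁻¹ * z * k = z := by
    calc k⁻¹ * z * k = k⁻¹ * (z * k) := by group
      _ = z := by rw [← hkz]; group
  have hconj : (k * (g0 * h⁻¹) * k⁻¹) * z * (k * (g0 * h⁻¹) * k⁻¹)⁻¹ = k * (g0 * z * g0⁻¹) * k⁻¹ := by
    calc (k * (g0 * h⁻¹) * k⁻¹) * z * (k * (g0 * h⁻¹) * k⁻¹)⁻¹
        = k * (g0 * (h⁻¹ * (k⁻¹ * z * k) * h) * g0⁻¹) * k⁻¹ := by group
      _ = k * (g0 * z * g0⁻¹) * k⁻¹ := by rw [hkz', hhz']
  refine ⟨k * (g0 * h⁻¹) * k⁻¹, ?_, ?_, ?_⟩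
  · have h1 : (g0 * h⁻¹) * τ = τ * (g0 * h⁻¹) := by
      calc g0 * h⁻¹ * τ = g0 * h⁻¹ * (h * (r : G) * h⁻¹) := by rw [hhr]
        _ = (g0 * (r : G) * g0⁻¹) * (g0 * h⁻¹) := by group
        _ = τ * (g0 * h⁻¹) := by rw [hrτ']
    calc k * (g0 * h⁻¹) * k⁻¹ * t = k * (g0 * h⁻¹) * k⁻¹ * (k * τ * k⁻¹) := by rw [hkτ]
      _ = k * ((g0 * h⁻¹) * τ) * k⁻¹ := by group
      _ = (k * τ * k⁻¹) * (k * (g0 * h⁻¹) * k⁻¹) := by rw [h1]; group
      _ = t * (k * (g0 * h⁻¹) * k⁻¹) := by rw [hkτ]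
  · rw [hconj]
    have h1 := (inferInstance : Q.Normal).conj_mem _ hsQ ⟨k, hk⟩
    exact ⟨(⟨k, hk⟩ * ⟨g0 * z * g0⁻¹, hsc⟩ * (⟨k, hk⟩ : Subgroup.centralizer ({z} : Set G))⁻¹).2, h1⟩
  · rw [hconj]
    intro h1
    apply hs1
    calc g0 * z * g0⁻¹ = k⁻¹ * (k * (g0 * z * g0⁻¹) * k⁻¹) * k := by group
      _ = z := by rw [h1, hkz']

end Cfsg.Agent.Lib.Helper90
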