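import Mathlib
import Cfsg.Agent.Lib.Helper90.Monster19

set_option autoImplicit false

namespace Cfsg.Agent.Lib.Helper90

open Cfsg Cfsg.Agent.Lib.Helper7 Cfsg.Agent.Lib.Helper54

variable {G : Type*} [Group G] {z : G}

section

variable {Q : Subgroup (Subgroup.centralizer ({z} : Set G))} [Q.Normal]
  {e : (Subgroup.centralizer ({z} : Set G)) ⧸ Q ≃* Spor.Co1}
  {ψ : leechLattice → Q ⧸ Subgroup.center Q}

theorem sqNorm_leechU : sqNorm ((Spor.leechU : leechLattice) : GolayPt → ℤ) = 32 := sqNorm_vecU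

/-- an identification for which a given element of type `2` corresponds to `(4, 4, 0, …)`. -/
theorem exists_iso_std32 (hψ : IsLeechModTwoIso Q e ψ) (x : Q) (hx : HasType ψ x 32) :
    ∃ (e' : (Subgroup.centralizer ({z} : Set G)) ⧸ Q ≃* Spor.Co1)
      (ψ' : leechLattice → Q ⧸ Subgroup.center Q), IsLeechModTwoIso Q e' ψ' ∧
        ψ' Spor.leechU = QuotientGroup.mk x := by
  obtain ⟨v, hv, hvx⟩ := hx
  obtain ⟨a, ha⟩ := co0_trans_min v Spor.leechU hv sqNorm_leechU
  refine ⟨_, _, isLeechModTwoIso_twist hψ a, ?_⟩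
  show ψ (a⁻¹ • Spor.leechU) = _
  rw [← ha, inv_smul_smul, hvx]

/-- an element of `C` fixing the class of a minimal vector `v` and the classes of all minimal
vectors orthogonal to `v` lies in `Q`. -/
theorem mem_of_fix_perp (hψ : IsLeechModTwoIso Q e ψ) (v : leechLattice)
    (hv : sqNorm (v : GolayPt → ℤ) = 32) (r : Subgroup.centralizer ({z} : Set G))
    (hrv : conjQuot Q r (ψ v) = ψ v)
    (hfix : ∀ w : leechLattice, sqNorm (w : GolayPt → ℤ) = 32 →
      dotInt (v : GolayPt → ℤ) (w : GolayPt → ℤ) = 0 → conjQuot Q r (ψ w) = ψ w) : r ∈ Q := by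
  obtain ⟨n, hn⟩ := exists_lift e r
  have h1 := pm_one_of_fix_pairs co0_trans_min v hv n (by
    apply pm_of_psi_eq hψ hv (by rw [co0_sqNorm]; exact hv)
    rw [psi_smul hψ hn, hrv]) (by
    intro w hw hd
    apply pm_of_psi_eq hψ hw (by rw [co0_sqNorm]; exact hw)
    rw [psi_smul hψ hn, hfix w hw hd])
  have h2 : (QuotientGroup.mk n : Spor.Co1) = 1 := by
    rw [QuotientGroup.eq_one_iff]
    rcases h1 with h1 | h1
    · rw [h1]; exact Subgroup.one_mem _
    · rw [h1]; exact negCo0_mem_center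
  rw [h2] at hn
  have h3 : (QuotientGroup.mk r : (Subgroup.centralizer ({z} : Set G)) ⧸ Q) = 1 := by
    apply e.injective
    rw [← hn, map_one]
  exact (QuotientGroup.eq_one_iff r).mp h3

/-- the inclusion of `Co2` in `Co0`. -/
def co2Incl : Spor.Co2 →* Co0 := Subgroup.inclusion inf_le_left

theorem co2Incl_smul (n : Spor.Co2) (v : leechLattice) : co2Incl n • v = n • v := rfl

theorem co2_smul_leechU (n : Spor.Co2) : n • Spor.leechU = Spor.leechU := n.2.2

theorem leechU_ne_neg : (Spor.leechU : leechLattice) ≠ - Spor.leechU := by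
  intro h
  have h1 := congrArg (fun w : leechLattice => (w : GolayPt → ℤ) none) h
  simp only [AddSubgroup.coe_neg, Pi.neg_apply] at h1
  have h2 : ((Spor.leechU : leechLattice) : GolayPt → ℤ) none = 4 := by
    show Spor.vecU none = 4
    simp [Spor.vecU]
  rw [h2] at h1
  omega

theorem mem_centralizer_singleton_iff' {C : Type*} [Group C] (t a : C) :
    a ∈ Subgroup.centralizer ({t} : Set C) ↔ a * t * a⁻¹ = t := by
  rw [Subgroup.mem_centralizer_singleton_iff]
  constructor
  · intro h; rw [h]; group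
  · intro h
    calc a * t = (a * t * a⁻¹) * a := by group
      _ = t * a := by rw [h]

/-- the epimorphism from `C_C(t)` onto `Co2`, for `t` of type `2`. -/
theorem exists_co2_hom [Finite G]
    (hES : ES Q (⟨z, z_mem_centralizer z⟩ : Subgroup.centralizer ({z} : Set G)))
    (hψ : IsLeechModTwoIso Q e ψ) (t : Q) (hu : ψ Spor.leechU = QuotientGroup.mk t) :
    ∃ κ : ↥(Subgroup.centralizer ({(t : Subgroup.centralizer ({z} : Set G))} :
        Set (Subgroup.centralizer ({z} : Set G)))) →* Spor.Co2,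
      Function.Surjective κ ∧
      (∀ a, κ a = 1 ↔ (a : Subgroup.centralizer ({z} : Set G)) ∈ Q) ∧
      ∀ a, theta e (co2Incl (κ a)) = QuotientGroup.mk (a : Subgroup.centralizer ({z} : Set G)) := by
  have htc : t ∉ Subgroup.center Q := fun h =>
    not_hasType_of_center hψ h (Or.inl rfl) ⟨Spor.leechU, sqNorm_leechU, hu⟩
  obtain ⟨μ, hμ⟩ : ∃ μ : Spor.Co2 →* (Subgroup.centralizer ({z} : Set G)) ⧸ Q,
    μ = (theta e).comp co2Incl := ⟨_, rfl⟩
  have hμa : ∀ n, μ n = theta e (co2Incl n) := by intro n; rw [hμ]; rfl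
  have hμinj : Function.Injective μ := by
    rw [injective_iff_map_eq_one]
    intro n hn
    rw [hμa, theta_eq_one_iff hψ] at hn
    rcases hn with h | h
    · apply Subtype.ext
      exact congrArg (fun w : Co0 => (w : Equiv.Perm leechLattice)) h
    · exfalso
      have h1 := co2_smul_leechU n
      rw [← co2Incl_smul, h, negCo0_smul] at h1
      exact leechU_ne_neg h1.symm
  obtain ⟨ν, hν⟩ : ∃ ν : ↥(Subgroup.centralizer ({(t : Subgroup.centralizer ({z} : Set G))} :
      Set (Subgroup.centralizer ({z} : Set G)))) →* (Subgroup.centralizer ({z} : Set G)) ⧸ Q,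
    ν = (QuotientGroup.mk' Q).comp (Subgroup.subtype _) := ⟨_, rfl⟩
  have hνa : ∀ a, ν a = QuotientGroup.mk (a : Subgroup.centralizer ({z} : Set G)) := by
    intro a; rw [hν]; rfl
  have hmem : ∀ a, ν a ∈ μ.range := by
    intro a
    obtain ⟨n, hn⟩ := theta_surjective (e := e)
      (QuotientGroup.mk (a : Subgroup.centralizer ({z} : Set G)))
    have ha := (mem_centralizer_singleton_iff' _ _).1 a.2
    have h1 : ψ (n • Spor.leechU) = ψ Spor.leechU := by
      rw [theta_psi hψ hn, hu, conjQuot_mk]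
      congr 1
      exact Subtype.ext ha
    rcases pm_of_psi_eq hψ sqNorm_leechU (by rw [co0_sqNorm]; exact sqNorm_leechU) h1 with h2 | h2
    · refine ⟨⟨n.1, n.2, h2⟩, ?_⟩
      rw [hμa, hνa, ← hn]
      rfl
    · have h3 : (negCo0 * n) • Spor.leechU = Spor.leechU := by
        rw [mul_smul, h2, negCo0_smul, neg_neg]
      refine ⟨⟨(negCo0 * n).1, (negCo0 * n).2, h3⟩, ?_⟩
      rw [hμa, hνa, ← hn]
      have h4 : theta e (negCo0 * n) = theta e n := by
        rw [map_mul, (theta_eq_one_iff hψ negCo0).2 (Or.inr rfl), one_mul]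
      rw [← h4]
      rfl
  obtain ⟨κ, hκ⟩ : ∃ κ : ↥(Subgroup.centralizer ({(t : Subgroup.centralizer ({z} : Set G))} :
      Set (Subgroup.centralizer ({z} : Set G)))) →* Spor.Co2,
    κ = (MonoidHom.ofInjective hμinj).symm.toMonoidHom.comp (ν.codRestrict μ.range hmem) := ⟨_, rfl⟩
  have hκμ : ∀ a, μ (κ a) = ν a := by
    intro a
    have h1 : MonoidHom.ofInjective hμinj (κ a) = ν.codRestrict μ.range hmem a := by
      rw [hκ]
      exact MulEquiv.apply_symm_apply _ _
    have h2 := congrArg Subtype.val h1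
    exact h2
  refine ⟨κ, ?_, ?_, ?_⟩
  · intro n
    obtain ⟨h0, hh0⟩ := QuotientGroup.mk_surjective (μ n)
    have h1 : conjQuot Q h0 (QuotientGroup.mk t) = QuotientGroup.mk t := by
      rw [← hu, ← theta_psi hψ (n := co2Incl n) (by rw [hh0, hμa]), co2Incl_smul,
        co2_smul_leechU]
    obtain ⟨h1, hh1, hh1t⟩ := exists_centralizing_rep hES t htc h0 h1
    refine ⟨⟨h1, (mem_centralizer_singleton_iff' _ _).2 hh1t⟩, ?_⟩
    apply hμinj
    rw [hκμ, hνa, hh1, hh0]
  · intro a
    rw [← QuotientGroup.eq_one_iff, ← hνa, ← hκμ]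
    constructor
    · intro h; rw [h, map_one]
    · intro h
      apply hμinj
      rw [h, map_one]
  · intro a
    rw [← hμa, hκμ, hνa]

end

end Cfsg.Agent.Lib.Helper90
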