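import Mathlib
import Cfsg.Agent.Lib.Helper90.Monster20

set_option autoImplicit false
set_option linter.unusedSectionVars false

namespace Cfsg.Agent.Lib.Helper90

open Cfsg Cfsg.Agent.Lib.Helper7 Cfsg.Agent.Lib.Helper54

variable {G : Type*} [Group G] {z : G}

/-- the centralizer in `C = C_G(z)` of an element of `Q`. -/
abbrev cenT (Q : Subgroup (Subgroup.centralizer ({z} : Set G))) (t : Q) :
    Subgroup (Subgroup.centralizer ({z} : Set G)) :=
  Subgroup.centralizer ({(t : Subgroup.centralizer ({z} : Set G))} :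
    Set (Subgroup.centralizer ({z} : Set G)))

variable {Q : Subgroup (Subgroup.centralizer ({z} : Set G))} [Q.Normal]
  {e : (Subgroup.centralizer ({z} : Set G)) ⧸ Q ≃* Spor.Co1}
  {ψ : leechLattice → Q ⧸ Subgroup.center Q} {t : Q}
  {D : Type*} [Group D] {φ : ↥(cenT Q t) →* D}

/-- the hypotheses under which `D = C_C(t) / ⟨t⟩` is studied. -/
structure BabyHyp (e : (Subgroup.centralizer ({z} : Set G)) ⧸ Q ≃* Spor.Co1)
    (ψ : leechLattice → Q ⧸ Subgroup.center Q) (φ : ↥(cenT Q t) →* D) : Prop where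
  hM : IsOfMonsterType z Q
  hψ : IsLeechModTwoIso Q e ψ
  hu : ψ Spor.leechU = QuotientGroup.mk t
  ht2 : t * t = 1
  surj : Function.Surjective φ
  ker : ∀ a, φ a = 1 ↔ a = 1 ∨ (a : Subgroup.centralizer ({z} : Set G)) = t

namespace BabyHyp

variable [Finite G]

theorem hES (h : BabyHyp e ψ φ) :
    ES Q (⟨z, z_mem_centralizer z⟩ : Subgroup.centralizer ({z} : Set G)) := es_of_setting h.hM.1

theorem h32 (h : BabyHyp e ψ φ) : HasType ψ t 32 := ⟨Spor.leechU, sqNorm_leechU, h.hu⟩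

theorem t_not_center (h : BabyHyp e ψ φ) : t ∉ Subgroup.center Q := fun h' =>
  not_hasType_of_center h.hψ h' (Or.inl rfl) h.h32

theorem t_ne_one (h : BabyHyp e ψ φ) : (t : Subgroup.centralizer ({z} : Set G)) ≠ 1 := by
  intro h1
  apply h.t_not_center
  have : t = 1 := Subtype.ext h1
  rw [this]; exact Subgroup.one_mem _

theorem t_ne_z (h : BabyHyp e ψ φ) :
    (t : Subgroup.centralizer ({z} : Set G)) ≠ ⟨z, z_mem_centralizer z⟩ := by
  intro h1
  apply h.t_not_center
  rw [Subgroup.mem_center_iff]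
  intro q
  ext1
  simp only [Subgroup.coe_mul]
  rw [h1]
  exact h.hES.z_comm q q.2

theorem t_sq (h : BabyHyp e ψ φ) :
    (t : Subgroup.centralizer ({z} : Set G)) * (t : Subgroup.centralizer ({z} : Set G)) = 1 :=
  congrArg Subtype.val h.ht2

/-- `z` as an element of `C_C(t)`. -/
def zA (Q : Subgroup (Subgroup.centralizer ({z} : Set G))) (t : Q) : ↥(cenT Q t) :=
  ⟨⟨z, z_mem_centralizer z⟩, by
    apply Subgroup.mem_centralizer_singleton_iff.mpr
    apply Subtype.ext
    exact (Subgroup.mem_centralizer_singleton_iff.mp (t : Subgroup.centralizer ({z} : Set G)).2).symm⟩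

/-- `t` as an element of `C_C(t)`. -/
def tA (Q : Subgroup (Subgroup.centralizer ({z} : Set G))) (t : Q) : ↥(cenT Q t) :=
  ⟨t, Subgroup.mem_centralizer_singleton_iff.mpr rfl⟩

theorem zA_comm (a : ↥(cenT Q t)) : a * zA Q t = zA Q t * a := by
  apply Subtype.ext
  apply Subtype.ext
  exact Subgroup.mem_centralizer_singleton_iff.mp (a : Subgroup.centralizer ({z} : Set G)).2

theorem phi_tA (h : BabyHyp e ψ φ) : φ (tA Q t) = 1 := (h.ker _).2 (Or.inr rfl)

theorem phi_zA_ne (h : BabyHyp e ψ φ) : φ (zA Q t) ≠ 1 := by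
  intro h0
  rcases (h.ker _).1 h0 with h1 | h1
  · exact h.hES.z_ne (congrArg Subtype.val h1)
  · exact h.t_ne_z h1.symm

theorem phi_zA_sq (h : BabyHyp e ψ φ) : φ (zA Q t) * φ (zA Q t) = 1 := by
  rw [← map_mul]
  have : zA Q t * zA Q t = 1 := Subtype.ext h.hES.z_sq
  rw [this, map_one]

theorem phi_zA_comm (h : BabyHyp e ψ φ) (y : D) : y * φ (zA Q t) = φ (zA Q t) * y := by
  obtain ⟨a, rfl⟩ := h.surj y
  rw [← map_mul, ← map_mul, zA_comm]

/-- the image of `C_Q(t)` in `D`. -/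
abbrev RR (Q : Subgroup (Subgroup.centralizer ({z} : Set G))) (t : Q) (φ : ↥(cenT Q t) →* D) :
    Subgroup D := (Q.subgroupOf (cenT Q t)).map φ

theorem mem_RR (y : D) : y ∈ RR Q t φ ↔
    ∃ a : ↥(cenT Q t), (a : Subgroup.centralizer ({z} : Set G)) ∈ Q ∧ φ a = y := by
  constructor
  · rintro ⟨a, ha, rfl⟩
    exact ⟨a, Subgroup.mem_subgroupOf.mp ha, rfl⟩
  · rintro ⟨a, ha, rfl⟩
    exact ⟨a, Subgroup.mem_subgroupOf.mpr ha, rfl⟩

/-- elements of `C_Q(t)` whose images commute do commute. -/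
theorem comm_of_phi_comm (h : BabyHyp e ψ φ) (a p : ↥(cenT Q t))
    (ha : (a : Subgroup.centralizer ({z} : Set G)) ∈ Q)
    (hp : (p : Subgroup.centralizer ({z} : Set G)) ∈ Q) (hc : φ p * φ a = φ a * φ p) :
    (a : Subgroup.centralizer ({z} : Set G)) * p = p * a := by
  have h1 : φ ((p * a)⁻¹ * (a * p)) = 1 := by
    rw [map_mul, map_inv, map_mul, map_mul, hc, inv_mul_cancel]
  rcases h.hES.comm a ha p hp with h2 | h2
  · exact h2
  · exfalso
    have h3 : (((p * a)⁻¹ * (a * p) : ↥(cenT Q t)) : Subgroup.centralizer ({z} : Set G)) =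
        ⟨z, z_mem_centralizer z⟩ := by
      simp only [Subgroup.coe_mul, InvMemClass.coe_inv]
      rw [h2, ← h.hES.z_comm _ (Q.mul_mem hp ha)]
      group
    rcases (h.ker _).1 h1 with h4 | h4
    · rw [h4] at h3
      exact h.hES.z_ne h3.symm
    · rw [h4] at h3
      exact h.t_ne_z h3

theorem center_RR (h : BabyHyp e ψ φ) (y : D) (hy : y ∈ RR Q t φ)
    (hc : ∀ q ∈ RR Q t φ, q * y = y * q) : y = 1 ∨ y = φ (zA Q t) := by
  obtain ⟨a, ha, rfl⟩ := (mem_RR y).1 hy
  have h1 : ∀ p ∈ Q, p * (t : Subgroup.centralizer ({z} : Set G)) = t * p →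
      (a : Subgroup.centralizer ({z} : Set G)) * p = p * a := by
    intro p hp hpt
    exact h.comm_of_phi_comm a ⟨p, Subgroup.mem_centralizer_singleton_iff.mpr hpt⟩ ha hp
      (hc _ ((mem_RR _).2 ⟨⟨p, Subgroup.mem_centralizer_singleton_iff.mpr hpt⟩, hp, rfl⟩))
  rcases h.hES.double_centralizer t.2 h.t_ne_one h.t_ne_z h.t_sq ha h1 with h2 | h2 | h2 | h2
  · left
    have : a = 1 := Subtype.ext h2
    rw [this, map_one]
  · right
    have : a = zA Q t := Subtype.ext h2
    rw [this]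
  · left
    exact (h.ker a).2 (Or.inr h2)
  · right
    have : a = zA Q t * tA Q t := Subtype.ext h2
    rw [this, map_mul, h.phi_tA, mul_one]

end BabyHyp

end Cfsg.Agent.Lib.Helper90
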