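import Mathlib
import Cfsg.Agent.Lib.Helper90.Monster21
import Cfsg.Agent.Lib.Helper31.CharP
import Cfsg.Agent.Lib.Lead.Cores

set_option autoImplicit false
set_option linter.unusedSectionVars false

namespace Cfsg.Agent.Lib.Helper90

open Cfsg Cfsg.Agent.Lib.Helper7 Cfsg.Agent.Lib.Helper54

variable {G : Type*} [Group G] {z : G}

variable {Q : Subgroup (Subgroup.centralizer ({z} : Set G))} [Q.Normal]
  {e : (Subgroup.centralizer ({z} : Set G)) ⧸ Q ≃* Spor.Co1}
  {ψ : leechLattice → Q ⧸ Subgroup.center Q} {t : Q}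
  {D : Type*} [Group D] {φ : ↥(cenT Q t) →* D}

namespace BabyHyp

variable [Finite G]

theorem card_RA (h : BabyHyp e ψ φ) : Nat.card (Q.subgroupOf (cenT Q t)) = 2 ^ 24 := by
  obtain ⟨hz, hF, hQ, hcard, -⟩ := h.hM.1
  have h2 := Cfsg.Agent.Lib.Helper48.card_mul_card_centralizer hQ (Subgroup.zpowers t)
  have ho : orderOf t = 2 := by
    apply orderOf_eq_prime
    · rw [pow_two]; exact h.ht2
    · intro h1; exact h.t_ne_one (congrArg Subtype.val h1)
  have hbot : (Subgroup.zpowers t ⊓ Subgroup.center Q : Subgroup Q) = ⊥ := by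
    rw [eq_bot_iff]
    rintro y ⟨hy1, hy2⟩
    have hy1' : y ∈ Subgroup.zpowers t := hy1
    rw [mem_zpowers_iff_of_sq h.ht2] at hy1'
    rcases hy1' with h5 | h5
    · rw [h5]; exact Subgroup.one_mem _
    · rw [h5] at hy2; exact absurd hy2 h.t_not_center
  rw [Nat.card_zpowers, ho, hcard, hbot, Subgroup.card_bot, mul_one] at h2
  have h3 : Nat.card (Q.subgroupOf (cenT Q t)) =
      Nat.card (Subgroup.centralizer (Subgroup.zpowers t : Set Q)) := by
    apply Nat.card_congr
    refine ⟨fun r => ⟨⟨(r : ↥(cenT Q t)), Subgroup.mem_subgroupOf.mp r.2⟩, ?_⟩,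
      fun b => ⟨⟨((b : Q) : Subgroup.centralizer ({z} : Set G)), ?_⟩, ?_⟩, ?_, ?_⟩
    · rw [Subgroup.mem_centralizer_iff]
      intro y hy
      rw [SetLike.mem_coe, mem_zpowers_iff_of_sq h.ht2] at hy
      rcases hy with h5 | h5
      · rw [h5]; simp
      · rw [h5]
        apply Subtype.ext
        exact (Subgroup.mem_centralizer_singleton_iff.mp (r : ↥(cenT Q t)).2).symm
    · apply Subgroup.mem_centralizer_singleton_iff.mpr
      have h4 := Subgroup.mem_centralizer_iff.mp b.2 t (Subgroup.mem_zpowers t)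
      exact (congrArg Subtype.val h4).symm
    · exact Subgroup.mem_subgroupOf.mpr (b : Q).2
    · intro r; rfl
    · intro b; rfl
  rw [h3]
  norm_num at h2 ⊢
  omega

theorem ker_eq (h : BabyHyp e ψ φ) : φ.ker = Subgroup.zpowers (tA Q t) := by
  ext a
  have htt : tA Q t * tA Q t = 1 := Subtype.ext h.t_sq
  rw [MonoidHom.mem_ker, h.ker, mem_zpowers_iff_of_sq htt]
  constructor
  · rintro (h1 | h1)
    · exact Or.inl h1
    · exact Or.inr (Subtype.ext h1)
  · rintro (h1 | h1)
    · exact Or.inl h1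
    · right; rw [h1]; rfl

theorem card_RR (h : BabyHyp e ψ φ) : Nat.card (RR Q t φ) = 2 ^ 23 := by
  have h1 := card_ker_inf_mul_card_map φ (Q.subgroupOf (cenT Q t))
  have h2 : φ.ker ⊓ Q.subgroupOf (cenT Q t) = Subgroup.zpowers (tA Q t) := by
    rw [h.ker_eq, inf_eq_left, Subgroup.zpowers_le]
    exact Subgroup.mem_subgroupOf.mpr t.2
  have ho : orderOf (tA Q t) = 2 := by
    apply orderOf_eq_prime
    · rw [pow_two]; exact Subtype.ext h.t_sq
    · intro h1; exact h.t_ne_one (congrArg Subtype.val h1)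
  rw [h2, Nat.card_zpowers, ho, h.card_RA] at h1
  have h3 : Nat.card (RR Q t φ) = Nat.card ((Q.subgroupOf (cenT Q t)).map φ) := rfl
  norm_num at h1 ⊢
  omega

theorem isPGroup_RR (h : BabyHyp e ψ φ) : IsPGroup 2 (RR Q t φ) :=
  (h.hES.two.comap_subtype).map φ

theorem es_RR (h : BabyHyp e ψ φ) : ES (RR Q t φ) (φ (zA Q t)) := by
  refine ⟨h.isPGroup_RR, h.phi_zA_ne, (mem_RR _).2 ⟨_, h.hES.z_mem, rfl⟩, h.phi_zA_sq,
    fun q _ => h.phi_zA_comm q, h.center_RR, ?_, ?_, ?_⟩
  · intro x hx y hy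
    obtain ⟨a, ha, rfl⟩ := (mem_RR x).1 hx
    obtain ⟨b, hb, rfl⟩ := (mem_RR y).1 hy
    rcases h.hES.comm a ha b hb with h1 | h1
    · left
      have : a * b = b * a := Subtype.ext h1
      rw [← map_mul, ← map_mul, this]
    · right
      have : a * b = zA Q t * (b * a) := Subtype.ext h1
      rw [← map_mul, ← map_mul, ← map_mul, this]
  · intro x hx
    obtain ⟨a, ha, rfl⟩ := (mem_RR x).1 hx
    rcases h.hES.sq a ha with h1 | h1
    · left
      have : a * a = 1 := Subtype.ext h1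
      rw [← map_mul, this, map_one]
    · right
      have : a * a = zA Q t := Subtype.ext h1
      rw [← map_mul, this]
  · by_contra hcon
    push Not at hcon
    have h1 : ((RR Q t φ : Subgroup D) : Set D) ⊆ {1, φ (zA Q t)} := by
      intro y hy
      rcases h.center_RR y hy (fun q hq => hcon q hq y hy) with h2 | h2
      · left; exact h2
      · right; exact h2
    have h2 : ((RR Q t φ : Subgroup D) : Set D).ncard ≤ 2 :=
      (Set.ncard_le_ncard h1 (Set.toFinite _)).trans
        ((Set.ncard_insert_le _ _).trans (by rw [Set.ncard_singleton]))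
    have h3 : ((RR Q t φ : Subgroup D) : Set D).ncard = 2 ^ 23 := h.card_RR
    rw [h3] at h2
    norm_num at h2

theorem normal_RR (h : BabyHyp e ψ φ) : (RR Q t φ).Normal :=
  Subgroup.Normal.map inferInstance φ h.surj

theorem isPGroup_ker (h : BabyHyp e ψ φ) : IsPGroup 2 φ.ker := by
  rintro ⟨a, ha⟩
  refine ⟨1, ?_⟩
  apply Subtype.ext
  rw [MonoidHom.mem_ker, h.ker] at ha
  simp only [pow_one, SubmonoidClass.mk_pow, Subgroup.coe_one]
  rcases ha with h1 | h1
  · rw [h1, one_pow]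
  · apply Subtype.ext
    rw [pow_two, Subgroup.coe_mul, h1]
    exact h.t_sq

/-- normal `2`-subgroups of `D` lie in the image of `C_Q(t)`. -/
theorem le_RR_of_normal (h : BabyHyp e ψ φ) (N : Subgroup D) (hN : N.Normal) (hN2 : IsPGroup 2 N) :
    N ≤ RR Q t φ := by
  have hP2 : IsPGroup 2 ((N.comap φ).map (cenT Q t).subtype) :=
    (hN2.comap_of_ker_isPGroup φ h.isPGroup_ker).map _
  have hle := le_of_type32 h.hES h.hψ t Spor.leechU sqNorm_leechU h.hu _ hP2 (by
    rintro _ ⟨a, -, rfl⟩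
    exact (mem_centralizer_singleton_iff' _ _).1 a.2) (by
    rintro c hc _ ⟨a, ha, rfl⟩
    refine ⟨(⟨c, (mem_centralizer_singleton_iff' _ _).2 hc⟩ : ↥(cenT Q t))⁻¹ * a *
      ⟨c, (mem_centralizer_singleton_iff' _ _).2 hc⟩, ?_, rfl⟩
    rw [SetLike.mem_coe, Subgroup.mem_comap, map_mul, map_mul, map_inv]
    have := hN.conj_mem _ ha (φ ⟨c, (mem_centralizer_singleton_iff' _ _).2 hc⟩)⁻¹
    rwa [inv_inv] at this)
  intro y hy
  obtain ⟨a, rfl⟩ := h.surj y
  exact (mem_RR _).2 ⟨a, hle ⟨a, hy, rfl⟩, rfl⟩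

theorem comm_t_iff (h : BabyHyp e ψ φ) (v : leechLattice) (q : Q)
    (hv : ψ v = QuotientGroup.mk q) :
    q * t = t * q ↔ (16 : ℤ) ∣ dotInt (v : GolayPt → ℤ) Spor.vecU :=
  comm_formula h.hM h.hψ t h.h32 h.ht2 v Spor.leechU q t hv h.hu

theorem centralizer_RR_le (h : BabyHyp e ψ φ) :
    Subgroup.centralizer (RR Q t φ : Set D) ≤ RR Q t φ := by
  intro y hy
  obtain ⟨a, rfl⟩ := h.surj y
  refine (mem_RR _).2 ⟨a, ?_, rfl⟩
  apply mem_of_fix_perp h.hψ Spor.leechU sqNorm_leechU
  · rw [h.hu, conjQuot_mk]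
    congr 1
    exact Subtype.ext ((mem_centralizer_singleton_iff' _ _).1 a.2)
  · intro w hw hd
    obtain ⟨q, hq⟩ := QuotientGroup.mk_surjective (ψ w)
    have hqt : q * t = t * q := (h.comm_t_iff w q hq.symm).2 (by
      rw [dotInt_comm']
      have : dotInt Spor.vecU (w : GolayPt → ℤ) = 0 := hd
      rw [this]; exact dvd_zero _)
    obtain ⟨qA, hqA⟩ : ∃ qA : ↥(cenT Q t), (qA : Subgroup.centralizer ({z} : Set G)) = q :=
      ⟨⟨q, Subgroup.mem_centralizer_singleton_iff.mpr (congrArg Subtype.val hqt)⟩, rfl⟩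
    have hc := Subgroup.mem_centralizer_iff.mp hy (φ qA)
      ((mem_RR _).2 ⟨qA, by rw [hqA]; exact q.2, rfl⟩)
    have h1 : φ (a * qA * a⁻¹ * qA⁻¹) = 1 := by
      rw [map_mul, map_mul, map_mul, map_inv, map_inv, ← hc]; group
    rw [← hq, conjQuot_mk]
    rcases (h.ker _).1 h1 with h2 | h2
    · congr 1
      apply Subtype.ext
      have h3 := congrArg (fun w : ↥(cenT Q t) => (w : Subgroup.centralizer ({z} : Set G))) h2
      simp only [Subgroup.coe_mul, InvMemClass.coe_inv, Subgroup.coe_one, hqA] at h3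
      show (a : Subgroup.centralizer ({z} : Set G)) * q * (a : Subgroup.centralizer ({z} : Set G))⁻¹ = q
      calc (a : Subgroup.centralizer ({z} : Set G)) * q * (a : Subgroup.centralizer ({z} : Set G))⁻¹
          = ((a : Subgroup.centralizer ({z} : Set G)) * q *
              (a : Subgroup.centralizer ({z} : Set G))⁻¹ *
              (q : Subgroup.centralizer ({z} : Set G))⁻¹) * q := by group
        _ = q := by rw [h3, one_mul]
    · exfalso
      simp only [Subgroup.coe_mul, InvMemClass.coe_inv, hqA] at h2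
      have h3 : (a : Subgroup.centralizer ({z} : Set G)) * q *
          (a : Subgroup.centralizer ({z} : Set G))⁻¹ = t * q := by
        rw [← h2]; group
      obtain ⟨n, hn⟩ := exists_lift e (a : Subgroup.centralizer ({z} : Set G))
      have e1 := psi_smul h.hψ hn w
      rw [← hq, conjQuot_mk] at e1
      have t32 : HasType ψ (⟨(a : Subgroup.centralizer ({z} : Set G)) * q *
          (a : Subgroup.centralizer ({z} : Set G))⁻¹,
          (inferInstance : Q.Normal).conj_mem _ q.2 _⟩ : Q) 32 :=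
        ⟨n • w, by rw [co0_sqNorm]; exact hw, e1⟩
      have t64 : HasType ψ (⟨(a : Subgroup.centralizer ({z} : Set G)) * q *
          (a : Subgroup.centralizer ({z} : Set G))⁻¹,
          (inferInstance : Q.Normal).conj_mem _ q.2 _⟩ : Q) 64 := by
        refine ⟨Spor.leechU + w, ?_, ?_⟩
        · rw [AddSubgroup.coe_add, sqNorm_add, hd, hw, sqNorm_leechU]; norm_num
        · rw [h.hψ.1, h.hu, ← hq, ← QuotientGroup.mk_mul]
          congr 1
          apply Subtype.ext
          exact h3.symm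
      have := type_unique h.hψ (Or.inl rfl) (Or.inr (Or.inr rfl)) t32 t64
      norm_num at this

theorem genFitting_eq (h : BabyHyp e ψ φ) : generalizedFittingSubgroup D = RR Q t φ := by
  have : Finite D := Finite.of_surjective φ h.surj
  have : Fact (Nat.Prime 2) := ⟨Nat.prime_two⟩
  have h1 : pCore 2 D = RR Q t φ :=
    le_antisymm (h.le_RR_of_normal _ (Cfsg.Agent.Lib.Lead.pCore_normal' 2 D)
      (Cfsg.Agent.Lib.Lead.pCore_isPGroup 2 D))
      (Cfsg.Agent.Lib.Lead.le_pCore h.normal_RR h.isPGroup_RR)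
  rw [← h1]
  apply (Cfsg.Agent.Lib.Helper31.genFitting_eq_pCore_iff_centralizer 2).2
  rw [h1]
  exact h.centralizer_RR_le

end BabyHyp

end Cfsg.Agent.Lib.Helper90
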