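import Mathlib
import Cfsg.Agent.Lib.Helper90.Monster22

set_option autoImplicit false
set_option linter.unusedSectionVars false

namespace Cfsg.Agent.Lib.Helper90

open Cfsg Cfsg.Agent.Lib.Helper7 Cfsg.Agent.Lib.Helper54

/-- the condition `IsLeechPerpModTwoIso` for an arbitrary group `D` with normal subgroup `R`. -/
def PerpIso {D : Type*} [Group D] (R : Subgroup D) [R.Normal] (e : D ⧸ R ≃* Spor.Co2)
    (ψ : leechPerpU → R ⧸ Subgroup.center R) : Prop :=
  (∀ x y : leechPerpU, ψ (x + y) = ψ x * ψ y) ∧ Function.Surjective ψ ∧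
  (∀ x : leechPerpU, ψ x = 1 ↔
    (∃ w : leechLattice, (x : leechLattice) = w + w) ∨
      ∃ w : leechLattice, (x : leechLattice) = Spor.leechU + (w + w)) ∧
  ∀ (h : D) (g : Spor.Co2), e (QuotientGroup.mk h) = g →
    ∀ (x y : leechPerpU), g • (x : leechLattice) = (y : leechLattice) →
      ∀ q : R, ψ x = QuotientGroup.mk q →
        ψ y = QuotientGroup.mk ⟨h * q * h⁻¹, (inferInstance : R.Normal).conj_mem (q : D) q.2 h⟩

variable {G : Type*} [Group G] {z : G}

variable {Q : Subgroup (Subgroup.centralizer ({z} : Set G))} [Q.Normal]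
  {e : (Subgroup.centralizer ({z} : Set G)) ⧸ Q ≃* Spor.Co1}
  {ψ : leechLattice → Q ⧸ Subgroup.center Q} {t : Q}
  {D : Type*} [Group D] {φ : ↥(cenT Q t) →* D}

namespace BabyHyp

variable [Finite G]

/-- the image in `R` of an element of `C_Q(t)`. -/
def toR (φ : ↥(cenT Q t) →* D) (a : ↥(cenT Q t))
    (ha : (a : Subgroup.centralizer ({z} : Set G)) ∈ Q) : RR Q t φ :=
  ⟨φ a, (mem_RR _).2 ⟨a, ha, rfl⟩⟩

theorem exists_rep (h : BabyHyp e ψ φ) (x : leechPerpU) :
    ∃ a : ↥(cenT Q t), ∃ ha : (a : Subgroup.centralizer ({z} : Set G)) ∈ Q,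
      ψ (x : leechLattice) = QuotientGroup.mk (⟨a, ha⟩ : Q) := by
  obtain ⟨q, hq⟩ := QuotientGroup.mk_surjective (ψ (x : leechLattice))
  have hqt : q * t = t * q := (h.comm_t_iff _ q hq.symm).2 x.2
  exact ⟨⟨q, Subgroup.mem_centralizer_singleton_iff.mpr (congrArg Subtype.val hqt)⟩, q.2, hq.symm⟩

theorem center_R_cases (h : BabyHyp e ψ φ) (c : RR Q t φ) (hc : c ∈ Subgroup.center (RR Q t φ)) :
    (c : D) = 1 ∨ (c : D) = φ (zA Q t) :=
  h.es_RR.center c c.2 (fun q hq => congrArg Subtype.val (Subgroup.mem_center_iff.mp hc ⟨q, hq⟩))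

theorem mem_center_R_of (h : BabyHyp e ψ φ) (c : RR Q t φ)
    (hc : (c : D) = 1 ∨ (c : D) = φ (zA Q t)) : c ∈ Subgroup.center (RR Q t φ) := by
  rw [Subgroup.mem_center_iff]
  intro g
  apply Subtype.ext
  simp only [Subgroup.coe_mul]
  rcases hc with hc | hc
  · rw [hc, mul_one, one_mul]
  · rw [hc]; exact h.phi_zA_comm g

theorem mk_toR_eq (h : BabyHyp e ψ φ) (a b : ↥(cenT Q t))
    (ha : (a : Subgroup.centralizer ({z} : Set G)) ∈ Q)
    (hb : (b : Subgroup.centralizer ({z} : Set G)) ∈ Q)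
    (hab : (QuotientGroup.mk (⟨a, ha⟩ : Q) : Q ⧸ Subgroup.center Q) = QuotientGroup.mk (⟨b, hb⟩ : Q)) :
    (QuotientGroup.mk (toR φ a ha) : RR Q t φ ⧸ Subgroup.center (RR Q t φ)) =
      QuotientGroup.mk (toR φ b hb) := by
  rw [QuotientGroup.eq] at hab ⊢
  apply h.mem_center_R_of
  have h1 : (((toR φ a ha)⁻¹ * toR φ b hb : RR Q t φ) : D) = φ (a⁻¹ * b) := by
    rw [map_mul, map_inv]; rfl
  rw [h1]
  rcases center_cases h.hES _ hab with h2 | h2
  · left
    have : a⁻¹ * b = 1 := Subtype.ext (Subtype.ext h2)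
    rw [this, map_one]
  · right
    have : a⁻¹ * b = zA Q t := Subtype.ext (Subtype.ext h2)
    rw [this]

/-- the map from the vectors orthogonal to `u` modulo `2` to `R / Z(R)`. -/
noncomputable def psiR (h : BabyHyp e ψ φ) (x : leechPerpU) :
    RR Q t φ ⧸ Subgroup.center (RR Q t φ) :=
  QuotientGroup.mk (toR φ (h.exists_rep x).choose (h.exists_rep x).choose_spec.choose)

theorem psiR_eq (h : BabyHyp e ψ φ) (x : leechPerpU) (a : ↥(cenT Q t))
    (ha : (a : Subgroup.centralizer ({z} : Set G)) ∈ Q)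
    (hx : ψ (x : leechLattice) = QuotientGroup.mk (⟨a, ha⟩ : Q)) :
    h.psiR x = QuotientGroup.mk (toR φ a ha) := by
  apply h.mk_toR_eq
  rw [← hx]
  exact (h.exists_rep x).choose_spec.choose_spec.symm

theorem psiR_add (h : BabyHyp e ψ φ) (x y : leechPerpU) :
    h.psiR (x + y) = h.psiR x * h.psiR y := by
  obtain ⟨a, ha, hx⟩ := h.exists_rep x
  obtain ⟨b, hb, hy⟩ := h.exists_rep y
  rw [h.psiR_eq x a ha hx, h.psiR_eq y b hb hy,
    h.psiR_eq (x + y) (a * b) (Q.mul_mem ha hb) (by
      rw [AddSubgroup.coe_add, h.hψ.1, hx, hy]; rfl), ← QuotientGroup.mk_mul]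
  congr 1
  apply Subtype.ext
  exact map_mul φ a b

theorem psiR_surjective (h : BabyHyp e ψ φ) : Function.Surjective h.psiR := by
  intro y
  obtain ⟨⟨r, hr⟩, rfl⟩ := QuotientGroup.mk_surjective y
  obtain ⟨a, ha, rfl⟩ := (mem_RR r).1 hr
  obtain ⟨v, hv⟩ := h.hψ.2.1 (QuotientGroup.mk (⟨a, ha⟩ : Q))
  have hvU : v ∈ leechPerpU := by
    apply (h.comm_t_iff v _ hv).1
    apply Subtype.ext
    exact Subgroup.mem_centralizer_singleton_iff.mp a.2
  exact ⟨⟨v, hvU⟩, h.psiR_eq ⟨v, hvU⟩ a ha hv⟩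

theorem zQ_mem_center (h : BabyHyp e ψ φ) :
    (⟨⟨z, z_mem_centralizer z⟩, h.hES.z_mem⟩ : Q) ∈ Subgroup.center Q := by
  rw [Subgroup.mem_center_iff]
  intro q
  exact Subtype.ext (h.hES.z_comm q q.2)

theorem psiR_eq_one_iff (h : BabyHyp e ψ φ) (x : leechPerpU) : h.psiR x = 1 ↔
    (∃ w : leechLattice, (x : leechLattice) = w + w) ∨
      ∃ w : leechLattice, (x : leechLattice) = Spor.leechU + (w + w) := by
  constructor
  · intro hx1
    obtain ⟨a, ha, hx⟩ := h.exists_rep x
    rw [h.psiR_eq x a ha hx, QuotientGroup.eq_one_iff] at hx1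
    have hcases : ψ (x : leechLattice) = 1 ∨ ψ (x : leechLattice) = ψ Spor.leechU := by
      rw [hx, h.hu]
      rcases h.center_R_cases _ hx1 with h1 | h1
      · rcases (h.ker a).1 h1 with h2 | h2
        · left
          rw [QuotientGroup.eq_one_iff]
          have : (⟨a, ha⟩ : Q) = 1 := Subtype.ext
            (congrArg (fun w : ↥(cenT Q t) => (w : Subgroup.centralizer ({z} : Set G))) h2)
          rw [this]; exact Subgroup.one_mem _
        · right
          congr 1
          exact Subtype.ext h2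
      · have h2 : φ ((zA Q t)⁻¹ * a) = 1 := by
          rw [map_mul, map_inv]
          have : φ a = φ (zA Q t) := h1
          rw [this, inv_mul_cancel]
        rcases (h.ker _).1 h2 with h3 | h3
        · left
          rw [QuotientGroup.eq_one_iff]
          have h4 : a = zA Q t := by
            calc a = zA Q t * ((zA Q t)⁻¹ * a) := by group
              _ = zA Q t := by rw [h3, mul_one]
          have : (⟨a, ha⟩ : Q) = ⟨⟨z, z_mem_centralizer z⟩, h.hES.z_mem⟩ :=
            Subtype.ext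
              (congrArg (fun w : ↥(cenT Q t) => (w : Subgroup.centralizer ({z} : Set G))) h4)
          rw [this]; exact h.zQ_mem_center
        · right
          rw [QuotientGroup.eq]
          have : (⟨a, ha⟩ : Q)⁻¹ * t = (⟨⟨z, z_mem_centralizer z⟩, h.hES.z_mem⟩ : Q)⁻¹ := by
            apply Subtype.ext
            simp only [Subgroup.coe_mul, InvMemClass.coe_inv] at h3 ⊢
            rw [← h3]
            show (a : Subgroup.centralizer ({z} : Set G))⁻¹ *
              ((⟨z, z_mem_centralizer z⟩ : Subgroup.centralizer ({z} : Set G))⁻¹ * a) = _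
            have hc := h.hES.z_comm a ha
            have hc' : (⟨z, z_mem_centralizer z⟩ : Subgroup.centralizer ({z} : Set G))⁻¹ *
                (a : Subgroup.centralizer ({z} : Set G)) =
                a * (⟨z, z_mem_centralizer z⟩ : Subgroup.centralizer ({z} : Set G))⁻¹ := by
              calc (⟨z, z_mem_centralizer z⟩ : Subgroup.centralizer ({z} : Set G))⁻¹ *
                  (a : Subgroup.centralizer ({z} : Set G))
                  = (⟨z, z_mem_centralizer z⟩ : Subgroup.centralizer ({z} : Set G))⁻¹ *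
                    ((a : Subgroup.centralizer ({z} : Set G)) * ⟨z, z_mem_centralizer z⟩) *
                    (⟨z, z_mem_centralizer z⟩ : Subgroup.centralizer ({z} : Set G))⁻¹ := by group
                _ = a * (⟨z, z_mem_centralizer z⟩ : Subgroup.centralizer ({z} : Set G))⁻¹ := by
                  rw [hc]; group
            rw [hc']; group
          rw [this]
          exact Subgroup.inv_mem _ h.zQ_mem_center
    rcases hcases with h1 | h1
    · left; exact (h.hψ.2.2.1 _).1 h1
    · right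
      obtain ⟨w, hw, hw2⟩ := congr_of_psi_eq h.hψ h1
      refine ⟨⟨w, hw⟩, ?_⟩
      apply Subtype.ext
      simp only [AddSubgroup.coe_add]
      rw [← two_nsmul, ← hw2]
      abel
  · rintro (⟨w, hw⟩ | ⟨w, hw⟩)
    · rw [h.psiR_eq x 1 Q.one_mem (by
        rw [(h.hψ.2.2.1 _).2 ⟨w, hw⟩]; rfl), QuotientGroup.eq_one_iff]
      apply h.mem_center_R_of
      left
      exact map_one φ
    · rw [h.psiR_eq x (tA Q t) t.2 (by
        rw [hw, h.hψ.1, (h.hψ.2.2.1 (w + w)).2 ⟨w, rfl⟩, mul_one, h.hu]; rfl),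
        QuotientGroup.eq_one_iff]
      apply h.mem_center_R_of
      left
      exact h.phi_tA

end BabyHyp

end Cfsg.Agent.Lib.Helper90
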