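import Mathlib
import Cfsg.Agent.Lib.Helper90.Monster23

set_option autoImplicit false
set_option linter.unusedSectionVars false

namespace Cfsg.Agent.Lib.Helper90

open Cfsg Cfsg.Agent.Lib.Helper7 Cfsg.Agent.Lib.Helper54

variable {G : Type*} [Group G] {z : G}

variable {Q : Subgroup (Subgroup.centralizer ({z} : Set G))} [Q.Normal]
  {e : (Subgroup.centralizer ({z} : Set G)) ⧸ Q ≃* Spor.Co1}
  {ψ : leechLattice → Q ⧸ Subgroup.center Q} {t : Q}
  {D : Type*} [Group D] {φ : ↥(cenT Q t) →* D}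

namespace BabyHyp

variable [Finite G]

theorem exists_perpIso (h : BabyHyp e ψ φ) :
    ∃ (_ : (RR Q t φ).Normal) (e' : D ⧸ RR Q t φ ≃* Spor.Co2)
      (ψ' : leechPerpU → RR Q t φ ⧸ Subgroup.center (RR Q t φ)), PerpIso (RR Q t φ) e' ψ' := by
  have hn := h.normal_RR
  obtain ⟨κ, hκs, hκk, hκθ⟩ := exists_co2_hom h.hES h.hψ t h.hu
  have hker : φ.ker ≤ κ.ker := by
    intro a ha
    rw [MonoidHom.mem_ker] at ha ⊢
    rw [hκk]
    rcases (h.ker a).1 ha with h1 | h1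
    · rw [h1]; exact Q.one_mem
    · rw [h1]; exact t.2
  obtain ⟨κD, hκD⟩ : ∃ κD : D →* Spor.Co2, ∀ a, κD (φ a) = κ a :=
    ⟨φ.liftOfSurjective h.surj ⟨κ, hker⟩,
      fun a => MonoidHom.liftOfRightInverse_comp_apply _ _ _ _ _⟩
  have hκD1 : ∀ y, κD y = 1 ↔ y ∈ RR Q t φ := by
    intro y
    obtain ⟨a, rfl⟩ := h.surj y
    rw [hκD, hκk, mem_RR]
    constructor
    · intro ha; exact ⟨a, ha, rfl⟩
    · rintro ⟨b, hb, hab⟩
      have h1 : φ (b⁻¹ * a) = 1 := by rw [map_mul, map_inv, hab, inv_mul_cancel]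
      have h2 : ((b⁻¹ * a : ↥(cenT Q t)) : Subgroup.centralizer ({z} : Set G)) ∈ Q := by
        rcases (h.ker _).1 h1 with h3 | h3
        · rw [h3]; exact Q.one_mem
        · rw [h3]; exact t.2
      have h3 : (a : Subgroup.centralizer ({z} : Set G)) =
          b * ((b⁻¹ * a : ↥(cenT Q t)) : Subgroup.centralizer ({z} : Set G)) := by
        simp only [Subgroup.coe_mul, InvMemClass.coe_inv]; group
      rw [h3]
      exact Q.mul_mem hb h2
  obtain ⟨L, hL⟩ : ∃ L : D ⧸ RR Q t φ →* Spor.Co2, ∀ y : D, L (QuotientGroup.mk y) = κD y :=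
    ⟨QuotientGroup.lift (RR Q t φ) κD (fun y hy => (hκD1 y).2 hy), fun y => rfl⟩
  have hLbij : Function.Bijective L := by
    constructor
    · rw [injective_iff_map_eq_one]
      intro x hx
      obtain ⟨y, rfl⟩ := QuotientGroup.mk_surjective x
      rw [hL, hκD1] at hx
      exact (QuotientGroup.eq_one_iff y).2 hx
    · intro n
      obtain ⟨a, ha⟩ := hκs n
      exact ⟨QuotientGroup.mk (φ a), by rw [hL, hκD, ha]⟩
  refine ⟨hn, MulEquiv.ofBijective L hLbij, h.psiR, h.psiR_add, h.psiR_surjective,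
    h.psiR_eq_one_iff, ?_⟩
  intro hD g hg x y hxy q hq
  obtain ⟨a, rfl⟩ := h.surj hD
  have hg' : κ a = g := by
    rw [← hκD, ← hL]; exact hg
  obtain ⟨b, hb, hx⟩ := h.exists_rep x
  have e1 := theta_psi h.hψ (hκθ a) (x : leechLattice)
  rw [co2Incl_smul, hg', hxy, hx, conjQuot_mk] at e1
  have e2 := h.psiR_eq y (a * b * a⁻¹) ((inferInstance : Q.Normal).conj_mem _ hb _) e1
  rw [e2]
  have e3 : (QuotientGroup.mk q : RR Q t φ ⧸ Subgroup.center (RR Q t φ)) =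
      QuotientGroup.mk (toR φ b hb) := by rw [← hq, h.psiR_eq x b hb hx]
  rw [QuotientGroup.eq] at e3 ⊢
  apply h.mem_center_R_of
  have e4 : (((toR φ (a * b * a⁻¹) ((inferInstance : Q.Normal).conj_mem _ hb _))⁻¹ *
      (⟨φ a * q * (φ a)⁻¹, (inferInstance : (RR Q t φ).Normal).conj_mem (q : D) q.2 (φ a)⟩ :
        RR Q t φ) : RR Q t φ) : D) = φ a * ((q : D)⁻¹ * φ b)⁻¹ * (φ a)⁻¹ := by
    show (φ (a * b * a⁻¹))⁻¹ * (φ a * q * (φ a)⁻¹) = _
    rw [map_mul, map_mul, map_inv]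
    group
  rw [e4]
  have e5 : ((q⁻¹ * toR φ b hb : RR Q t φ) : D) = (q : D)⁻¹ * φ b := rfl
  rcases h.center_R_cases _ e3 with h1 | h1
  · left
    rw [e5] at h1
    rw [h1]; group
  · right
    rw [e5] at h1
    rw [h1]
    have h2 : (φ (zA Q t))⁻¹ = φ (zA Q t) := inv_eq_of_mul_eq_one_right h.phi_zA_sq
    rw [h2, h.phi_zA_comm (φ a)]
    group

end BabyHyp

end Cfsg.Agent.Lib.Helper90
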