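import Mathlib
import Cfsg.Agent.Lib.Helper90.Monster24

set_option autoImplicit false
set_option linter.unusedSectionVars false

namespace Cfsg.Agent.Lib.Helper90

open Cfsg Cfsg.Agent.Lib.Helper7 Cfsg.Agent.Lib.Helper54

variable {G : Type*} [Group G] {z : G}

/-- in a group of Monster type, `C_G(t) / ⟨t⟩` is of Baby Monster type for an involution `t` of `Q`
which is not conjugate to `z`. -/
theorem monster_baby [Finite G]
    (Q : Subgroup (Subgroup.centralizer ({z} : Set G))) [Q.Normal] (hM : IsOfMonsterType z Q)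
    (t : G) (htQ : ∃ htc : t ∈ Subgroup.centralizer ({z} : Set G),
      (⟨t, htc⟩ : Subgroup.centralizer ({z} : Set G)) ∈ Q)
    (ht2 : orderOf t = 2) (ht : ¬ IsConj z t)
    [hn : ((Subgroup.zpowers t).subgroupOf (Subgroup.centralizer ({t} : Set G))).Normal] :
    IsOfBabyMonsterType (↥(Subgroup.centralizer ({t} : Set G)) ⧸
      (Subgroup.zpowers t).subgroupOf (Subgroup.centralizer ({t} : Set G))) := by
  obtain ⟨g, hgt, ⟨hsc, hsQ⟩, hsz⟩ := exists_conj_in_centralizer Q hM t htQ ht2 ht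
  obtain ⟨htc, htQ'⟩ := htQ
  have hES := es_of_setting hM.1
  have htt : t * t = 1 := sq_of_orderOf_two ht2
  have ht1 : t ≠ 1 := by
    intro h; rw [h, orderOf_one] at ht2; omega
  have hz1 : z ≠ 1 := fun h => hES.z_ne (Subtype.ext h)
  have hzz : z * z = 1 := congrArg Subtype.val hES.z_sq
  have htz : t * z = z * t := Subgroup.mem_centralizer_singleton_iff.mp htc
  have htnez : t ≠ z := by
    intro h; apply ht; rw [h]
  obtain ⟨tQ, htQdef⟩ : ∃ tQ : Q, tQ = ⟨⟨t, htc⟩, htQ'⟩ := ⟨_, rfl⟩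
  have htQv : ((tQ : Subgroup.centralizer ({z} : Set G)) : G) = t := by rw [htQdef]
  have htQ2 : tQ * tQ = 1 := by
    rw [htQdef]; exact Subtype.ext (Subtype.ext htt)
  have htQ1 : tQ ≠ 1 := by
    intro h
    apply ht1
    rw [← htQv, h]; rfl
  -- `z t` is conjugate to `t`
  have hzt : IsConj t (z * t) := by
    obtain ⟨q, -, hq⟩ := hES.exists_conj htQ' (fun h => ht1 (congrArg Subtype.val h))
      (fun h => htnez (congrArg Subtype.val h))
    exact isConj_iff.mpr ⟨q, congrArg Subtype.val hq⟩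
  have hnzt : ¬ IsConj z (z * t) := fun h => ht (h.trans hzt.symm)
  obtain ⟨e, ψ, hψ⟩ := hM.2
  obtain ⟨e', ψ', hψ', hu⟩ := exists_iso_std32 hψ tQ
    (type32_of_nonconj hM hψ tQ htQ2 htQ1 (by rw [htQv]; exact ht))
  -- the maps
  have hzT : z ∈ Subgroup.centralizer ({t} : Set G) :=
    Subgroup.mem_centralizer_singleton_iff.mpr htz.symm
  obtain ⟨zb, hzb⟩ : ∃ zb : ↥(Subgroup.centralizer ({t} : Set G)) ⧸
      (Subgroup.zpowers t).subgroupOf (Subgroup.centralizer ({t} : Set G)),
      zb = QuotientGroup.mk (⟨z, hzT⟩ : ↥(Subgroup.centralizer ({t} : Set G))) := ⟨_, rfl⟩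
  have hAT : ∀ a : ↥(cenT Q tQ), ((a : Subgroup.centralizer ({z} : Set G)) : G) ∈
      Subgroup.centralizer ({t} : Set G) := by
    intro a
    apply Subgroup.mem_centralizer_singleton_iff.mpr
    have h1 := Subgroup.mem_centralizer_singleton_iff.mp a.2
    have h2 := congrArg Subtype.val h1
    simp only [Subgroup.coe_mul, htQv] at h2
    exact h2
  obtain ⟨ι, hι⟩ : ∃ ι : ↥(cenT Q tQ) →* ↥(Subgroup.centralizer ({t} : Set G)),
      ∀ a, ((ι a : ↥(Subgroup.centralizer ({t} : Set G))) : G) =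
        ((a : Subgroup.centralizer ({z} : Set G)) : G) :=
    ⟨((Subgroup.subtype _).comp (Subgroup.subtype _)).codRestrict _ hAT, fun a => rfl⟩
  have memN : ∀ x : ↥(Subgroup.centralizer ({t} : Set G)),
      x ∈ (Subgroup.zpowers t).subgroupOf (Subgroup.centralizer ({t} : Set G)) ↔
        (x : G) = 1 ∨ (x : G) = t := by
    intro x
    rw [Subgroup.mem_subgroupOf, mem_zpowers_iff_of_sq htt]
  have hφmem : ∀ a : ↥(cenT Q tQ), (QuotientGroup.mk' ((Subgroup.zpowers t).subgroupOf
      (Subgroup.centralizer ({t} : Set G)))).comp ι a ∈ Subgroup.centralizer ({zb} : Set _) := by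
    intro a
    apply Subgroup.mem_centralizer_singleton_iff.mpr
    rw [hzb]
    show (QuotientGroup.mk (ι a * ⟨z, hzT⟩) : _ ⧸ _) = QuotientGroup.mk (⟨z, hzT⟩ * ι a)
    congr 1
    apply Subtype.ext
    simp only [Subgroup.coe_mul, hι]
    exact Subgroup.mem_centralizer_singleton_iff.mp (a : Subgroup.centralizer ({z} : Set G)).2
  obtain ⟨φ, hφ⟩ : ∃ φ : ↥(cenT Q tQ) →* ↥(Subgroup.centralizer ({zb} : Set
      (↥(Subgroup.centralizer ({t} : Set G)) ⧸
        (Subgroup.zpowers t).subgroupOf (Subgroup.centralizer ({t} : Set G))))),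
      ∀ a, ((φ a : ↥(Subgroup.centralizer ({zb} : Set _))) : ↥(Subgroup.centralizer ({t} : Set G)) ⧸
        (Subgroup.zpowers t).subgroupOf (Subgroup.centralizer ({t} : Set G))) =
        QuotientGroup.mk (ι a) :=
    ⟨((QuotientGroup.mk' _).comp ι).codRestrict _ hφmem, fun a => rfl⟩
  have hsurj : Function.Surjective φ := by
    rintro ⟨d, hd⟩
    obtain ⟨x, rfl⟩ := QuotientGroup.mk_surjective d
    have h1 := Subgroup.mem_centralizer_singleton_iff.mp hd
    rw [hzb, ← QuotientGroup.mk_mul, ← QuotientGroup.mk_mul, QuotientGroup.eq, memN] at h1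
    simp only [Subgroup.coe_mul, InvMemClass.coe_inv] at h1
    have hxz : (x : G) * z = z * x := by
      rcases h1 with h1 | h1
      · calc (x : G) * z = ((x : G) * z) * (((x : G) * z)⁻¹ * (z * x)) := by rw [h1, mul_one]
          _ = z * x := by group
      · exfalso
        apply hnzt
        rw [isConj_iff]
        refine ⟨(x : G)⁻¹, ?_⟩
        calc (x : G)⁻¹ * z * (x : G)⁻¹⁻¹ = z * (((x : G) * z)⁻¹ * (z * x)) := by group
          _ = z * t := by rw [h1]
    have hxt : (x : G) * t = t * x := Subgroup.mem_centralizer_singleton_iff.mp x.2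
    refine ⟨⟨⟨x, Subgroup.mem_centralizer_singleton_iff.mpr hxz⟩, ?_⟩, ?_⟩
    · apply Subgroup.mem_centralizer_singleton_iff.mpr
      apply Subtype.ext
      simp only [Subgroup.coe_mul, htQv]
      exact hxt
    · apply Subtype.ext
      rw [hφ]
      congr 1
      apply Subtype.ext
      rw [hι]
  have hker : ∀ a, φ a = 1 ↔ a = 1 ∨ (a : Subgroup.centralizer ({z} : Set G)) = tQ := by
    intro a
    have h1 : φ a = 1 ↔ (QuotientGroup.mk (ι a) : ↥(Subgroup.centralizer ({t} : Set G)) ⧸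
        (Subgroup.zpowers t).subgroupOf (Subgroup.centralizer ({t} : Set G))) = 1 := by
      rw [← hφ]
      constructor
      · intro h; rw [h]; rfl
      · intro h; exact Subtype.ext h
    rw [h1, QuotientGroup.eq_one_iff, memN, hι]
    constructor
    · rintro (h | h)
      · left; exact Subtype.ext (Subtype.ext h)
      · right; apply Subtype.ext; rw [h, htQv]
    · rintro (h | h)
      · left; rw [h]; rfl
      · right; rw [h, htQv]
  have hB : BabyHyp e' ψ' φ := ⟨hM, hψ', hu, htQ2, hsurj, hker⟩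
  obtain ⟨hnR, e'', ψ'', hperp⟩ := hB.exists_perpIso
  have hzb1 : zb ≠ 1 := by
    rw [hzb]
    intro h
    rw [QuotientGroup.eq_one_iff, memN] at h
    rcases h with h | h
    · exact hz1 h
    · exact htnez h.symm
  have hzbo : orderOf zb = 2 := by
    apply orderOf_eq_prime _ hzb1
    rw [pow_two, hzb, ← QuotientGroup.mk_mul]
    have : (⟨z, hzT⟩ : ↥(Subgroup.centralizer ({t} : Set G))) * ⟨z, hzT⟩ = 1 := Subtype.ext hzz
    rw [this]; rfl
  refine ⟨zb, BabyHyp.RR Q tQ φ, hnR, ⟨hzbo, hB.genFitting_eq, hB.es_RR.isExtraspecial, ?_, ?_⟩,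
    e'', ψ'', hperp⟩
  · rw [hB.card_RR]
  · -- `z` is not weakly closed
    have hgT : g ∈ Subgroup.centralizer ({t} : Set G) :=
      Subgroup.mem_centralizer_singleton_iff.mpr hgt
    have hst : g * z * g⁻¹ * t = t * (g * z * g⁻¹) := by
      have h1 : g⁻¹ * t = t * g⁻¹ := by
        calc g⁻¹ * t = g⁻¹ * (t * g) * g⁻¹ := by group
          _ = t * g⁻¹ := by rw [← hgt]; group
      calc g * z * g⁻¹ * t = g * z * (g⁻¹ * t) := by group
        _ = g * (z * t) * g⁻¹ := by rw [h1]; group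
        _ = (g * t) * z * g⁻¹ := by rw [← htz]; group
        _ = t * (g * z * g⁻¹) := by rw [hgt]; group
    obtain ⟨sA, hsA⟩ : ∃ sA : ↥(cenT Q tQ),
        (sA : Subgroup.centralizer ({z} : Set G)) = ⟨g * z * g⁻¹, hsc⟩ := by
      refine ⟨⟨⟨g * z * g⁻¹, hsc⟩, ?_⟩, rfl⟩
      apply Subgroup.mem_centralizer_singleton_iff.mpr
      apply Subtype.ext
      simp only [Subgroup.coe_mul, htQv]
      exact hst
    have hconj : (QuotientGroup.mk (⟨g, hgT⟩ : ↥(Subgroup.centralizer ({t} : Set G))) :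
        ↥(Subgroup.centralizer ({t} : Set G)) ⧸
        (Subgroup.zpowers t).subgroupOf (Subgroup.centralizer ({t} : Set G))) * zb *
        (QuotientGroup.mk (⟨g, hgT⟩ : ↥(Subgroup.centralizer ({t} : Set G))))⁻¹ =
        ((φ sA : ↥(Subgroup.centralizer ({zb} : Set _))) : ↥(Subgroup.centralizer ({t} : Set G)) ⧸
        (Subgroup.zpowers t).subgroupOf (Subgroup.centralizer ({t} : Set G))) := by
      rw [hφ, hzb, ← QuotientGroup.mk_mul, ← QuotientGroup.mk_inv, ← QuotientGroup.mk_mul]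
      congr 1
      apply Subtype.ext
      rw [hι, hsA]
      rfl
    refine ⟨QuotientGroup.mk (⟨g, hgT⟩ : ↥(Subgroup.centralizer ({t} : Set G))), ?_, ?_⟩
    · rw [hconj]
      refine ⟨(φ sA).2, ?_⟩
      exact (BabyHyp.mem_RR _).2 ⟨sA, by rw [hsA]; exact hsQ, rfl⟩
    · rw [hconj, hφ, hzb]
      intro h
      rw [QuotientGroup.eq, memN] at h
      simp only [Subgroup.coe_mul, InvMemClass.coe_inv, hι, hsA] at h
      rcases h with h | h
      · apply hsz
        calc g * z * g⁻¹ = (g * z * g⁻¹) * ((g * z * g⁻¹)⁻¹ * z) := by rw [h, mul_one]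
          _ = z := by group
      · apply hnzt
        rw [isConj_iff]
        refine ⟨g, ?_⟩
        have h2 : z = (g * z * g⁻¹) * t := by
          calc z = (g * z * g⁻¹) * ((g * z * g⁻¹)⁻¹ * z) := by group
            _ = (g * z * g⁻¹) * t := by rw [h]
        calc g * z * g⁻¹ = (g * z * g⁻¹) * (t * t) := by rw [htt, mul_one]
          _ = ((g * z * g⁻¹) * t) * t := by group
          _ = z * t := by rw [← h2]

end Cfsg.Agent.Lib.Helper90
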