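import Mathlib
import Cfsg.Prelude.Def_MonsterType
import Cfsg.Agent.Lib.Helper90.Pair

set_option autoImplicit false

namespace Cfsg.Agent.Lib.Helper90

variable {G : Type*} [Group G]

/-- normalisers grow in `p`-groups (ambient form). -/
theorem exists_normalizing_of_lt [Finite G] {p : ℕ} [Fact p.Prime] {S T : Subgroup G}
    (hT : IsPGroup p T) (hlt : S < T) : ∃ x ∈ T, x ∉ S ∧ x ∈ Subgroup.normalizer (S : Set G) := by
  have hnil : Group.IsNilpotent T := hT.isNilpotent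
  have hnc : NormalizerCondition T := Group.normalizerCondition_of_isNilpotent
  have h1 : S.subgroupOf T < ⊤ := by
    rw [lt_top_iff_ne_top]
    intro h
    rw [Subgroup.subgroupOf_eq_top] at h
    exact absurd h (not_le_of_gt hlt)
  have h2 := hnc _ h1
  obtain ⟨x, hx, hxS⟩ := SetLike.exists_of_lt h2
  refine ⟨x, x.2, fun h => hxS (Subgroup.mem_subgroupOf.mpr h), ?_⟩
  rw [Subgroup.mem_normalizer_iff] at hx ⊢
  intro u
  constructor
  · intro hu
    have := (hx ⟨u, hlt.le hu⟩).mp (Subgroup.mem_subgroupOf.mpr hu)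
    simpa [Subgroup.mem_subgroupOf] using this
  · intro hu
    have huT : u ∈ T := by
      have h3 : (x : G)⁻¹ * ((x : G) * u * (x : G)⁻¹) * (x : G) ∈ T :=
        T.mul_mem (T.mul_mem (T.inv_mem x.2) (hlt.le hu)) x.2
      have e : (x : G)⁻¹ * ((x : G) * u * (x : G)⁻¹) * (x : G) = u := by group
      rwa [e] at h3
    have := (hx ⟨u, huT⟩).mpr (by simpa [Subgroup.mem_subgroupOf] using hu)
    simpa [Subgroup.mem_subgroupOf] using this

/-- membership in a conjugate subgroup. -/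
theorem mem_map_conj_iff (H : Subgroup G) (g x : G) :
    x ∈ H.map (MulAut.conj g).toMonoidHom ↔ g⁻¹ * x * g ∈ H := by
  constructor
  · rintro ⟨y, hy, rfl⟩
    simp only [MulEquiv.coe_toMonoidHom, MulAut.conj_apply]
    have : g⁻¹ * (g * y * g⁻¹) * g = y := by group
    rw [this]; exact hy
  · intro h
    refine ⟨g⁻¹ * x * g, h, ?_⟩
    simp only [MulEquiv.coe_toMonoidHom, MulAut.conj_apply]
    group

namespace ES

variable {Q : Subgroup G} {z : G}

/-- The key Sylow argument: if `s = z^g ∈ Q - Z(Q)` then some element fixes `s` and moves `z` to `zs`. -/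
theorem exists_transvection [Finite G] (h : ES Q z)
    (hL2 : Subgroup.centralizer (Q : Set G) = ((Subgroup.center ↥Q).map Q.subtype))
    (hL3 : Subgroup.centralizer (((Subgroup.center ↥Q).map Q.subtype) : Set G) ≤
      Subgroup.normalizer (Q : Set G))
    {g s : G} (hs_def : s = g * z * g⁻¹) (hs : s ∈ Q) (hsz : s ≠ z) :
    ∃ x : G, x * s * x⁻¹ = s ∧ x * z * x⁻¹ = z * s := by
  have : Fact (Nat.Prime 2) := ⟨Nat.prime_two⟩
  have hs1 : s ≠ 1 := by
    intro h1
    apply h.z_ne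
    rw [hs_def] at h1
    have := congrArg (fun w => g⁻¹ * w * g) h1
    simpa [mul_assoc] using this
  have hss : s * s = 1 := by
    rw [hs_def]
    calc g * z * g⁻¹ * (g * z * g⁻¹) = g * (z * z) * g⁻¹ := by group
      _ = 1 := by rw [h.z_sq]; group
  obtain ⟨C, hC⟩ : ∃ C : Subgroup G, C = Subgroup.centralizer {z} ⊓ Subgroup.centralizer {s} := ⟨_, rfl⟩
  have memC : ∀ c, c ∈ C ↔ c * z = z * c ∧ c * s = s * c := by
    intro c
    rw [hC, Subgroup.mem_inf, Subgroup.mem_centralizer_singleton_iff,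
      Subgroup.mem_centralizer_singleton_iff]
  obtain ⟨P, hP⟩ : ∃ P : Subgroup G, P = Q ⊓ Subgroup.centralizer {s} := ⟨_, rfl⟩
  have memP : ∀ c, c ∈ P ↔ c ∈ Q ∧ c * s = s * c := by
    intro c
    rw [hP, Subgroup.mem_inf, Subgroup.mem_centralizer_singleton_iff]
  have hPC : P ≤ C := fun p hp => (memC p).mpr ⟨h.z_comm p ((memP p).mp hp).1, ((memP p).mp hp).2⟩
  have hP2 : IsPGroup 2 P := h.two.to_le (by rw [hP]; exact inf_le_left)
  obtain ⟨S0, hS0⟩ := (hP2.comap_subtype (K := C)).exists_le_sylow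
  obtain ⟨S, hS⟩ : ∃ S : Subgroup G, S = (S0 : Subgroup C).map C.subtype := ⟨_, rfl⟩
  have hPS : P ≤ S := by
    intro p hp
    rw [hS]
    exact ⟨⟨p, hPC hp⟩, hS0 (Subgroup.mem_subgroupOf.mpr hp), rfl⟩
  have hSC : S ≤ C := by rw [hS]; exact Subgroup.map_subtype_le _
  have hS2 : IsPGroup 2 S := by rw [hS]; exact S0.2.map _
  obtain ⟨H', hH'⟩ : ∃ H' : Subgroup G, H' = Subgroup.centralizer {s} := ⟨_, rfl⟩
  have memH' : ∀ c, c ∈ H' ↔ c * s = s * c := by
    intro c
    rw [hH', Subgroup.mem_centralizer_singleton_iff]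
  have hSH' : S ≤ H' := fun u hu => (memH' u).mpr ((memC u).mp (hSC hu)).2
  obtain ⟨T0, hT0⟩ := (hS2.comap_subtype (K := H')).exists_le_sylow
  obtain ⟨T, hT⟩ : ∃ T : Subgroup G, T = (T0 : Subgroup H').map H'.subtype := ⟨_, rfl⟩
  have hST : S ≤ T := by
    intro u hu
    rw [hT]
    exact ⟨⟨u, hSH' hu⟩, hT0 (Subgroup.mem_subgroupOf.mpr hu), rfl⟩
  have hTH' : T ≤ H' := by rw [hT]; exact Subgroup.map_subtype_le _
  have hT2 : IsPGroup 2 T := by rw [hT]; exact T0.2.map _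
  -- the conjugate of Q
  obtain ⟨Q', hQ'⟩ : ∃ Q' : Subgroup G, Q' = Q.map (MulAut.conj g).toMonoidHom := ⟨_, rfl⟩
  have memQ' : ∀ c, c ∈ Q' ↔ g⁻¹ * c * g ∈ Q := by
    intro c; rw [hQ', mem_map_conj_iff]
  have hQ'2 : IsPGroup 2 Q' := by rw [hQ']; exact h.two.map _
  have hQ'H' : Q' ≤ H' := by
    intro c hc
    rw [memH', hs_def]
    have h1 := h.z_comm _ ((memQ' c).mp hc)
    calc c * (g * z * g⁻¹) = g * ((g⁻¹ * c * g) * z) * g⁻¹ := by group
      _ = g * (z * (g⁻¹ * c * g)) * g⁻¹ := by rw [h1]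
      _ = g * z * g⁻¹ * c := by group
  have hQ'n : (Q'.subgroupOf H').Normal := by
    constructor
    intro n hn c
    rw [Subgroup.mem_subgroupOf] at hn ⊢
    have hc : (c : G) * s = s * c := (memH' c).mp c.2
    have h1 : (g⁻¹ * c * g) * z = z * (g⁻¹ * c * g) := by
      rw [hs_def] at hc
      calc g⁻¹ * c * g * z = g⁻¹ * (c * (g * z * g⁻¹)) * g := by group
        _ = g⁻¹ * ((g * z * g⁻¹) * c) * g := by rw [hc]
        _ = z * (g⁻¹ * c * g) := by group
    have h2 : g⁻¹ * c * g ∈ Subgroup.normalizer (Q : Set G) :=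
      hL3 ((h.mem_centralizer_center_iff _).mpr h1)
    have h3 := (Subgroup.mem_normalizer_iff.mp h2 _).mp ((memQ' _).mp hn)
    rw [memQ']
    have e : g⁻¹ * ((c * n * c⁻¹ : H') : G) * g = g⁻¹ * c * g * (g⁻¹ * n * g) * (g⁻¹ * c * g)⁻¹ := by
      simp only [Subgroup.coe_mul, InvMemClass.coe_inv]
      group
    rw [e]; exact h3
  have hQ'T : Q' ≤ T := by
    intro c hc
    have := normal_pGroup_le_sylow T0 (Q'.subgroupOf H') (hQ'2.comap_subtype)
    rw [hT]
    exact ⟨⟨c, hQ'H' hc⟩, this (Subgroup.mem_subgroupOf.mpr hc), rfl⟩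
  have hne : S ≠ T := by
    intro heq
    have h1 : ∀ q ∈ Q, (g⁻¹ * z * g) * q = q * (g⁻¹ * z * g) := by
      intro q hq
      have h2 : g * q * g⁻¹ ∈ Q' := by
        rw [memQ']
        have e : g⁻¹ * (g * q * g⁻¹) * g = q := by group
        rw [e]; exact hq
      have h3 := ((memC _).mp (hSC (heq ▸ hQ'T h2))).1
      calc g⁻¹ * z * g * q = g⁻¹ * (z * (g * q * g⁻¹)) * g := by group
        _ = g⁻¹ * ((g * q * g⁻¹) * z) * g := by rw [h3]
        _ = q * (g⁻¹ * z * g) := by group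
    have h2 : g⁻¹ * z * g ∈ Subgroup.centralizer (Q : Set G) := by
      rw [Subgroup.mem_centralizer_iff]
      intro q hq
      exact (h1 q hq).symm
    rw [hL2] at h2
    rcases (h.mem_center_map_iff' _).mp h2 with h3 | h3
    · apply h.z_ne
      have := congrArg (fun w => g * w * g⁻¹) h3
      simpa [mul_assoc] using this
    · apply hsz
      rw [hs_def]
      have := congrArg (fun w => g * w * g⁻¹) h3
      simpa [mul_assoc] using this.symm
  obtain ⟨x, hxT, hxS, hxN⟩ := exists_normalizing_of_lt hT2 (lt_of_le_of_ne hST hne)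
  have hxs : x * s = s * x := (memH' x).mp (hTH' hxT)
  have hxC : x ∉ C := by
    intro hxC
    apply hxS
    have hp : IsPGroup 2 ((T ⊓ C).subgroupOf C) := (hT2.to_le inf_le_left).comap_subtype
    have hle : (S0 : Subgroup C) ≤ (T ⊓ C).subgroupOf C := by
      intro u hu
      rw [Subgroup.mem_subgroupOf]
      refine ⟨hST ?_, u.2⟩
      rw [hS]
      exact ⟨u, hu, rfl⟩
    have heq := S0.is_maximal' hp hle
    have h1 : (⟨x, hxC⟩ : C) ∈ (T ⊓ C).subgroupOf C := Subgroup.mem_subgroupOf.mpr ⟨hxT, hxC⟩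
    rw [heq] at h1
    rw [hS]
    exact ⟨⟨x, hxC⟩, h1, rfl⟩
  have hxz : x * z ≠ z * x := fun hc => hxC ((memC x).mpr ⟨hc, hxs⟩)
  have hzP : z ∈ P := (memP z).mpr ⟨h.z_mem, (h.z_comm s hs).symm⟩
  refine ⟨x, by rw [hxs]; group, ?_⟩
  have hcomm : ∀ p ∈ Q, p * s = s * p → (x * z * x⁻¹) * p = p * (x * z * x⁻¹) := by
    intro p hp hps
    have hpS : p ∈ S := hPS ((memP p).mpr ⟨hp, hps⟩)
    have h1 : x⁻¹ * p * x ∈ S := by
      rw [Subgroup.mem_normalizer_iff] at hxN
      rw [hxN]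
      have e : x * (x⁻¹ * p * x) * x⁻¹ = p := by group
      rw [e]; exact hpS
    have h2 := ((memC _).mp (hSC h1)).1
    calc x * z * x⁻¹ * p = x * (z * (x⁻¹ * p * x)) * x⁻¹ := by group
      _ = x * ((x⁻¹ * p * x) * z) * x⁻¹ := by rw [h2]
      _ = p * (x * z * x⁻¹) := by group
  rcases h.centralizer_centralizer hL2 hL3 hs hs1 hsz hss hcomm with h1 | h1 | h1 | h1
  · exfalso
    apply h.z_ne
    have := congrArg (fun w => x⁻¹ * w * x) h1
    simpa [mul_assoc] using this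
  · exfalso
    apply hxz
    calc x * z = (x * z * x⁻¹) * x := by group
      _ = z * x := by rw [h1]
  · exfalso
    apply hsz
    have h2 : x * z * x⁻¹ = x * s * x⁻¹ := by
      rw [h1, hxs]; group
    have := congrArg (fun w => x⁻¹ * w * x) h2
    simpa [mul_assoc] using this.symm
  · exact h1

end ES

end Cfsg.Agent.Lib.Helper90
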